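import Mathlib
import Groth.Prelude.Def_CAlg2
import Groth.Agent.H14.HensProp.EtLoc
import Groth.Agent.H14.GeomUnibranch
import Groth.Agent.H14.HensProp.Unibranch3

set_option autoImplicit false
set_option linter.style.haveILetI false
universe u

namespace Groth.Agent.H66.PolyUnibranch

open IsLocalRing

/-- additivity of `p^n`-th powers when `p = 1` or `p` is a prime which is zero in the ring -/
theorem add_pow_ppow {Q : Type*} [CommRing Q] (p : ℕ) (hp : p = 1 ∨ (p.Prime ∧ (p : Q) = 0))
    (x y : Q) (n : ℕ) : (x + y) ^ p ^ n = x ^ p ^ n + y ^ p ^ n := by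
  rcases hp with rfl | ⟨hprime, h0⟩
  · simp
  · rcases subsingleton_or_nontrivial Q with h | h
    · exact Subsingleton.elim _ _
    · haveI := Fact.mk hprime
      have hc : ringChar Q = p := CharP.ringChar_of_prime_eq_zero hprime h0
      haveI : CharP Q p := hc ▸ ringChar.charP Q
      exact add_pow_char_pow x y p n

section K1

variable {A Q : Type*} [CommRing A] [CommRing Q] (ψ : A →+* Q) (p : ℕ)
  (hp : p = 1 ∨ (p.Prime ∧ (p : Q) = 0))

/-- the set of elements having a `p^N`-th power in the range of `ψ` is a subring -/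
def ppowSubring : Subring Q where
  carrier := {y | ∃ N : ℕ, y ^ p ^ N ∈ ψ.range}
  mul_mem' := by
    rintro x y ⟨N₁, a₁, h₁⟩ ⟨N₂, a₂, h₂⟩
    refine ⟨N₁ + N₂, a₁ ^ p ^ N₂ * a₂ ^ p ^ N₁, ?_⟩
    rw [map_mul, map_pow, map_pow, h₁, h₂]
    ring
  one_mem' := ⟨0, 1, by simp⟩
  add_mem' := by
    rintro x y ⟨N₁, a₁, h₁⟩ ⟨N₂, a₂, h₂⟩
    refine ⟨N₁ + N₂, a₁ ^ p ^ N₂ + a₂ ^ p ^ N₁, ?_⟩
    rw [add_pow_ppow p hp, map_add, map_pow, map_pow, h₁, h₂]
    ring
  zero_mem' := ⟨0, 0, by simp⟩
  neg_mem' := by
    rintro x ⟨N, a, h⟩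
    rcases neg_one_pow_eq_or Q (p ^ N) with h1 | h1
    · exact ⟨N, a, by rw [neg_pow, h1, one_mul, h]⟩
    · exact ⟨N, -a, by rw [neg_pow, h1, map_neg, h]; ring⟩

theorem mem_ppowSubring (y : Q) : y ∈ ppowSubring ψ p hp ↔ ∃ N : ℕ, y ^ p ^ N ∈ ψ.range :=
  Iff.rfl

end K1

section Poly

variable {R Rν : Type u} [CommRing R] [IsLocalRing R] [CommRing Rν] [IsLocalRing Rν]
  [Algebra R Rν] (σ : Type*)
  (p : ℕ) (hp : p = 1 ∨ (p.Prime ∧ (p : Rν) ∈ maximalIdeal Rν))
  (hpi : ∀ x : Rν, ∃ (n : ℕ) (r : R), x ^ p ^ n - algebraMap R Rν r ∈ maximalIdeal Rν)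

include hp hpi in
/-- **Frobenius approximation**: every polynomial over `Rν` has a `p^N`-th power congruent to
a polynomial over `R` modulo the extension of the maximal ideal of `Rν`. -/
theorem exists_pow_sub_mem (b : MvPolynomial σ Rν) :
    ∃ (N : ℕ) (a : MvPolynomial σ R), b ^ p ^ N - MvPolynomial.map (algebraMap R Rν) a ∈
      (maximalIdeal Rν).map (MvPolynomial.C : Rν →+* MvPolynomial σ Rν) := by
  set J := (maximalIdeal Rν).map (MvPolynomial.C : Rν →+* MvPolynomial σ Rν) with hJ
  let ψ : MvPolynomial σ R →+* (MvPolynomial σ Rν ⧸ J) :=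
    (Ideal.Quotient.mk J).comp (MvPolynomial.map (algebraMap R Rν))
  have hpQ : p = 1 ∨ (p.Prime ∧ ((p : ℕ) : MvPolynomial σ Rν ⧸ J) = 0) := by
    rcases hp with h | ⟨h1, h2⟩
    · exact Or.inl h
    · refine Or.inr ⟨h1, ?_⟩
      have : ((p : ℕ) : MvPolynomial σ Rν ⧸ J) =
          Ideal.Quotient.mk J (MvPolynomial.C ((p : ℕ) : Rν)) := by simp
      rw [this, Ideal.Quotient.eq_zero_iff_mem]
      exact Ideal.mem_map_of_mem _ h2
  have key : ∀ b : MvPolynomial σ Rν, Ideal.Quotient.mk J b ∈ ppowSubring ψ p hpQ := by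
    intro b
    induction b using MvPolynomial.induction_on with
    | C c =>
      obtain ⟨n, r, hr⟩ := hpi c
      refine ⟨n, MvPolynomial.C r, ?_⟩
      show Ideal.Quotient.mk J (MvPolynomial.map (algebraMap R Rν) (MvPolynomial.C r)) = _
      rw [← map_pow, Ideal.Quotient.eq, MvPolynomial.map_C, ← map_pow, ← map_sub]
      have := Ideal.mem_map_of_mem (MvPolynomial.C : Rν →+* MvPolynomial σ Rν) hr
      rw [← neg_sub, map_neg]
      exact J.neg_mem this
    | add f g hf hg =>
      rw [map_add]
      exact Subring.add_mem _ hf hg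
    | mul_X f i hf =>
      rw [map_mul]
      refine Subring.mul_mem _ hf ⟨0, MvPolynomial.X i, ?_⟩
      show Ideal.Quotient.mk J (MvPolynomial.map (algebraMap R Rν) (MvPolynomial.X i)) = _
      simp
  obtain ⟨N, a, ha⟩ := key b
  refine ⟨N, a, ?_⟩
  rw [← Ideal.Quotient.eq, map_pow]
  exact ha.symm

/-- a prime of `Rν[x]` lying over a prime of `R[x]` which contains `𝔪_R` contains `𝔪_{Rν}` -/
theorem map_maximalIdeal_le [Algebra.IsIntegral R Rν] (q : Ideal (MvPolynomial σ R))
    (hq : (maximalIdeal R).map (MvPolynomial.C : R →+* MvPolynomial σ R) ≤ q)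
    (Q : Ideal (MvPolynomial σ Rν)) [Q.IsPrime]
    (hQ : Q.comap (MvPolynomial.map (algebraMap R Rν)) = q) :
    (maximalIdeal Rν).map (MvPolynomial.C : Rν →+* MvPolynomial σ Rν) ≤ Q := by
  rw [Ideal.map_le_iff_le_comap]
  have hP' : (Q.comap (MvPolynomial.C : Rν →+* MvPolynomial σ Rν)).IsPrime := Ideal.comap_isPrime _ _
  have h1 : (Q.comap (MvPolynomial.C : Rν →+* MvPolynomial σ Rν)).comap (algebraMap R Rν) =
      maximalIdeal R := by
    have h2 : (Q.comap (MvPolynomial.C : Rν →+* MvPolynomial σ Rν)).comap (algebraMap R Rν) =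
        q.comap (MvPolynomial.C : R →+* MvPolynomial σ R) := by
      rw [← hQ, Ideal.comap_comap, Ideal.comap_comap]
      congr 1
      ext r
      simp
    rw [h2]
    have hqp : q.IsPrime := hQ ▸ Ideal.comap_isPrime _ _
    have hqc : (q.comap (MvPolynomial.C : R →+* MvPolynomial σ R)).IsPrime :=
      Ideal.comap_isPrime _ _
    exact le_antisymm (IsLocalRing.le_maximalIdeal hqc.ne_top) (Ideal.map_le_iff_le_comap.mp hq)
  have hmax : (Q.comap (MvPolynomial.C : Rν →+* MvPolynomial σ Rν)).IsMaximal :=
    Ideal.isMaximal_of_isIntegral_of_isMaximal_comap (R := R) _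
      (h1 ▸ IsLocalRing.maximalIdeal.isMaximal R)
  exact (IsLocalRing.eq_maximalIdeal hmax).ge

include hp hpi in
/-- uniqueness of the prime of `Rν[x]` over a prime of `R[x]` containing `𝔪_R` -/
theorem prime_over_unique [Algebra.IsIntegral R Rν] (q : Ideal (MvPolynomial σ R))
    (hq : (maximalIdeal R).map (MvPolynomial.C : R →+* MvPolynomial σ R) ≤ q)
    (Q₁ Q₂ : Ideal (MvPolynomial σ Rν)) [Q₁.IsPrime] [Q₂.IsPrime]
    (hQ₁ : Q₁.comap (MvPolynomial.map (algebraMap R Rν)) = q)
    (hQ₂ : Q₂.comap (MvPolynomial.map (algebraMap R Rν)) = q) : Q₁ = Q₂ := by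
  have aux : ∀ (Q₁ Q₂ : Ideal (MvPolynomial σ Rν)) [Q₁.IsPrime] [Q₂.IsPrime]
      (_ : Q₁.comap (MvPolynomial.map (algebraMap R Rν)) = q)
      (_ : Q₂.comap (MvPolynomial.map (algebraMap R Rν)) = q), Q₁ ≤ Q₂ := by
    intro Q₁ Q₂ _ _ hQ₁ hQ₂ b hb
    obtain ⟨N, a, ha⟩ := exists_pow_sub_mem σ p hp hpi b
    have hJ₁ := map_maximalIdeal_le σ q hq Q₁ hQ₁
    have hJ₂ := map_maximalIdeal_le σ q hq Q₂ hQ₂
    have ha1 : MvPolynomial.map (algebraMap R Rν) a ∈ Q₁ := by
      have h1 : b ^ p ^ N ∈ Q₁ := Ideal.pow_mem_of_mem _ hb _ (pow_pos (by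
        rcases hp with h | h
        · omega
        · exact h.1.pos) _)
      have := Q₁.sub_mem h1 (hJ₁ ha)
      simpa using this
    have ha2 : a ∈ q := by rw [← hQ₁]; exact ha1
    have ha3 : MvPolynomial.map (algebraMap R Rν) a ∈ Q₂ := by
      rw [← hQ₂] at ha2; exact ha2
    have h3 : b ^ p ^ N ∈ Q₂ := by
      have := Q₂.add_mem (hJ₂ ha) ha3
      simpa using this
    exact Ideal.IsPrime.mem_of_pow_mem inferInstance _ h3
  exact le_antisymm (aux Q₁ Q₂ hQ₁ hQ₂) (aux Q₂ Q₁ hQ₂ hQ₁)

end Poly

/-- polynomial rings in finitely many variables over an integrally closed domain are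
integrally closed -/
theorem isIntegrallyClosed_mvPolynomial_fin (R : Type u) [CommRing R] [IsDomain R]
    [IsIntegrallyClosed R] (n : ℕ) : IsIntegrallyClosed (MvPolynomial (Fin n) R) := by
  induction n with
  | zero => exact IsIntegrallyClosed.of_equiv (MvPolynomial.isEmptyAlgEquiv R (Fin 0)).symm.toRingEquiv
  | succ n ih =>
    haveI := ih
    exact IsIntegrallyClosed.of_equiv (MvPolynomial.finSuccEquiv R n).symm.toRingEquiv

section Core

open Groth.Agent.H3.UnionEtale Groth.Agent.H14.HensProp.UniqueMin Groth.Agent.H14.HensProp.StrictUni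

variable {R Rν : Type u} [CommRing R] [IsLocalRing R] [IsDomain R] [CommRing Rν] [IsLocalRing Rν]
  [IsDomain Rν] [IsIntegrallyClosed Rν] [Algebra R Rν] [Algebra.IsIntegral R Rν]
  (hinj : Function.Injective (algebraMap R Rν)) (n : ℕ)
  (p : ℕ) (hp : p = 1 ∨ (p.Prime ∧ (p : Rν) ∈ maximalIdeal Rν))
  (hpi : ∀ x : Rν, ∃ (n : ℕ) (r : R), x ^ p ^ n - algebraMap R Rν r ∈ maximalIdeal Rν)
  (q : Ideal (MvPolynomial (Fin n) R)) [q.IsPrime]
  (hq : (maximalIdeal R).map (MvPolynomial.C : R →+* MvPolynomial (Fin n) R) ≤ q)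

attribute [local instance] MvPolynomial.algebraMvPolynomial

include hinj hp hpi hq in
/-- **Localizations of polynomial rings** over a local domain `R` admitting an integral normal local
overring with purely inseparable residue extension, at primes over the closed point, are
geometrically unibranch. -/
theorem isReduced_and_isGeomUnibranch :
    IsReduced (Localization.AtPrime q) ∧ CAlg2.IsGeomUnibranch (Localization.AtPrime q) := by
  let A := MvPolynomial (Fin n) R
  let B := MvPolynomial (Fin n) Rν
  let L := Localization.AtPrime q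
  let M : Submonoid B := Algebra.algebraMapSubmonoid B q.primeCompl
  let T := Localization M
  haveI : IsIntegrallyClosed B := isIntegrallyClosed_mvPolynomial_fin Rν n
  have hinjAB : Function.Injective (algebraMap A B) := MvPolynomial.map_injective _ hinj
  haveI : Algebra.IsIntegral A B := by
    refine ⟨fun f => ?_⟩
    rw [MvPolynomial.isIntegral_iff_isIntegral_coeff]
    exact fun m => Algebra.IsIntegral.isIntegral _
  have hM : M ≤ nonZeroDivisors B := by
    rintro _ ⟨a, ha, rfl⟩
    refine mem_nonZeroDivisors_of_ne_zero ?_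
    intro h0
    have : a = 0 := hinjAB (by rw [h0, map_zero])
    exact ha (this ▸ q.zero_mem)
  haveI : IsDomain T := IsLocalization.isDomain_localization hM
  haveI : IsIntegrallyClosed T := isIntegrallyClosed_of_isLocalization T M hM
  haveI : Algebra.IsIntegral L T := ⟨isIntegral_localization⟩
  have hinjLT : Function.Injective (algebraMap L T) := localizationAlgebra_injective L T hinjAB
  -- every maximal ideal of `T` contracts to a prime of `B` over `q`
  have hover : ∀ (M' : Ideal T), M'.IsMaximal →
      (M'.comap (algebraMap B T)).comap (MvPolynomial.map (algebraMap R Rν)) = q := by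
    intro M' hM'
    have h1 : (M'.comap (algebraMap L T)).IsMaximal :=
      Ideal.isMaximal_comap_of_isIntegral_of_isMaximal (R := L) M'
    have h2 : M'.comap (algebraMap L T) = maximalIdeal L := IsLocalRing.eq_maximalIdeal h1
    have h3 : (M'.comap (algebraMap B T)).comap (algebraMap A B) =
        (M'.comap (algebraMap L T)).comap (algebraMap A L) := by
      rw [Ideal.comap_comap, Ideal.comap_comap, ← IsScalarTower.algebraMap_eq A B T,
        ← IsScalarTower.algebraMap_eq A L T]
    have h4 : (M'.comap (algebraMap B T)).comap (algebraMap A B) = q := by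
      rw [h3, h2]
      exact IsLocalization.AtPrime.comap_maximalIdeal L q
    exact h4
  haveI hT : IsLocalRing T := by
    obtain ⟨M₀, hM₀⟩ := Ideal.exists_maximal T
    refine IsLocalRing.of_unique_max_ideal ⟨M₀, hM₀, fun M' hM' => ?_⟩
    haveI : (M₀.comap (algebraMap B T)).IsPrime := Ideal.comap_isPrime _ _
    haveI : (M'.comap (algebraMap B T)).IsPrime := Ideal.comap_isPrime _ _
    have e1 := prime_over_unique (Fin n) p hp hpi q hq _ _ (hover M' hM') (hover M₀ hM₀)
    rw [← IsLocalization.map_comap M T M', ← IsLocalization.map_comap M T M₀]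
    exact congrArg (Ideal.map (algebraMap B T)) e1
  have hJT : (maximalIdeal Rν).map (MvPolynomial.C : Rν →+* B) ≤
      (maximalIdeal T).comap (algebraMap B T) := by
    haveI : ((maximalIdeal T).comap (algebraMap B T)).IsPrime := Ideal.comap_isPrime _ _
    exact map_maximalIdeal_le (Fin n) q hq _ (hover _ (maximalIdeal.isMaximal T))
  have hp' : p = 1 ∨ (p.Prime ∧ ((p : ℕ) : T) ∈ maximalIdeal T) := by
    rcases hp with h | ⟨h1, h2⟩
    · exact Or.inl h
    · refine Or.inr ⟨h1, ?_⟩
      have h3 : (MvPolynomial.C ((p : ℕ) : Rν) : B) ∈ (maximalIdeal T).comap (algebraMap B T) :=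
        hJT (Ideal.mem_map_of_mem _ h2)
      rw [Ideal.mem_comap] at h3
      simpa using h3
  have hpi' : ∀ t : T, ∃ (N : ℕ) (l : L), t ^ p ^ N - algebraMap L T l ∈ maximalIdeal T := by
    intro t
    obtain ⟨⟨b, s⟩, hbs⟩ := IsLocalization.surj M t
    obtain ⟨a_s, has, hs⟩ := s.2
    simp only at hbs
    obtain ⟨N, a, ha⟩ := exists_pow_sub_mem (Fin n) p hp hpi b
    have hmem : a_s ^ p ^ N ∈ q.primeCompl := q.primeCompl.pow_mem has _
    refine ⟨N, IsLocalization.mk' L a ⟨a_s ^ p ^ N, hmem⟩, ?_⟩
    have hu : IsUnit (algebraMap B T (s : B)) := IsLocalization.map_units T s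
    have h5 : algebraMap L T (IsLocalization.mk' L a ⟨a_s ^ p ^ N, hmem⟩) *
        (algebraMap B T (s : B)) ^ p ^ N = algebraMap B T (algebraMap A B a) := by
      have h0 : IsLocalization.mk' L a ⟨a_s ^ p ^ N, hmem⟩ * algebraMap A L (a_s ^ p ^ N) =
          algebraMap A L a := IsLocalization.mk'_spec L a ⟨a_s ^ p ^ N, hmem⟩
      have h6 := congrArg (algebraMap L T) h0
      rw [map_mul, ← IsScalarTower.algebraMap_apply A L T, ← IsScalarTower.algebraMap_apply A L T,
        IsScalarTower.algebraMap_apply A B T a, IsScalarTower.algebraMap_apply A B T (a_s ^ p ^ N),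
        map_pow, map_pow, hs] at h6
      exact h6
    have h7 : (t ^ p ^ N - algebraMap L T (IsLocalization.mk' L a ⟨a_s ^ p ^ N, hmem⟩)) *
        (algebraMap B T (s : B)) ^ p ^ N ∈ maximalIdeal T := by
      rw [sub_mul, ← mul_pow, hbs, h5, ← map_pow, ← map_sub]
      exact hJT ha
    rcases (Ideal.IsMaximal.isPrime (maximalIdeal.isMaximal T)).mem_or_mem h7 with h | h
    · exact h
    · exact absurd (hu.pow _) ((IsLocalRing.mem_maximalIdeal _).mp h)
  -- strict henselization of `L`
  have hSH := Groth.Agent.H3.SH.isStrictHenselization L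
  obtain ⟨hU', hff'⟩ := Groth.Agent.H3.HensUnion.package (Or.inr hSH)
  haveI : IsDomain (Groth.Agent.H3.SH.S L) :=
    isDomain_of_pi_normal L (Groth.Agent.H3.SH.S L) T hU' hinjLT p hp' hpi'
  haveI := hSH
  exact (Groth.Agent.H14.HensProp.StrictUni.reduced_isGeomUnibranch_iff_isDomain L
    (Groth.Agent.H3.SH.S L)).mpr inferInstance

end Core

section Hens

variable (R : Type u) [CommRing R] [IsDomain R] [HenselianLocalRing R]

theorem algebraMap_integralClosure_injective :
    Function.Injective (algebraMap R (integralClosure R (FractionRing R))) := by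
  intro a b hab
  have := congrArg Subtype.val hab
  exact IsFractionRing.injective R (FractionRing R) this

/-- the normalization of a henselian local domain is local -/
theorem isLocalRing_integralClosure : IsLocalRing (integralClosure R (FractionRing R)) := by
  refine Groth.Agent.H14.HensProp.isLocalRing_of_isDomain_of_birational R R
    (integralClosure R (FractionRing R)) (algebraMap_integralClosure_injective R) ?_
  intro b
  obtain ⟨r, d, hd, h⟩ := IsFractionRing.div_surjective (A := R) (b : FractionRing R)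
  have hd0 : algebraMap R (FractionRing R) d ≠ 0 :=
    IsFractionRing.to_map_ne_zero_of_mem_nonZeroDivisors hd
  refine ⟨d, nonZeroDivisors.ne_zero hd, r, Subtype.ext ?_⟩
  show algebraMap R (FractionRing R) r = d • (b : FractionRing R)
  rw [← h, Algebra.smul_def]
  field_simp

/-- the purely inseparable data of the normalization of a strictly henselian local domain -/
theorem exists_pi_data [IsSepClosed (IsLocalRing.ResidueField R)]
    [IsLocalRing (integralClosure R (FractionRing R))] :
    ∃ p : ℕ, (p = 1 ∨ (p.Prime ∧ (p : integralClosure R (FractionRing R)) ∈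
        maximalIdeal (integralClosure R (FractionRing R)))) ∧
      ∀ x : integralClosure R (FractionRing R), ∃ (n : ℕ) (r : R),
        x ^ p ^ n - algebraMap R (integralClosure R (FractionRing R)) r ∈
          maximalIdeal (integralClosure R (FractionRing R)) := by
  set Rν := integralClosure R (FractionRing R) with hRν
  letI : Field (Rν ⧸ maximalIdeal Rν) := Ideal.Quotient.field _
  obtain ⟨p, hpdef⟩ : ∃ p : ℕ, p = ringExpChar (Rν ⧸ maximalIdeal Rν) := ⟨_, rfl⟩
  haveI hE : ExpChar (Rν ⧸ maximalIdeal Rν) p := hpdef ▸ ringExpChar.expChar _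
  refine ⟨p, ?_, ?_⟩
  · cases hE with
    | zero => exact Or.inl rfl
    | prime hprime =>
      refine Or.inr ⟨hprime, ?_⟩
      rw [← Ideal.Quotient.eq_zero_iff_mem, map_natCast]
      exact CharP.cast_eq_zero _ p
  · intro x
    have hf : ((Ideal.Quotient.mk (maximalIdeal Rν)).comp (algebraMap R Rν)).IsIntegral := by
      apply RingHom.IsIntegral.trans
      · exact algebraMap_isIntegral_iff.mpr inferInstance
      · exact RingHom.isIntegral_of_surjective _ Ideal.Quotient.mk_surjective
    obtain ⟨n, a, ha⟩ := Groth.Agent.H14.exists_pow_mem_range_of_isSepClosed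
      (k := IsLocalRing.ResidueField R) (A := R) (K' := Rν ⧸ maximalIdeal Rν)
      (RingHom.id _) (RingHom.isIntegral_of_surjective _ Function.surjective_id)
      ((Ideal.Quotient.mk (maximalIdeal Rν)).comp (algebraMap R Rν)) hf
      (Ideal.Quotient.mk (maximalIdeal Rν) x)
    refine ⟨n, a, ?_⟩
    rw [← hpdef, ← map_pow] at ha
    rw [← Ideal.Quotient.eq]
    exact ha.symm

end Hens

section EtaleStep

open Groth.Agent.H3.UnionEtale

/-- **Étale step.** A local ring `S'` which is a localization of an étale `A`-algebra `C` is a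
geometrically unibranch domain as soon as the localization of `A` at the contraction of the maximal
ideal is reduced and geometrically unibranch. -/
theorem etale_step (A C S' : Type u) [CommRing A] [CommRing C] [CommRing S'] [IsLocalRing S']
    [Algebra A C] [Algebra.Etale A C] [Algebra C S'] (M : Submonoid C) [IsLocalization M S']
    (q : Ideal A) [q.IsPrime]
    (hq : ((maximalIdeal S').comap (algebraMap C S')).comap (algebraMap A C) = q)
    [IsReduced (Localization.AtPrime q)] (hA : CAlg2.IsGeomUnibranch (Localization.AtPrime q)) :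
    IsDomain S' ∧ CAlg2.IsGeomUnibranch S' := by
  letI : Algebra A S' := ((algebraMap C S').comp (algebraMap A C)).toAlgebra
  haveI : IsScalarTower A C S' := .of_algebraMap_eq' rfl
  have hmem : ∀ a : A, algebraMap A S' a ∈ maximalIdeal S' ↔ a ∈ q := by
    intro a
    rw [← hq]
    rfl
  have hunits : ∀ y : q.primeCompl, IsUnit (algebraMap A S' (y : A)) := by
    intro y
    by_contra h
    exact y.2 ((hmem _).mp ((IsLocalRing.mem_maximalIdeal _).mpr h))
  let g : Localization.AtPrime q →+* S' := IsLocalization.lift (M := q.primeCompl) hunits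
  letI : Algebra (Localization.AtPrime q) S' := g.toAlgebra
  haveI : IsScalarTower A (Localization.AtPrime q) S' :=
    .of_algebraMap_eq' (IsLocalization.lift_comp hunits).symm
  haveI : IsLocalHom (algebraMap (Localization.AtPrime q) S') := by
    refine ⟨fun l hl => ?_⟩
    by_contra hnu
    have hlm : l ∈ maximalIdeal (Localization.AtPrime q) := (IsLocalRing.mem_maximalIdeal l).mpr hnu
    obtain ⟨⟨a, s⟩, has⟩ := IsLocalization.surj q.primeCompl l
    simp only at has
    have h1 : algebraMap A (Localization.AtPrime q) a ∈ maximalIdeal (Localization.AtPrime q) := by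
      rw [← has]
      exact Ideal.mul_mem_right _ _ hlm
    have h2 : a ∈ q := (IsLocalization.AtPrime.to_map_mem_maximal_iff _ q a).mp h1
    have h3 : algebraMap A S' a ∈ maximalIdeal S' := (hmem a).mpr h2
    have h4 := congrArg (algebraMap (Localization.AtPrime q) S') has
    rw [map_mul, ← IsScalarTower.algebraMap_apply A (Localization.AtPrime q) S',
      ← IsScalarTower.algebraMap_apply A (Localization.AtPrime q) S'] at h4
    rw [← h4] at h3
    exact (IsLocalRing.mem_maximalIdeal _).mp h3 (hl.mul (hunits s))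
  haveI : Module.Flat C S' := IsLocalization.flat S' M
  haveI : Module.Flat A S' := Module.Flat.trans A C S'
  haveI : Module.Flat (Localization.AtPrime q) S' :=
    (Module.flat_iff_of_isLocalization (Localization.AtPrime q) q.primeCompl S').mpr inferInstance
  have hU : IsUnion (Localization.AtPrime q) S' :=
    Groth.Agent.H14.HensProp.EtLoc.isUnion_of_isLocalization A (Localization.AtPrime q) C S' M
  exact Groth.Agent.H14.HensProp.EtUni.isDomain_and_isGeomUnibranch (Localization.AtPrime q) S' hA hU

end EtaleStep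

section Main

/-- **Smooth algebras over a strictly henselian local domain** are geometrically unibranch domains
at primes over the closed point. -/
theorem main (R R' : Type u) [CommRing R] [IsDomain R] [HenselianLocalRing R]
    [IsSepClosed (IsLocalRing.ResidueField R)]
    [CommRing R'] [Algebra R R'] [Algebra.Smooth R R']
    (p : Ideal R') [p.IsPrime] (hp : (IsLocalRing.maximalIdeal R).map (algebraMap R R') ≤ p) :
    IsDomain (Localization.AtPrime p) ∧ CAlg2.IsGeomUnibranch (Localization.AtPrime p) := by
  -- normalization data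
  haveI hloc : IsLocalRing (integralClosure R (FractionRing R)) := isLocalRing_integralClosure R
  haveI : IsIntegrallyClosed (integralClosure R (FractionRing R)) :=
    integralClosure.isIntegrallyClosedOfFiniteExtension (FractionRing R)
  obtain ⟨e, he, hpi⟩ := exists_pi_data R
  have hinj := algebraMap_integralClosure_injective R
  -- standard smooth neighbourhood
  haveI : Algebra.IsSmoothAt R p := by
    have h := Algebra.smoothLocus_eq_univ (R := R) (A := R')
    have h2 : (⟨p, inferInstance⟩ : PrimeSpectrum R') ∈ Algebra.smoothLocus R R' := by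
      rw [h]; trivial
    exact h2
  obtain ⟨f, hfp, hstd⟩ := Algebra.IsSmoothAt.exists_notMem_isStandardSmooth R p
  obtain ⟨n, g, hgC, hget⟩ := RingHom.IsStandardSmooth.exists_etale_mvPolynomial
    (f := algebraMap R (Localization.Away f)) (RingHom.isStandardSmooth_algebraMap.mpr hstd)
  letI : Algebra (MvPolynomial (Fin n) R) (Localization.Away f) := g.toAlgebra
  haveI : Algebra.Etale (MvPolynomial (Fin n) R) (Localization.Away f) := hget
  -- `R'_p` as a localization of `R'_f`
  have hfu : IsUnit (algebraMap R' (Localization.AtPrime p) f) :=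
    IsLocalization.map_units (Localization.AtPrime p) (⟨f, hfp⟩ : p.primeCompl)
  letI : Algebra (Localization.Away f) (Localization.AtPrime p) :=
    (IsLocalization.Away.lift f hfu).toAlgebra
  haveI : IsScalarTower R' (Localization.Away f) (Localization.AtPrime p) :=
    .of_algebraMap_eq' (IsLocalization.Away.lift_comp f hfu).symm
  have hle : Submonoid.powers f ≤ p.primeCompl := by
    rintro _ ⟨k, rfl⟩
    exact p.primeCompl.pow_mem hfp k
  haveI : IsLocalization (p.primeCompl.map (algebraMap R' (Localization.Away f)))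
      (Localization.AtPrime p) :=
    IsLocalization.isLocalization_of_submonoid_le (Localization.Away f) (Localization.AtPrime p)
      (Submonoid.powers f) p.primeCompl hle
  -- the prime `q`
  let q : Ideal (MvPolynomial (Fin n) R) :=
    ((maximalIdeal (Localization.AtPrime p)).comap
      (algebraMap (Localization.Away f) (Localization.AtPrime p))).comap
      (algebraMap (MvPolynomial (Fin n) R) (Localization.Away f))
  haveI : q.IsPrime := Ideal.comap_isPrime _ _
  have hq : (maximalIdeal R).map (MvPolynomial.C : R →+* MvPolynomial (Fin n) R) ≤ q := by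
    rw [Ideal.map_le_iff_le_comap]
    intro r hr
    show algebraMap (Localization.Away f) (Localization.AtPrime p)
      (g (MvPolynomial.C r)) ∈ maximalIdeal (Localization.AtPrime p)
    have h1 : g (MvPolynomial.C r) = algebraMap R (Localization.Away f) r := by
      rw [← hgC]; rfl
    rw [h1, IsScalarTower.algebraMap_apply R R' (Localization.Away f),
      ← IsScalarTower.algebraMap_apply R' (Localization.Away f) (Localization.AtPrime p),
      IsLocalization.AtPrime.to_map_mem_maximal_iff _ p]
    exact hp (Ideal.mem_map_of_mem _ hr)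
  obtain ⟨hred, hgu⟩ := isReduced_and_isGeomUnibranch hinj n e he hpi q hq
  haveI := hred
  exact etale_step (MvPolynomial (Fin n) R) (Localization.Away f) (Localization.AtPrime p)
    (p.primeCompl.map (algebraMap R' (Localization.Away f))) q rfl hgu

end Main

end Groth.Agent.H66.PolyUnibranch
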