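import Mathlib
import Groth.Prelude.Def_CAlg2
import Groth.Agent.H66.PolyUnibranch

set_option autoImplicit false
set_option linter.style.haveILetI false
universe u

namespace Groth.Agent.H66.SmoothGU

open IsLocalRing Groth.Agent.H3.UnionEtale Groth.Agent.H66.PolyUnibranch

/-- **Étale step, abstract localization.** A local ring `S'` which is a localization of an étale
`A`-algebra `C` is a geometrically unibranch domain as soon as the localization `L` of `A` at the
contraction of the maximal ideal is reduced and geometrically unibranch. -/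
theorem etale_step' (A C S' L : Type u) [CommRing A] [CommRing C] [CommRing S'] [IsLocalRing S']
    [Algebra A C] [Algebra.Etale A C] [Algebra C S'] (M : Submonoid C) [IsLocalization M S']
    (q : Ideal A) [q.IsPrime]
    (hq : ((maximalIdeal S').comap (algebraMap C S')).comap (algebraMap A C) = q)
    [CommRing L] [IsLocalRing L] [Algebra A L] [IsLocalization.AtPrime L q]
    [IsReduced L] (hA : CAlg2.IsGeomUnibranch L) :
    IsDomain S' ∧ CAlg2.IsGeomUnibranch S' := by
  letI : Algebra A S' := ((algebraMap C S').comp (algebraMap A C)).toAlgebra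
  haveI : IsScalarTower A C S' := .of_algebraMap_eq' rfl
  have hmem : ∀ a : A, algebraMap A S' a ∈ maximalIdeal S' ↔ a ∈ q := by
    intro a
    rw [← hq]
    rfl
  have hunits : ∀ y : q.primeCompl, IsUnit (algebraMap A S' (y : A)) := by
    intro y
    by_contra h
    exact y.2 ((hmem _).mp ((IsLocalRing.mem_maximalIdeal _).mpr h))
  let g : L →+* S' := IsLocalization.lift (M := q.primeCompl) hunits
  letI : Algebra L S' := g.toAlgebra
  haveI : IsScalarTower A L S' :=
    .of_algebraMap_eq' (IsLocalization.lift_comp hunits).symm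
  haveI : IsLocalHom (algebraMap L S') := by
    refine ⟨fun l hl => ?_⟩
    by_contra hnu
    have hlm : l ∈ maximalIdeal L := (IsLocalRing.mem_maximalIdeal l).mpr hnu
    obtain ⟨⟨a, s⟩, has⟩ := IsLocalization.surj q.primeCompl l
    simp only at has
    have h1 : algebraMap A L a ∈ maximalIdeal L := by
      rw [← has]
      exact Ideal.mul_mem_right _ _ hlm
    have h2 : a ∈ q := (IsLocalization.AtPrime.to_map_mem_maximal_iff L q a).mp h1
    have h3 : algebraMap A S' a ∈ maximalIdeal S' := (hmem a).mpr h2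
    have h4 := congrArg (algebraMap L S') has
    rw [map_mul, ← IsScalarTower.algebraMap_apply A L S',
      ← IsScalarTower.algebraMap_apply A L S'] at h4
    rw [← h4] at h3
    exact (IsLocalRing.mem_maximalIdeal _).mp h3 (hl.mul (hunits s))
  haveI : Module.Flat C S' := IsLocalization.flat S' M
  haveI : Module.Flat A S' := Module.Flat.trans A C S'
  haveI : Module.Flat L S' :=
    (Module.flat_iff_of_isLocalization L q.primeCompl S').mpr inferInstance
  have hU : IsUnion L S' :=
    Groth.Agent.H14.HensProp.EtLoc.isUnion_of_isLocalization A L C S' M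
  exact Groth.Agent.H14.HensProp.EtUni.isDomain_and_isGeomUnibranch L S' hA hU

section SmoothStep

attribute [local instance] MvPolynomial.algebraMvPolynomial

/-- **Smooth step.** Let `𝔭` be a prime of `R₁` whose local ring `A₀` is a domain admitting an
integral normal local overring `Rν` with purely inseparable residue data, `R'₁` a smooth
`R₁`-algebra and `q₁` a prime of `R'₁` over `𝔭`. Then the local ring `L'` of `R'₁` at `q₁` is a
geometrically unibranch domain. -/
theorem smooth_step (R₁ A₀ Rν R'₁ L' : Type u) [CommRing R₁] (𝔭 : Ideal R₁) [𝔭.IsPrime]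
    [CommRing A₀] [IsLocalRing A₀] [IsDomain A₀] [Algebra R₁ A₀] [IsLocalization.AtPrime A₀ 𝔭]
    [CommRing Rν] [IsLocalRing Rν] [IsDomain Rν] [IsIntegrallyClosed Rν] [Algebra A₀ Rν]
    [Algebra.IsIntegral A₀ Rν] (hinj : Function.Injective (algebraMap A₀ Rν))
    (e : ℕ) (he : e = 1 ∨ (e.Prime ∧ (e : Rν) ∈ maximalIdeal Rν))
    (hpi : ∀ x : Rν, ∃ (n : ℕ) (r : A₀), x ^ e ^ n - algebraMap A₀ Rν r ∈ maximalIdeal Rν)
    [CommRing R'₁] [Algebra R₁ R'₁] [Algebra.Smooth R₁ R'₁] (q₁ : Ideal R'₁) [q₁.IsPrime]
    (hq₁ : q₁.comap (algebraMap R₁ R'₁) = 𝔭)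
    [CommRing L'] [IsLocalRing L'] [Algebra R'₁ L'] [IsLocalization.AtPrime L' q₁] :
    IsDomain L' ∧ CAlg2.IsGeomUnibranch L' := by
  -- standard smooth neighbourhood
  haveI : Algebra.IsSmoothAt R₁ q₁ := by
    have h := Algebra.smoothLocus_eq_univ (R := R₁) (A := R'₁)
    have h2 : (⟨q₁, inferInstance⟩ : PrimeSpectrum R'₁) ∈ Algebra.smoothLocus R₁ R'₁ := by
      rw [h]; trivial
    exact h2
  obtain ⟨f, hfp, hstd⟩ := Algebra.IsSmoothAt.exists_notMem_isStandardSmooth R₁ q₁
  obtain ⟨n, g, hgC, hget⟩ := RingHom.IsStandardSmooth.exists_etale_mvPolynomial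
    (f := algebraMap R₁ (Localization.Away f)) (RingHom.isStandardSmooth_algebraMap.mpr hstd)
  letI : Algebra (MvPolynomial (Fin n) R₁) (Localization.Away f) := g.toAlgebra
  haveI : Algebra.Etale (MvPolynomial (Fin n) R₁) (Localization.Away f) := hget
  -- `L'` as a localization of `R'₁_f`
  have hfu : IsUnit (algebraMap R'₁ L' f) :=
    IsLocalization.map_units L' (⟨f, hfp⟩ : q₁.primeCompl)
  letI : Algebra (Localization.Away f) L' := (IsLocalization.Away.lift f hfu).toAlgebra
  haveI : IsScalarTower R'₁ (Localization.Away f) L' :=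
    .of_algebraMap_eq' (IsLocalization.Away.lift_comp f hfu).symm
  have hle : Submonoid.powers f ≤ q₁.primeCompl := by
    rintro _ ⟨k, rfl⟩
    exact q₁.primeCompl.pow_mem hfp k
  haveI : IsLocalization (q₁.primeCompl.map (algebraMap R'₁ (Localization.Away f))) L' :=
    IsLocalization.isLocalization_of_submonoid_le (Localization.Away f) L'
      (Submonoid.powers f) q₁.primeCompl hle
  -- the prime `qP` of the polynomial ring over `R₁`
  let qP : Ideal (MvPolynomial (Fin n) R₁) :=
    ((maximalIdeal L').comap (algebraMap (Localization.Away f) L')).comap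
      (algebraMap (MvPolynomial (Fin n) R₁) (Localization.Away f))
  haveI hqPprime : qP.IsPrime := Ideal.comap_isPrime _ _
  have hqP : ∀ r : R₁, MvPolynomial.C r ∈ qP ↔ r ∈ 𝔭 := by
    intro r
    show algebraMap (Localization.Away f) L' (g (MvPolynomial.C r)) ∈ maximalIdeal L' ↔ _
    have h1 : g (MvPolynomial.C r) = algebraMap R₁ (Localization.Away f) r := by
      rw [← hgC]; rfl
    rw [h1, IsScalarTower.algebraMap_apply R₁ R'₁ (Localization.Away f),
      ← IsScalarTower.algebraMap_apply R'₁ (Localization.Away f) L',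
      IsLocalization.AtPrime.to_map_mem_maximal_iff L' q₁, ← hq₁]
    rfl
  -- pass to the polynomial ring over `A₀`
  have hdisj : Disjoint ((𝔭.primeCompl.map (MvPolynomial.C (σ := Fin n)) :
      Submonoid (MvPolynomial (Fin n) R₁)) : Set (MvPolynomial (Fin n) R₁)) (qP : Set _) := by
    rw [Set.disjoint_left]
    rintro _ ⟨r, hr, rfl⟩ hmem
    exact hr ((hqP r).mp hmem)
  let q' : Ideal (MvPolynomial (Fin n) A₀) :=
    qP.map (algebraMap (MvPolynomial (Fin n) R₁) (MvPolynomial (Fin n) A₀))
  haveI hq'prime : q'.IsPrime :=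
    IsLocalization.isPrime_of_isPrime_disjoint (𝔭.primeCompl.map (MvPolynomial.C (σ := Fin n)))
      (MvPolynomial (Fin n) A₀) qP hqPprime hdisj
  have hq'comap : q'.comap (algebraMap (MvPolynomial (Fin n) R₁) (MvPolynomial (Fin n) A₀)) = qP :=
    IsLocalization.under_map_of_isPrime_disjoint (𝔭.primeCompl.map (MvPolynomial.C (σ := Fin n)))
      (MvPolynomial (Fin n) A₀) hqPprime hdisj
  have hq' : (maximalIdeal A₀).map (MvPolynomial.C : A₀ →+* MvPolynomial (Fin n) A₀) ≤ q' := by
    rw [← IsLocalization.AtPrime.map_eq_maximalIdeal 𝔭 A₀, Ideal.map_map, Ideal.map_le_iff_le_comap]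
    intro r hr
    rw [Ideal.mem_comap]
    have h1 : (MvPolynomial.C.comp (algebraMap R₁ A₀)) r =
        algebraMap (MvPolynomial (Fin n) R₁) (MvPolynomial (Fin n) A₀) (MvPolynomial.C r) := by
      simp
    rw [h1]
    exact Ideal.mem_map_of_mem _ ((hqP r).mpr hr)
  obtain ⟨hred, hgu⟩ := isReduced_and_isGeomUnibranch hinj n e he hpi q' hq'
  haveI := hred
  -- `Localization.AtPrime q'` is the localization of `R₁[x]` at `qP`
  haveI : IsScalarTower (MvPolynomial (Fin n) R₁) (MvPolynomial (Fin n) A₀)
      (Localization.AtPrime q') := inferInstance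
  haveI hL : IsLocalization.AtPrime (Localization.AtPrime q') qP := by
    have h := IsLocalization.isLocalization_isLocalization_atPrime_isLocalization
      (𝔭.primeCompl.map (MvPolynomial.C (σ := Fin n))) (Localization.AtPrime q') q'
    have hc : (q'.comap (algebraMap (MvPolynomial (Fin n) R₁)
        (MvPolynomial (Fin n) A₀))).primeCompl = qP.primeCompl := by
      ext x
      show x ∉ _ ↔ x ∉ _
      rw [hq'comap]
    show IsLocalization qP.primeCompl _
    rw [← hc]
    exact h
  exact etale_step' (MvPolynomial (Fin n) R₁) (Localization.Away f) L' (Localization.AtPrime q')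
    (q₁.primeCompl.map (algebraMap R'₁ (Localization.Away f))) qP rfl hgu

end SmoothStep

section QuotPackage

open TensorProduct

variable (A Ash : Type u) [CommRing A] [CommRing Ash] [Algebra A Ash] (I : Ideal A)

theorem flat_quot [Module.Flat A Ash] :
    Module.Flat (A ⧸ I) (Ash ⧸ I.map (algebraMap A Ash)) :=
  Module.Flat.of_linearEquiv
    (Algebra.TensorProduct.quotIdealMapEquivQuotTensor Ash I).toLinearEquiv

theorem isUnion_quot (hU : IsUnion A Ash) :
    IsUnion (A ⧸ I) (Ash ⧸ I.map (algebraMap A Ash)) := by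
  intro x
  obtain ⟨A', _, _, hN, φ, hφ⟩ := Groth.Agent.H14.HensProp.StrictUni.isUnion_baseChange A Ash (A ⧸ I) hU
    (Algebra.TensorProduct.quotIdealMapEquivQuotTensor Ash I x)
  refine ⟨A', _, _, hN,
    (Algebra.TensorProduct.quotIdealMapEquivQuotTensor Ash I).symm.toAlgHom.comp φ, ?_⟩
  intro z hz
  rw [Set.mem_singleton_iff.mp hz]
  obtain ⟨y, hy⟩ := hφ rfl
  exact ⟨y, by simp [hy]⟩

theorem isLocalRing_quot [IsLocalRing Ash] (h : I.map (algebraMap A Ash) ≠ ⊤) :
    IsLocalRing (Ash ⧸ I.map (algebraMap A Ash)) :=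
  haveI : Nontrivial (Ash ⧸ I.map (algebraMap A Ash)) := Ideal.Quotient.nontrivial_iff.mpr h
  IsLocalRing.of_surjective' (Ideal.Quotient.mk _) Ideal.Quotient.mk_surjective

theorem isLocalHom_quot [IsLocalRing Ash] [IsLocalHom (algebraMap A Ash)]
    (h : I.map (algebraMap A Ash) ≠ ⊤) :
    IsLocalHom (algebraMap (A ⧸ I) (Ash ⧸ I.map (algebraMap A Ash))) := by
  haveI : Nontrivial (Ash ⧸ I.map (algebraMap A Ash)) := Ideal.Quotient.nontrivial_iff.mpr h
  refine ⟨fun r hr => ?_⟩
  obtain ⟨a, rfl⟩ := Ideal.Quotient.mk_surjective r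
  rw [Ideal.Quotient.algebraMap_quotient_map_quotient] at hr
  haveI : IsLocalHom (Ideal.Quotient.mk (I.map (algebraMap A Ash))) :=
    IsLocalHom.of_surjective _ Ideal.Quotient.mk_surjective
  have h1 : IsUnit (algebraMap A Ash a) := IsUnit.of_map (Ideal.Quotient.mk _) _ hr
  exact (IsUnit.of_map (algebraMap A Ash) a h1).map _

theorem isSepClosed_quot [IsLocalRing A] (hI : I ≠ ⊤) [IsSepClosed (ResidueField A)] :
    haveI : IsLocalRing (A ⧸ I) :=
      haveI : Nontrivial (A ⧸ I) := Ideal.Quotient.nontrivial_iff.mpr hI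
      IsLocalRing.of_surjective' (Ideal.Quotient.mk _) Ideal.Quotient.mk_surjective
    IsSepClosed (ResidueField (A ⧸ I)) := by
  haveI : Nontrivial (A ⧸ I) := Ideal.Quotient.nontrivial_iff.mpr hI
  haveI : IsLocalRing (A ⧸ I) :=
    IsLocalRing.of_surjective' (Ideal.Quotient.mk _) Ideal.Quotient.mk_surjective
  haveI : IsLocalHom (Ideal.Quotient.mk I) :=
    IsLocalHom.of_surjective _ Ideal.Quotient.mk_surjective
  let g := ResidueField.map (Ideal.Quotient.mk I)
  have hg : Function.Bijective g := by
    refine ⟨g.injective, fun y => ?_⟩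
    obtain ⟨q, rfl⟩ := residue_surjective y
    obtain ⟨s, rfl⟩ := Ideal.Quotient.mk_surjective q
    exact ⟨residue A s, rfl⟩
  exact Groth.Agent.H14.HensProp.StrictUni.isSepClosed_of_ringEquiv (RingEquiv.ofBijective g hg)

end QuotPackage

section QuotSmooth

open TensorProduct

/-- smoothness passes to quotients by an ideal of the base -/
theorem smooth_quot (R R' : Type u) [CommRing R] [CommRing R'] [Algebra R R'] [Algebra.Smooth R R']
    (I : Ideal R) : Algebra.Smooth (R ⧸ I) (R' ⧸ I.map (algebraMap R R')) :=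
  Algebra.Smooth.of_equiv (Algebra.TensorProduct.quotIdealMapEquivQuotTensor R' I).symm

/-- **Smooth step modulo an ideal of the base.** -/
theorem quot_smooth_step (R R' : Type u) [CommRing R] [CommRing R'] [Algebra R R']
    [Algebra.Smooth R R'] (I : Ideal R) (p : Ideal R) [p.IsPrime] (hIp : I ≤ p)
    (q : Ideal R') [q.IsPrime] (hqp : q.comap (algebraMap R R') = p)
    [hp' : (p.map (Ideal.Quotient.mk I)).IsPrime]
    (A₀ Rν : Type u) [CommRing A₀] [IsLocalRing A₀] [IsDomain A₀] [Algebra (R ⧸ I) A₀]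
    [IsLocalization.AtPrime A₀ (p.map (Ideal.Quotient.mk I))]
    [CommRing Rν] [IsLocalRing Rν] [IsDomain Rν] [IsIntegrallyClosed Rν] [Algebra A₀ Rν]
    [Algebra.IsIntegral A₀ Rν] (hinj : Function.Injective (algebraMap A₀ Rν))
    (e : ℕ) (he : e = 1 ∨ (e.Prime ∧ (e : Rν) ∈ maximalIdeal Rν))
    (hpi : ∀ x : Rν, ∃ (n : ℕ) (r : A₀), x ^ e ^ n - algebraMap A₀ Rν r ∈ maximalIdeal Rν)
    (Lq : Type u) [CommRing Lq] [Algebra R' Lq] [IsLocalization.AtPrime Lq q]
    [IsLocalRing (Lq ⧸ (I.map (algebraMap R R')).map (algebraMap R' Lq))] :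
    IsDomain (Lq ⧸ (I.map (algebraMap R R')).map (algebraMap R' Lq)) ∧
      CAlg2.IsGeomUnibranch (Lq ⧸ (I.map (algebraMap R R')).map (algebraMap R' Lq)) := by
  haveI := smooth_quot R R' I
  have hJq : I.map (algebraMap R R') ≤ q := by
    rw [Ideal.map_le_iff_le_comap, hqp]
    exact hIp
  haveI hqbar : (q.map (Ideal.Quotient.mk (I.map (algebraMap R R')))).IsPrime :=
    Ideal.map_isPrime_of_surjective Ideal.Quotient.mk_surjective (by rwa [Ideal.mk_ker])
  have hq₁ : (q.map (Ideal.Quotient.mk (I.map (algebraMap R R')))).comap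
      (algebraMap (R ⧸ I) (R' ⧸ I.map (algebraMap R R'))) = p.map (Ideal.Quotient.mk I) := by
    ext r
    obtain ⟨r, rfl⟩ := Ideal.Quotient.mk_surjective r
    rw [Ideal.mem_comap, Ideal.Quotient.algebraMap_quotient_map_quotient,
      Ideal.mem_quotient_iff_mem hJq, Ideal.mem_quotient_iff_mem hIp, ← hqp, Ideal.mem_comap]
  haveI hL₁ : IsLocalization.AtPrime (Lq ⧸ (I.map (algebraMap R R')).map (algebraMap R' Lq))
      (q.map (Ideal.Quotient.mk (I.map (algebraMap R R')))) := by
    have h : IsLocalization (Algebra.algebraMapSubmonoid (R' ⧸ I.map (algebraMap R R')) q.primeCompl)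
        (Lq ⧸ (I.map (algebraMap R R')).map (algebraMap R' Lq)) := inferInstance
    have hc : Algebra.algebraMapSubmonoid (R' ⧸ I.map (algebraMap R R')) q.primeCompl =
        (q.map (Ideal.Quotient.mk (I.map (algebraMap R R')))).primeCompl := by
      ext x
      obtain ⟨x, rfl⟩ := Ideal.Quotient.mk_surjective x
      constructor
      · rintro ⟨y, hy, hyx⟩
        intro hmem
        rw [← hyx] at hmem
        exact hy ((Ideal.mem_quotient_iff_mem hJq).mp hmem)
      · intro hx
        refine ⟨x, ?_, rfl⟩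
        show x ∉ q
        intro hxq
        exact hx (Ideal.mem_map_of_mem _ hxq)
    show IsLocalization _ _
    rw [← hc]
    exact h
  exact smooth_step (R ⧸ I) A₀ Rν (R' ⧸ I.map (algebraMap R R'))
    (Lq ⧸ (I.map (algebraMap R R')).map (algebraMap R' Lq)) (p.map (Ideal.Quotient.mk I))
    hinj e he hpi (q.map (Ideal.Quotient.mk (I.map (algebraMap R R')))) hq₁

end QuotSmooth

section PrimeStep

/-- if `Lq ⧸ K` is reduced and geometrically unibranch, then `K` extends to a prime ideal of any
flat local union of étale images `T` over `Lq` -/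
theorem isPrime_map_of_gu (Lq T : Type u) [CommRing Lq] [IsLocalRing Lq] [CommRing T]
    [IsLocalRing T] [Algebra Lq T] [IsLocalHom (algebraMap Lq T)] [Module.Flat Lq T]
    (hU : IsUnion Lq T) (K : Ideal Lq) (hK : K ≠ ⊤) [IsLocalRing (Lq ⧸ K)] [IsReduced (Lq ⧸ K)]
    (hgu : CAlg2.IsGeomUnibranch (Lq ⧸ K)) : (K.map (algebraMap Lq T)).IsPrime := by
  have hKT : K.map (algebraMap Lq T) ≠ ⊤ := by
    intro h
    have h1 : K.map (algebraMap Lq T) ≤ maximalIdeal T := by
      rw [Ideal.map_le_iff_le_comap]
      intro k hk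
      rw [Ideal.mem_comap, IsLocalRing.mem_maximalIdeal]
      intro hu
      have hku : IsUnit k := IsUnit.of_map (algebraMap Lq T) k hu
      exact hK (Ideal.eq_top_of_isUnit_mem _ hk hku)
    rw [h] at h1
    exact (maximalIdeal.isMaximal T).ne_top (top_le_iff.mp h1)
  haveI := isLocalRing_quot Lq T K hKT
  haveI := isLocalHom_quot Lq T K hKT
  haveI := flat_quot Lq T K
  have hU' := isUnion_quot Lq T K hU
  obtain ⟨hd, -⟩ := Groth.Agent.H14.HensProp.EtUni.isDomain_and_isGeomUnibranch (Lq ⧸ K)
    (T ⧸ K.map (algebraMap Lq T)) hgu hU'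
  exact (Ideal.Quotient.isDomain_iff_prime _).mp hd

open Groth.Agent.H66.PolyUnibranch in
/-- **Prime elements stay prime** in strict henselizations of smooth algebras over a strictly
henselian local ring. -/
theorem prime_map_of_strictlyHenselian
    (R R' T : Type u) [CommRing R] [HenselianLocalRing R]
    [IsSepClosed (ResidueField R)]
    [CommRing R'] [Algebra R R'] [Algebra.Smooth R R']
    (q : Ideal R') [q.IsPrime] (hq : (maximalIdeal R).map (algebraMap R R') ≤ q)
    [CommRing T] [IsLocalRing T] [Algebra (Localization.AtPrime q) T]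
    [IsLocalHom (algebraMap (Localization.AtPrime q) T)]
    [Hensel.IsStrictHenselization (Localization.AtPrime q) T]
    (Δ : R) (hΔ : Prime Δ) :
    Prime (algebraMap (Localization.AtPrime q) T
      (algebraMap R' (Localization.AtPrime q) (algebraMap R R' Δ))) := by
  have hIprime : (Ideal.span {Δ}).IsPrime := (Ideal.span_singleton_prime hΔ.ne_zero).mpr hΔ
  have hIne : Ideal.span {Δ} ≠ ⊤ := hIprime.ne_top
  have hIp : Ideal.span {Δ} ≤ maximalIdeal R := IsLocalRing.le_maximalIdeal hIne
  have hqp : q.comap (algebraMap R R') = maximalIdeal R := by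
    have hc : (q.comap (algebraMap R R')).IsPrime := Ideal.comap_isPrime _ _
    exact le_antisymm (IsLocalRing.le_maximalIdeal hc.ne_top) (Ideal.map_le_iff_le_comap.mp hq)
  -- the quotient `R₁ = R ⧸ (Δ)` is a strictly henselian local domain
  haveI : IsDomain (R ⧸ Ideal.span {Δ}) := Ideal.Quotient.isDomain _
  haveI hH : HenselianLocalRing (R ⧸ Ideal.span {Δ}) :=
    Groth.Agent.H3.henselianLocalRing_quotient R _ hIne
  haveI : IsSepClosed (ResidueField (R ⧸ Ideal.span {Δ})) := isSepClosed_quot R _ hIne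
  have hmax : (maximalIdeal R).map (Ideal.Quotient.mk (Ideal.span {Δ})) =
      maximalIdeal (R ⧸ Ideal.span {Δ}) :=
    (Groth.Agent.H3.maximalIdeal_quotient R (Ideal.span {Δ})).symm
  haveI hp' : ((maximalIdeal R).map (Ideal.Quotient.mk (Ideal.span {Δ}))).IsPrime := by
    rw [hmax]; infer_instance
  haveI : IsLocalization.AtPrime (R ⧸ Ideal.span {Δ})
      ((maximalIdeal R).map (Ideal.Quotient.mk (Ideal.span {Δ}))) := by
    apply IsLocalization.self
    intro x hx
    have hx' : x ∉ (maximalIdeal R).map (Ideal.Quotient.mk (Ideal.span {Δ})) := hx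
    rw [hmax, IsLocalRing.mem_maximalIdeal, mem_nonunits_iff, not_not] at hx'
    exact hx'
  -- normalization data
  haveI : IsLocalRing (integralClosure (R ⧸ Ideal.span {Δ}) (FractionRing (R ⧸ Ideal.span {Δ}))) :=
    isLocalRing_integralClosure _
  haveI : IsIntegrallyClosed
      (integralClosure (R ⧸ Ideal.span {Δ}) (FractionRing (R ⧸ Ideal.span {Δ}))) :=
    integralClosure.isIntegrallyClosedOfFiniteExtension (FractionRing (R ⧸ Ideal.span {Δ}))
  obtain ⟨e, he, hpi⟩ := exists_pi_data (R ⧸ Ideal.span {Δ})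
  have hinj := algebraMap_integralClosure_injective (R ⧸ Ideal.span {Δ})
  -- the ideal `K`
  have hK : ((Ideal.span {Δ}).map (algebraMap R R')).map
      (algebraMap R' (Localization.AtPrime q)) ≠ ⊤ := by
    intro h
    have h1 : ((Ideal.span {Δ}).map (algebraMap R R')).map
        (algebraMap R' (Localization.AtPrime q)) ≤ maximalIdeal (Localization.AtPrime q) := by
      rw [← IsLocalization.AtPrime.map_eq_maximalIdeal q (Localization.AtPrime q)]
      apply Ideal.map_mono
      rw [Ideal.map_le_iff_le_comap, hqp]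
      exact hIp
    rw [h] at h1
    exact (maximalIdeal.isMaximal _).ne_top (top_le_iff.mp h1)
  haveI : Nontrivial (Localization.AtPrime q ⧸ ((Ideal.span {Δ}).map (algebraMap R R')).map
      (algebraMap R' (Localization.AtPrime q))) := Ideal.Quotient.nontrivial_iff.mpr hK
  haveI : IsLocalRing (Localization.AtPrime q ⧸ ((Ideal.span {Δ}).map (algebraMap R R')).map
      (algebraMap R' (Localization.AtPrime q))) :=
    IsLocalRing.of_surjective' (Ideal.Quotient.mk _) Ideal.Quotient.mk_surjective
  obtain ⟨hd, hgu⟩ := quot_smooth_step R R' (Ideal.span {Δ}) (maximalIdeal R) hIp q hqp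
    (R ⧸ Ideal.span {Δ})
    (integralClosure (R ⧸ Ideal.span {Δ}) (FractionRing (R ⧸ Ideal.span {Δ}))) hinj e he hpi
    (Localization.AtPrime q)
  haveI := hd
  -- the strict henselization
  have hSH : Hensel.IsStrictHenselization (Localization.AtPrime q) T := inferInstance
  obtain ⟨hU, hff⟩ := Groth.Agent.H3.HensUnion.package (Or.inr hSH)
  have hprime := isPrime_map_of_gu (Localization.AtPrime q) T hU _ hK hgu
  rw [Ideal.map_span, Ideal.map_span, Ideal.map_span, Set.image_singleton, Set.image_singleton,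
    Set.image_singleton] at hprime
  refine (Ideal.span_singleton_prime ?_).mp hprime
  -- nonvanishing
  haveI : Module.Flat R (Localization.AtPrime q) := Module.Flat.trans R R' _
  haveI : IsLocalHom (algebraMap R (Localization.AtPrime q)) := by
    refine ⟨fun r hr => ?_⟩
    by_contra hnu
    have h1 : r ∈ maximalIdeal R := (IsLocalRing.mem_maximalIdeal r).mpr hnu
    have h2 : algebraMap R R' r ∈ q := hq (Ideal.mem_map_of_mem _ h1)
    have h3 : algebraMap R' (Localization.AtPrime q) (algebraMap R R' r) ∈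
        maximalIdeal (Localization.AtPrime q) :=
      (IsLocalization.AtPrime.to_map_mem_maximal_iff _ q _).mpr h2
    rw [← IsScalarTower.algebraMap_apply] at h3
    exact (IsLocalRing.mem_maximalIdeal _).mp h3 hr
  haveI : Module.FaithfullyFlat R (Localization.AtPrime q) :=
    Module.FaithfullyFlat.of_flat_of_isLocalHom
  intro h0
  have h1 := (FaithfulSMul.algebraMap_injective (Localization.AtPrime q) T)
    (h0.trans (map_zero _).symm)
  rw [← IsScalarTower.algebraMap_apply] at h1
  exact hΔ.ne_zero ((FaithfulSMul.algebraMap_injective R (Localization.AtPrime q))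
    (h1.trans (map_zero _).symm))

end PrimeStep

end Groth.Agent.H66.SmoothGU
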