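import Mathlib
import Groth.Prelude.Def_CAlg2
import Groth.Prelude.Def_Hensel
import Groth.Agent.H66.SmoothGU

set_option autoImplicit false
set_option linter.style.haveILetI false
universe u

namespace Groth.Agent.H66.SmoothGU

open IsLocalRing Groth.Agent.H3.UnionEtale Groth.Agent.H66.PolyUnibranch
open Groth.Agent.H14.HensProp Groth.Agent.H14.HensProp.StrictUni Groth.Agent.H14.HensProp.UniqueMin

/-- **Descent of geometric unibranchness.** If a strictly henselian flat local union of étale
images `S₀` over the local ring `A₀` is a domain, then `A₀` is a geometrically unibranch domain. -/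
theorem gu_of_isDomain (A₀ S₀ : Type u) [CommRing A₀] [IsLocalRing A₀] [CommRing S₀]
    [HenselianLocalRing S₀] [IsSepClosed (ResidueField S₀)] [Algebra A₀ S₀]
    [IsLocalHom (algebraMap A₀ S₀)] [Module.Flat A₀ S₀] (hU : IsUnion A₀ S₀) [IsDomain S₀] :
    IsDomain A₀ ∧ CAlg2.IsGeomUnibranch A₀ := by
  haveI hff : Module.FaithfullyFlat A₀ S₀ := Module.FaithfullyFlat.of_flat_of_isLocalHom
  have hinjS : Function.Injective (algebraMap A₀ S₀) := FaithfulSMul.algebraMap_injective A₀ S₀
  haveI hdom : IsDomain A₀ := hinjS.isDomain (algebraMap A₀ S₀)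
  refine ⟨hdom, ?_⟩
  haveI : HenselianLocalRing (S₀ ⧸ (nilradical A₀).map (algebraMap A₀ S₀)) :=
    Groth.Agent.H3.henselianLocalRing_quotient S₀ _ (map_nilradical_ne_top A₀ S₀)
  haveI := flat_Q A₀ S₀
  haveI : Module.FaithfullyFlat (CAlg2.red A₀) (S₀ ⧸ (nilradical A₀).map (algebraMap A₀ S₀)) :=
    Module.FaithfullyFlat.of_flat_of_isLocalHom
  haveI := isSepClosed_Q A₀ S₀
  refine (isGeomUnibranch_iff_isDomain A₀ _ (isUnion_Q A₀ S₀ hU)).mpr ?_
  rw [Ideal.Quotient.isDomain_iff_prime]
  have h0 : nilradical A₀ = ⊥ := by rw [nilradical_eq_zero, Ideal.zero_eq_bot]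
  rw [h0, Ideal.map_bot]
  exact Ideal.isPrime_bot

/-- the quotient of the local ring at `p` by the extension of `I ≤ p` is the local ring of
`R ⧸ I` at `p / I` -/
theorem isLocalization_atPrime_quot (R : Type u) [CommRing R] (I p : Ideal R) [p.IsPrime]
    (hIp : I ≤ p) [hp' : (p.map (Ideal.Quotient.mk I)).IsPrime]
    (Lp : Type u) [CommRing Lp] [Algebra R Lp] [IsLocalization.AtPrime Lp p] :
    IsLocalization.AtPrime (Lp ⧸ I.map (algebraMap R Lp)) (p.map (Ideal.Quotient.mk I)) := by
  have h : IsLocalization (Algebra.algebraMapSubmonoid (R ⧸ I) p.primeCompl)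
      (Lp ⧸ I.map (algebraMap R Lp)) := inferInstance
  have hc : Algebra.algebraMapSubmonoid (R ⧸ I) p.primeCompl =
      (p.map (Ideal.Quotient.mk I)).primeCompl := by
    ext x
    obtain ⟨x, rfl⟩ := Ideal.Quotient.mk_surjective x
    constructor
    · rintro ⟨y, hy, hyx⟩
      intro hmem
      rw [← hyx] at hmem
      exact hy ((Ideal.mem_quotient_iff_mem hIp).mp hmem)
    · intro hx
      refine ⟨x, ?_, rfl⟩
      show x ∉ p
      intro hxq
      exact hx (Ideal.mem_map_of_mem _ hxq)
  show IsLocalization _ _
  rw [← hc]
  exact h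

section Main

attribute [local instance] Localization.AtPrime.algebraOfLiesOver

/-- the hard direction of the étale-universal primality criterion -/
theorem prime_of_etaleUniversallyPrime (R : Type u) [CommRing R] (Δ : R)
    (R' : Type u) [CommRing R'] [Algebra R R'] [Algebra.Smooth R R'] (q : Ideal R') [q.IsPrime]
    (p : Ideal R) [p.IsPrime] [q.LiesOver p] (hΔp : Δ ∈ p)
    (S : Type u) [CommRing S] [IsLocalRing S] [Algebra (Localization.AtPrime p) S]
    [IsLocalHom (algebraMap (Localization.AtPrime p) S)]
    [Hensel.IsStrictHenselization (Localization.AtPrime p) S]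
    (hS : Prime (algebraMap (Localization.AtPrime p) S (algebraMap R (Localization.AtPrime p) Δ)))
    (T : Type u) [CommRing T] [IsLocalRing T] [Algebra (Localization.AtPrime q) T]
    [IsLocalHom (algebraMap (Localization.AtPrime q) T)]
    [Hensel.IsStrictHenselization (Localization.AtPrime q) T] :
    Prime (algebraMap (Localization.AtPrime q) T
      (algebraMap R' (Localization.AtPrime q) (algebraMap R R' Δ))) := by
  have hqp : q.comap (algebraMap R R') = p := (Ideal.LiesOver.over (P := q) (p := p)).symm
  have hIp : Ideal.span {Δ} ≤ p := (Ideal.span_singleton_le_iff_mem _).mpr hΔp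
  -- the strict henselization `S` of `R_p` modulo `Δ`
  have hSH : Hensel.IsStrictHenselization (Localization.AtPrime p) S := inferInstance
  obtain ⟨hUS, hffS⟩ := Groth.Agent.H3.HensUnion.package (Or.inr hSH)
  haveI : HenselianLocalRing S := hSH.henselian
  haveI : IsSepClosed (ResidueField S) := hSH.isSepClosure.sep_closed
  have hKp : (Ideal.span {Δ}).map (algebraMap R (Localization.AtPrime p)) ≠ ⊤ := by
    intro h
    have h1 : (Ideal.span {Δ}).map (algebraMap R (Localization.AtPrime p)) ≤
        maximalIdeal (Localization.AtPrime p) := by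
      rw [← IsLocalization.AtPrime.map_eq_maximalIdeal p (Localization.AtPrime p)]
      exact Ideal.map_mono hIp
    rw [h] at h1
    exact (maximalIdeal.isMaximal _).ne_top (top_le_iff.mp h1)
  have hprimeS : (((Ideal.span {Δ}).map (algebraMap R (Localization.AtPrime p))).map
      (algebraMap (Localization.AtPrime p) S)).IsPrime := by
    rw [Ideal.map_span, Ideal.map_span, Set.image_singleton, Set.image_singleton]
    exact (Ideal.span_singleton_prime hS.ne_zero).mpr hS
  have hKS := hprimeS.ne_top
  haveI : IsDomain (S ⧸ ((Ideal.span {Δ}).map (algebraMap R (Localization.AtPrime p))).map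
      (algebraMap (Localization.AtPrime p) S)) := Ideal.Quotient.isDomain _
  haveI : HenselianLocalRing (S ⧸ ((Ideal.span {Δ}).map
      (algebraMap R (Localization.AtPrime p))).map (algebraMap (Localization.AtPrime p) S)) :=
    Groth.Agent.H3.henselianLocalRing_quotient S _ hKS
  haveI : IsSepClosed (ResidueField (S ⧸ ((Ideal.span {Δ}).map
      (algebraMap R (Localization.AtPrime p))).map (algebraMap (Localization.AtPrime p) S))) :=
    isSepClosed_quot S _ hKS
  haveI : Nontrivial (Localization.AtPrime p ⧸ (Ideal.span {Δ}).map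
      (algebraMap R (Localization.AtPrime p))) := Ideal.Quotient.nontrivial_iff.mpr hKp
  haveI : IsLocalRing (Localization.AtPrime p ⧸ (Ideal.span {Δ}).map
      (algebraMap R (Localization.AtPrime p))) :=
    IsLocalRing.of_surjective' (Ideal.Quotient.mk _) Ideal.Quotient.mk_surjective
  haveI := isLocalHom_quot (Localization.AtPrime p) S
    ((Ideal.span {Δ}).map (algebraMap R (Localization.AtPrime p))) hKS
  haveI := flat_quot (Localization.AtPrime p) S
    ((Ideal.span {Δ}).map (algebraMap R (Localization.AtPrime p)))
  have hU₀ := isUnion_quot (Localization.AtPrime p) S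
    ((Ideal.span {Δ}).map (algebraMap R (Localization.AtPrime p))) hUS
  obtain ⟨hdA, hguA⟩ := gu_of_isDomain
    (Localization.AtPrime p ⧸ (Ideal.span {Δ}).map (algebraMap R (Localization.AtPrime p)))
    (S ⧸ ((Ideal.span {Δ}).map (algebraMap R (Localization.AtPrime p))).map
      (algebraMap (Localization.AtPrime p) S)) hU₀
  -- normalization data of `A₀ = R_p ⧸ Δ`
  haveI := hdA
  haveI hdom0 : IsDomain (CAlg2.red (Localization.AtPrime p ⧸ (Ideal.span {Δ}).map
      (algebraMap R (Localization.AtPrime p)))) := hguA.1.1
  haveI hloc : IsLocalRing (CAlg2.normRed (Localization.AtPrime p ⧸ (Ideal.span {Δ}).map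
      (algebraMap R (Localization.AtPrime p)))) := hguA.1.2
  haveI := isIntegrallyClosed_normRed (Localization.AtPrime p ⧸ (Ideal.span {Δ}).map
      (algebraMap R (Localization.AtPrime p)))
  obtain ⟨e, he, hpi⟩ := EtUni.exists_pi_data _ hguA
  have hinj := algebraMap_normRed_injective (Localization.AtPrime p ⧸ (Ideal.span {Δ}).map
      (algebraMap R (Localization.AtPrime p)))
  haveI hp' : (p.map (Ideal.Quotient.mk (Ideal.span {Δ}))).IsPrime :=
    Ideal.map_isPrime_of_surjective Ideal.Quotient.mk_surjective (by rwa [Ideal.mk_ker])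
  haveI := isLocalization_atPrime_quot R (Ideal.span {Δ}) p hIp (Localization.AtPrime p)
  -- the ideal `K` of `R'_q`
  have hK : ((Ideal.span {Δ}).map (algebraMap R R')).map
      (algebraMap R' (Localization.AtPrime q)) ≠ ⊤ := by
    intro h
    have h1 : ((Ideal.span {Δ}).map (algebraMap R R')).map
        (algebraMap R' (Localization.AtPrime q)) ≤ maximalIdeal (Localization.AtPrime q) := by
      rw [← IsLocalization.AtPrime.map_eq_maximalIdeal q (Localization.AtPrime q)]
      apply Ideal.map_mono
      rw [Ideal.map_le_iff_le_comap, hqp]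
      exact hIp
    rw [h] at h1
    exact (maximalIdeal.isMaximal _).ne_top (top_le_iff.mp h1)
  haveI : Nontrivial (Localization.AtPrime q ⧸ ((Ideal.span {Δ}).map (algebraMap R R')).map
      (algebraMap R' (Localization.AtPrime q))) := Ideal.Quotient.nontrivial_iff.mpr hK
  haveI : IsLocalRing (Localization.AtPrime q ⧸ ((Ideal.span {Δ}).map (algebraMap R R')).map
      (algebraMap R' (Localization.AtPrime q))) :=
    IsLocalRing.of_surjective' (Ideal.Quotient.mk _) Ideal.Quotient.mk_surjective
  obtain ⟨hd, hgu⟩ := quot_smooth_step R R' (Ideal.span {Δ}) p hIp q hqp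
    (Localization.AtPrime p ⧸ (Ideal.span {Δ}).map (algebraMap R (Localization.AtPrime p)))
    (CAlg2.normRed (Localization.AtPrime p ⧸ (Ideal.span {Δ}).map
      (algebraMap R (Localization.AtPrime p)))) hinj e he hpi (Localization.AtPrime q)
  haveI := hd
  -- the strict henselization `T`
  have hSHT : Hensel.IsStrictHenselization (Localization.AtPrime q) T := inferInstance
  obtain ⟨hU, hff⟩ := Groth.Agent.H3.HensUnion.package (Or.inr hSHT)
  have hprime := isPrime_map_of_gu (Localization.AtPrime q) T hU _ hK hgu
  rw [Ideal.map_span, Ideal.map_span, Ideal.map_span, Set.image_singleton, Set.image_singleton,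
    Set.image_singleton] at hprime
  refine (Ideal.span_singleton_prime ?_).mp hprime
  -- nonvanishing
  haveI : IsLocalHom (algebraMap (Localization.AtPrime p) (Localization.AtPrime q)) := by
    rw [RingHom.algebraMap_toAlgebra]
    infer_instance
  haveI : Module.Flat R (Localization.AtPrime q) := Module.Flat.trans R R' _
  haveI : Module.Flat (Localization.AtPrime p) (Localization.AtPrime q) :=
    (Module.flat_iff_of_isLocalization (Localization.AtPrime p) p.primeCompl
      (Localization.AtPrime q)).mpr inferInstance
  haveI : Module.FaithfullyFlat (Localization.AtPrime p) (Localization.AtPrime q) :=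
    Module.FaithfullyFlat.of_flat_of_isLocalHom
  intro h0
  have h1 := (FaithfulSMul.algebraMap_injective (Localization.AtPrime q) T)
    (h0.trans (map_zero _).symm)
  rw [← IsScalarTower.algebraMap_apply R R' (Localization.AtPrime q),
    IsScalarTower.algebraMap_apply R (Localization.AtPrime p) (Localization.AtPrime q)] at h1
  have h2 := (FaithfulSMul.algebraMap_injective (Localization.AtPrime p) (Localization.AtPrime q))
    (h1.trans (map_zero _).symm)
  apply hS.ne_zero
  rw [h2, map_zero]

end Main

/-- **Étale-universal primality** can be tested on all smooth algebras. -/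
theorem etaleUniversallyPrime_iff (R : Type u) [CommRing R] (Δ : R) :
    (∀ (p : Ideal R) [p.IsPrime], Δ ∈ p →
        ∀ (T : Type u) [CommRing T] [IsLocalRing T] [Algebra (Localization.AtPrime p) T]
          [IsLocalHom (algebraMap (Localization.AtPrime p) T)]
          [Hensel.IsStrictHenselization (Localization.AtPrime p) T],
          Prime (algebraMap (Localization.AtPrime p) T (algebraMap R (Localization.AtPrime p) Δ))) ↔
    (∀ (R' : Type u) [CommRing R'] [Algebra R R'] [Algebra.Smooth R R'] (q : Ideal R') [q.IsPrime]
        (T : Type u) [CommRing T] [IsLocalRing T] [Algebra (Localization.AtPrime q) T]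
          [IsLocalHom (algebraMap (Localization.AtPrime q) T)]
          [Hensel.IsStrictHenselization (Localization.AtPrime q) T],
        IsUnit (algebraMap (Localization.AtPrime q) T (algebraMap R' (Localization.AtPrime q) (algebraMap R R' Δ))) ∨
          Prime (algebraMap (Localization.AtPrime q) T (algebraMap R' (Localization.AtPrime q) (algebraMap R R' Δ)))) := by
  constructor
  · intro H R' _ _ _ q _ T _ _ _ _ _
    by_cases hΔq : algebraMap R R' Δ ∈ q
    · right
      haveI : (q.comap (algebraMap R R')).IsPrime := Ideal.comap_isPrime _ _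
      haveI : q.LiesOver (q.comap (algebraMap R R')) := ⟨rfl⟩
      haveI := Groth.Agent.H3.SH.isStrictHenselization
        (Localization.AtPrime (q.comap (algebraMap R R')))
      have hS := H (q.comap (algebraMap R R')) hΔq
        (Groth.Agent.H3.SH.S (Localization.AtPrime (q.comap (algebraMap R R'))))
      exact prime_of_etaleUniversallyPrime R Δ R' q (q.comap (algebraMap R R')) hΔq
        (Groth.Agent.H3.SH.S (Localization.AtPrime (q.comap (algebraMap R R')))) hS T
    · left
      have hu : IsUnit (algebraMap R' (Localization.AtPrime q) (algebraMap R R' Δ)) :=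
        IsLocalization.map_units (Localization.AtPrime q)
          (⟨algebraMap R R' Δ, hΔq⟩ : q.primeCompl)
      exact hu.map _
  · intro H p _ hΔp T _ _ _ _ _
    rcases H R p T with h | h
    · exfalso
      have h1 : algebraMap R (Localization.AtPrime p) Δ ∈ maximalIdeal (Localization.AtPrime p) :=
        (IsLocalization.AtPrime.to_map_mem_maximal_iff _ p _).mpr hΔp
      have h2 : IsUnit (algebraMap R (Localization.AtPrime p) Δ) :=
        IsUnit.of_map (algebraMap (Localization.AtPrime p) T) _ h
      exact (IsLocalRing.mem_maximalIdeal _).mp h1 h2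
    · exact h

end Groth.Agent.H66.SmoothGU
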