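import Mathlib
import Groth.Prelude.Def_CAlg2
import Groth.Prelude.Def_Hensel
import Groth.Agent.H66.SmoothGU2

set_option autoImplicit false
set_option linter.style.haveILetI false
universe u

namespace Groth.Agent.H66.SmoothGU

open IsLocalRing Groth.Agent.H3.UnionEtale Groth.Agent.H66.PolyUnibranch
open Groth.Agent.H14.HensProp Groth.Agent.H14.HensProp.StrictUni Groth.Agent.H14.HensProp.UniqueMin

/-- the nilradical of a localization is the extension of the nilradical -/
theorem map_nilradical_of_isLocalization (B A₀ : Type u) [CommRing B] [CommRing A₀] [Algebra B A₀]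
    (M : Submonoid B) [IsLocalization M A₀] :
    (nilradical B).map (algebraMap B A₀) = nilradical A₀ := by
  apply le_antisymm
  · rw [Ideal.map_le_iff_le_comap]
    intro b hb
    rw [Ideal.mem_comap]
    exact mem_nilradical.mpr ((mem_nilradical.mp hb).map _)
  · intro a ha
    obtain ⟨n, hn⟩ := mem_nilradical.mp ha
    obtain ⟨⟨b, s⟩, hbs⟩ := IsLocalization.surj M a
    simp only at hbs
    have h1 : algebraMap B A₀ (b ^ n) = 0 := by
      rw [map_pow, ← hbs, mul_pow, hn, zero_mul]
    obtain ⟨t, ht⟩ := (IsLocalization.map_eq_zero_iff M A₀ _).mp h1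
    have h2 : (t : B) * b ∈ nilradical B := by
      refine mem_nilradical.mpr ⟨n + 1, ?_⟩
      calc ((t : B) * b) ^ (n + 1) = (t : B) ^ n * b * ((t : B) * b ^ n) := by ring
        _ = 0 := by rw [ht, mul_zero]
    have hu : IsUnit (algebraMap B A₀ ((t : B) * (s : B))) := by
      rw [map_mul]
      exact (IsLocalization.map_units A₀ t).mul (IsLocalization.map_units A₀ s)
    have h3 : a * algebraMap B A₀ ((t : B) * (s : B)) = algebraMap B A₀ ((t : B) * b) := by
      rw [map_mul, map_mul, ← hbs]
      ring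
    have h4 : a * algebraMap B A₀ ((t : B) * (s : B)) ∈ (nilradical B).map (algebraMap B A₀) := by
      rw [h3]
      exact Ideal.mem_map_of_mem _ h2
    exact (Ideal.mul_unit_mem_iff_mem _ hu).mp h4

/-- transport along an equality of ideals -/
theorem quot_transport (L : Type u) [CommRing L] (K K' : Ideal L) (hK : K = K')
    [i1 : IsLocalRing (L ⧸ K)] [i2 : IsLocalRing (L ⧸ K')]
    (h : IsDomain (L ⧸ K) ∧ CAlg2.IsGeomUnibranch (L ⧸ K)) :
    IsDomain (L ⧸ K') ∧ CAlg2.IsGeomUnibranch (L ⧸ K') := by
  subst hK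
  exact h

/-- a local ring whose reduction is a geometrically unibranch domain is geometrically unibranch -/
theorem gu_of_gu_red (L : Type u) [CommRing L] [IsLocalRing L] [IsDomain (CAlg2.red L)]
    (h : CAlg2.IsGeomUnibranch (CAlg2.red L)) : CAlg2.IsGeomUnibranch L := by
  have hSH := Groth.Agent.H3.SH.isStrictHenselization (CAlg2.red L)
  obtain ⟨hU, hff⟩ := Groth.Agent.H3.HensUnion.package (Or.inr hSH)
  haveI := hSH
  haveI : IsReduced (CAlg2.red L) := inferInstance
  haveI : IsDomain (Groth.Agent.H3.SH.S (CAlg2.red L)) :=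
    (reduced_isGeomUnibranch_iff_isDomain (CAlg2.red L) (Groth.Agent.H3.SH.S (CAlg2.red L))).mp
      ⟨inferInstance, h⟩
  haveI : HenselianLocalRing (Groth.Agent.H3.SH.S (CAlg2.red L)) := hSH.henselian
  haveI : IsSepClosed (ResidueField (Groth.Agent.H3.SH.S (CAlg2.red L))) :=
    hSH.isSepClosure.sep_closed
  exact (isGeomUnibranch_iff_isDomain L (Groth.Agent.H3.SH.S (CAlg2.red L)) hU).mpr inferInstance

/-- **Smooth algebras over geometrically unibranch local rings** (not necessarily reduced) are
geometrically unibranch: ring form. -/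
theorem gu_smooth (B R' : Type u) [CommRing B] [CommRing R'] [Algebra B R'] [Algebra.Smooth B R']
    (p : Ideal B) [p.IsPrime] (q : Ideal R') [q.IsPrime] (hqp : q.comap (algebraMap B R') = p)
    (A₀ : Type u) [CommRing A₀] [IsLocalRing A₀] [Algebra B A₀] [IsLocalization.AtPrime A₀ p]
    (hA₀ : CAlg2.IsGeomUnibranch A₀)
    (L : Type u) [CommRing L] [IsLocalRing L] [Algebra R' L] [IsLocalization.AtPrime L q] :
    CAlg2.IsGeomUnibranch L := by
  have hIp : nilradical B ≤ p := nilradical_le_prime p
  have hKp : (nilradical B).map (algebraMap B A₀) = nilradical A₀ :=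
    map_nilradical_of_isLocalization B A₀ p.primeCompl
  -- strict henselization of `A₀`
  have hSH := Groth.Agent.H3.SH.isStrictHenselization A₀
  obtain ⟨hUS, hffS⟩ := Groth.Agent.H3.HensUnion.package (Or.inr hSH)
  haveI := hSH
  haveI : HenselianLocalRing (Groth.Agent.H3.SH.S A₀) := hSH.henselian
  haveI : IsSepClosed (ResidueField (Groth.Agent.H3.SH.S A₀)) := hSH.isSepClosure.sep_closed
  have hprimeS : (((nilradical B).map (algebraMap B A₀)).map
      (algebraMap A₀ (Groth.Agent.H3.SH.S A₀))).IsPrime := by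
    rw [hKp, Groth.Agent.H3.HensUnion.map_nilradical (Or.inr hSH)]
    exact (hasUniqueMinimalPrime_iff_isPrime_nilradical _).mp
      ((isGeomUnibranch_iff_hasUniqueMinimalPrime (A := A₀)
        (Ash := Groth.Agent.H3.SH.S A₀)).mp hA₀)
  have hKS := hprimeS.ne_top
  have hKp' : (nilradical B).map (algebraMap B A₀) ≠ ⊤ := by
    rw [hKp]
    intro h
    have h1 := nilradical_le_maximalIdeal A₀
    rw [h] at h1
    exact (maximalIdeal.isMaximal _).ne_top (top_le_iff.mp h1)
  haveI : IsDomain (Groth.Agent.H3.SH.S A₀ ⧸ ((nilradical B).map (algebraMap B A₀)).map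
      (algebraMap A₀ (Groth.Agent.H3.SH.S A₀))) := Ideal.Quotient.isDomain _
  haveI : HenselianLocalRing (Groth.Agent.H3.SH.S A₀ ⧸ ((nilradical B).map
      (algebraMap B A₀)).map (algebraMap A₀ (Groth.Agent.H3.SH.S A₀))) :=
    Groth.Agent.H3.henselianLocalRing_quotient _ _ hKS
  haveI : IsSepClosed (ResidueField (Groth.Agent.H3.SH.S A₀ ⧸ ((nilradical B).map
      (algebraMap B A₀)).map (algebraMap A₀ (Groth.Agent.H3.SH.S A₀)))) :=
    isSepClosed_quot _ _ hKS
  haveI : Nontrivial (A₀ ⧸ (nilradical B).map (algebraMap B A₀)) :=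
    Ideal.Quotient.nontrivial_iff.mpr hKp'
  haveI : IsLocalRing (A₀ ⧸ (nilradical B).map (algebraMap B A₀)) :=
    IsLocalRing.of_surjective' (Ideal.Quotient.mk _) Ideal.Quotient.mk_surjective
  haveI := isLocalHom_quot A₀ (Groth.Agent.H3.SH.S A₀) ((nilradical B).map (algebraMap B A₀)) hKS
  haveI := flat_quot A₀ (Groth.Agent.H3.SH.S A₀) ((nilradical B).map (algebraMap B A₀))
  have hU₀ := isUnion_quot A₀ (Groth.Agent.H3.SH.S A₀) ((nilradical B).map (algebraMap B A₀)) hUS
  obtain ⟨hdA, hguA⟩ := gu_of_isDomain (A₀ ⧸ (nilradical B).map (algebraMap B A₀))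
    (Groth.Agent.H3.SH.S A₀ ⧸ ((nilradical B).map (algebraMap B A₀)).map
      (algebraMap A₀ (Groth.Agent.H3.SH.S A₀))) hU₀
  -- normalization data
  haveI := hdA
  haveI hdom0 : IsDomain (CAlg2.red (A₀ ⧸ (nilradical B).map (algebraMap B A₀))) := hguA.1.1
  haveI hloc : IsLocalRing (CAlg2.normRed (A₀ ⧸ (nilradical B).map (algebraMap B A₀))) :=
    hguA.1.2
  haveI := isIntegrallyClosed_normRed (A₀ ⧸ (nilradical B).map (algebraMap B A₀))
  obtain ⟨e, he, hpi⟩ := EtUni.exists_pi_data _ hguA
  have hinj := algebraMap_normRed_injective (A₀ ⧸ (nilradical B).map (algebraMap B A₀))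
  haveI hp' : (p.map (Ideal.Quotient.mk (nilradical B))).IsPrime :=
    Ideal.map_isPrime_of_surjective Ideal.Quotient.mk_surjective (by rwa [Ideal.mk_ker])
  haveI := isLocalization_atPrime_quot B (nilradical B) p hIp A₀
  -- the ideal `K` of `L`
  have hKle : ((nilradical B).map (algebraMap B R')).map (algebraMap R' L) ≤ nilradical L := by
    rw [Ideal.map_map, Ideal.map_le_iff_le_comap]
    intro b hb
    rw [Ideal.mem_comap]
    exact mem_nilradical.mpr ((mem_nilradical.mp hb).map _)
  have hK : ((nilradical B).map (algebraMap B R')).map (algebraMap R' L) ≠ ⊤ := by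
    intro h
    have h1 := hKle.trans (nilradical_le_maximalIdeal L)
    rw [h] at h1
    exact (maximalIdeal.isMaximal _).ne_top (top_le_iff.mp h1)
  haveI : Nontrivial (L ⧸ ((nilradical B).map (algebraMap B R')).map (algebraMap R' L)) :=
    Ideal.Quotient.nontrivial_iff.mpr hK
  haveI : IsLocalRing (L ⧸ ((nilradical B).map (algebraMap B R')).map (algebraMap R' L)) :=
    IsLocalRing.of_surjective' (Ideal.Quotient.mk _) Ideal.Quotient.mk_surjective
  have hres := quot_smooth_step B R' (nilradical B) p hIp q hqp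
    (A₀ ⧸ (nilradical B).map (algebraMap B A₀))
    (CAlg2.normRed (A₀ ⧸ (nilradical B).map (algebraMap B A₀))) hinj e he hpi L
  -- `K` is the nilradical of `L`
  have hKeq : ((nilradical B).map (algebraMap B R')).map (algebraMap R' L) = nilradical L := by
    refine le_antisymm hKle ?_
    haveI := hres.1
    have hprime : (((nilradical B).map (algebraMap B R')).map (algebraMap R' L)).IsPrime :=
      (Ideal.Quotient.isDomain_iff_prime _).mp hres.1
    exact nilradical_le_prime _
  obtain ⟨hd, hgu⟩ := quot_transport L _ (nilradical L) hKeq hres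
  haveI : IsDomain (CAlg2.red L) := hd
  exact gu_of_gu_red L hgu

end Groth.Agent.H66.SmoothGU
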