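import Mathlib
import Groth.Prelude.Def_CAlg2
import Groth.Agent.H66.SmoothGU3

set_option autoImplicit false
set_option linter.style.haveILetI false
universe u

namespace Groth.Agent.H66.SmoothGU

open AlgebraicGeometry CategoryTheory IsLocalRing

/-- **Smooth morphisms preserve geometric unibranchness of local rings.** -/
theorem isGeomUnibranch_stalk_of_smooth {X Y : Scheme.{u}} (f : X ⟶ Y) [Smooth f] (x : X)
    (hY : CAlg2.IsGeomUnibranch (Y.presheaf.stalk (f.base x))) :
    CAlg2.IsGeomUnibranch (X.presheaf.stalk x) := by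
  obtain ⟨_, ⟨V, hV, rfl⟩, hyV, -⟩ :=
    Y.isBasis_affineOpens.exists_subset_of_mem_open (Set.mem_univ (f x)) isOpen_univ
  obtain ⟨_, ⟨W, hW, rfl⟩, hxW, hWV⟩ :=
    X.isBasis_affineOpens.exists_subset_of_mem_open hyV (V.2.preimage f.continuous)
  have hQ : (f.appLE V W hWV).hom.Smooth :=
    HasRingHomProperty.appLE @Smooth f inferInstance ⟨V, hV⟩ ⟨W, hW⟩ hWV
  letI algRC : Algebra Γ(Y, V) Γ(X, W) := (f.appLE V W hWV).hom.toAlgebra
  haveI : Algebra.Smooth Γ(Y, V) Γ(X, W) := hQ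
  letI := Y.presheaf.algebra_section_stalk ⟨f x, hWV hxW⟩
  haveI := hV.isLocalization_stalk ⟨f x, hWV hxW⟩
  letI := X.presheaf.algebra_section_stalk ⟨x, hxW⟩
  haveI := hW.isLocalization_stalk ⟨x, hxW⟩
  have hqp : (hW.primeIdealOf ⟨x, hxW⟩).asIdeal.comap (algebraMap Γ(Y, V) Γ(X, W)) =
      (hV.primeIdealOf ⟨f x, hWV hxW⟩).asIdeal :=
    congr($(IsAffineOpen.comap_primeIdealOf_appLE V hV W hW hWV hxW).asIdeal)
  exact gu_smooth Γ(Y, V) Γ(X, W) (hV.primeIdealOf ⟨f x, hWV hxW⟩).asIdeal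
    (hW.primeIdealOf ⟨x, hxW⟩).asIdeal hqp (Y.presheaf.stalk (f x)) hY (X.presheaf.stalk x)

open AffineSpace MvPolynomial Limits in
set_option backward.isDefEq.respectTransparency.types false in
/-- affine space in finitely many variables is smooth over the base -/
theorem smooth_affineSpace (n : Type u) [Finite n] (S : Scheme.{u}) : Smooth (𝔸(n; S) ↘ S) :=
  MorphismProperty.pullback_fst _ _ <| by
  have := isIso_of_isTerminal specULiftZIsTerminal.{u} terminalIsTerminal (terminal.from _)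
  rw [← terminal.comp_from (Spec.map (CommRingCat.ofHom C)),
    MorphismProperty.cancel_right_of_respectsIso (P := @Smooth),
    HasRingHomProperty.Spec_iff (P := @Smooth), RingHom.Smooth]
  convert! (⟨inferInstance, inferInstance⟩ : Algebra.Smooth (ULift ℤ) (MvPolynomial n (ULift ℤ)))
  exact Algebra.algebra_ext _ _ fun _ ↦ rfl

/-- **Affine space over a geometrically unibranch point** is geometrically unibranch. -/
theorem isGeomUnibranch_stalk_affineSpace {Y : Scheme.{u}} (n : ℕ) (y' : ↥𝔸(ULift.{u} (Fin n); Y))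
    (hy : CAlg2.IsGeomUnibranch (Y.presheaf.stalk ((𝔸(ULift.{u} (Fin n); Y) ↘ Y).base y'))) :
    CAlg2.IsGeomUnibranch ((𝔸(ULift.{u} (Fin n); Y)).presheaf.stalk y') := by
  haveI := smooth_affineSpace (ULift.{u} (Fin n)) Y
  exact isGeomUnibranch_stalk_of_smooth (𝔸(ULift.{u} (Fin n); Y) ↘ Y) y' hy

end Groth.Agent.H66.SmoothGU
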