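import Mathlib
import Groth.Agent.H3.HensQFFinite
import Groth.Agent.H3.HensLocal
import Groth.Agent.H3.HensUnion
import Groth.Agent.H14.HensProp.UniqueMin

/-!
# Going down at a quasi-finite point over a unibranch local ring

`R → S` of finite type and quasi-finite, `q` a prime of `S` over `p`, `A = R_p` unibranch, and some
prime `q₀ ⊆ q` lies over the "generic point below `p`". Then every prime `p' ⊆ p` is the
contraction of a prime `q' ⊆ q`.
-/

set_option autoImplicit false
universe u

open TensorProduct IsLocalRing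

namespace Groth.Agent.H66.UnibranchGD

section ResidueMap

variable (R S : Type u) [CommRing R] [CommRing S] [Algebra R S]
  (p : Ideal R) [p.IsPrime] (q : Ideal S) [q.IsPrime] [q.LiesOver p]
  (A : Type u) [CommRing A] [IsLocalRing A] [Algebra R A] [IsLocalization.AtPrime A p]
  (Ah : Type u) [CommRing Ah] [IsLocalRing Ah] [Algebra A Ah] [IsLocalHom (algebraMap A Ah)]
  [Algebra R Ah] [IsScalarTower R A Ah]

include p in
theorem isUnit_algebraMap_residueField (y : p.primeCompl) :
    IsUnit (algebraMap R q.ResidueField (y : R)) := by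
  rw [isUnit_iff_ne_zero, IsScalarTower.algebraMap_apply R S q.ResidueField, Ne,
    Ideal.algebraMap_residueField_eq_zero]
  intro h
  obtain ⟨y, hy⟩ := y
  apply hy
  have h' : y ∈ q.under R := h
  rwa [← q.over_def p] at h'

/-- the local map `R_p → κ(q)` -/
noncomputable def toRes : A →+* q.ResidueField :=
  IsLocalization.lift (M := p.primeCompl) (g := algebraMap R q.ResidueField)
    (isUnit_algebraMap_residueField R S p q)

theorem toRes_algebraMap (r : R) : toRes R S p q A (algebraMap R A r) = algebraMap R _ r :=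
  IsLocalization.lift_eq _ r

theorem isLocalHom_toRes : IsLocalHom (toRes R S p q A) := by
  refine ((local_hom_TFAE (toRes R S p q A)).out 0 2).mpr ?_
  rw [← IsLocalization.AtPrime.map_eq_maximalIdeal p A, Ideal.map_map, Ideal.map_le_iff_le_comap]
  intro x hx
  rw [Ideal.mem_comap, RingHom.comp_apply, toRes_algebraMap,
    IsScalarTower.algebraMap_apply R S q.ResidueField]
  have : algebraMap S q.ResidueField (algebraMap R S x) = 0 := by
    rw [Ideal.algebraMap_residueField_eq_zero]
    rw [q.over_def p] at hx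
    exact hx
  rw [this]
  exact Ideal.zero_mem _

include p in
/-- the henselization of `R_p` maps locally to `κ(q)`, over `R` -/
theorem exists_toRes (hH : Hensel.IsHenselization A Ah) :
    ∃ g : Ah →+* q.ResidueField, g.comp (algebraMap R Ah) = algebraMap R q.ResidueField ∧
      IsLocalHom g := by
  obtain ⟨g, hg, -⟩ := hH.universal q.ResidueField (toRes R S p q A) (isLocalHom_toRes R S p q A)
  have hgR : g.comp (algebraMap R Ah) = algebraMap R q.ResidueField := by
    ext r
    rw [RingHom.comp_apply, IsScalarTower.algebraMap_apply R A Ah]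
    have := congrArg (fun φ : A →+* q.ResidueField => φ (algebraMap R A r)) hg
    simp only [RingHom.comp_apply] at this
    rw [this, toRes_algebraMap]
  refine ⟨g, hgR, ?_⟩
  -- `ker g` is a prime over the maximal ideal of `A`
  refine ((local_hom_TFAE g).out 0 2).mpr ?_
  have hmax : maximalIdeal Ah = (maximalIdeal A).map (algebraMap A Ah) := by
    have hP := Groth.Agent.H3.HensIso.isPairHenselization_of_isHenselization hH
    exact Groth.Agent.H3.HensLocal.maximalIdeal_eq hP
  rw [hmax, Ideal.map_map, hg]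
  exact ((local_hom_TFAE (toRes R S p q A)).out 0 2).mp (isLocalHom_toRes R S p q A)

end ResidueMap

section Main

open Groth.Agent.H3 Groth.Agent.H3.HensTensorPrime

variable (R S : Type u) [CommRing R] [CommRing S] [Algebra R S] [Algebra.FiniteType R S]
  [Algebra.QuasiFinite R S]
  (p : Ideal R) [p.IsPrime] (q : Ideal S) [q.IsPrime] [q.LiesOver p]
  (A : Type u) [CommRing A] [IsLocalRing A] [Algebra R A] [IsLocalization.AtPrime A p]
  (Ah : Type u) [CommRing Ah] [IsLocalRing Ah] [Algebra A Ah] [IsLocalHom (algebraMap A Ah)]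
  [Algebra R Ah] [IsScalarTower R A Ah]

include p in
/-- primes of `R_p` are determined by their contractions, monotonically -/
theorem le_of_under_le (𝔞 𝔟 : Ideal A) (h : 𝔞.under R ≤ 𝔟.under R) : 𝔞 ≤ 𝔟 := by
  rw [← IsLocalization.map_comap p.primeCompl A 𝔞, ← IsLocalization.map_comap p.primeCompl A 𝔟]
  exact Ideal.map_mono h

include p in
theorem under_le_of_isPrime (𝔟 : Ideal A) [𝔟.IsPrime] : 𝔟.under R ≤ p := by
  have h1 : 𝔟 ≤ maximalIdeal A := IsLocalRing.le_maximalIdeal (Ideal.IsPrime.ne_top ‹_›)
  have h2 : (maximalIdeal A).under R = p := IsLocalization.AtPrime.comap_maximalIdeal A p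
  rw [← h2]
  exact Ideal.comap_mono h1

attribute [local instance] Algebra.TensorProduct.rightAlgebra in
include p A in
theorem going_down_aux (hH : Hensel.IsHenselization A Ah) (hA : CAlg2.IsUnibranch A)
    (q₀ : Ideal S) [q₀.IsPrime] (hq₀ : q₀ ≤ q)
    (hgen : ∀ p' : Ideal R, p'.IsPrime → p' ≤ p → q₀.under R ≤ p')
    (p' : Ideal R) [p'.IsPrime] (hp' : p' ≤ p) :
    ∃ q' : Ideal S, q'.IsPrime ∧ q' ≤ q ∧ q'.under R = p' := by
  obtain ⟨g, hgR, hgloc⟩ := exists_toRes R S p q A Ah hH
  letI : Algebra Ah q.ResidueField := g.toAlgebra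
  haveI : IsScalarTower R Ah q.ResidueField := IsScalarTower.of_algebraMap_eq' hgR.symm
  haveI : IsLocalHom (algebraMap Ah q.ResidueField) := hgloc
  haveI : IsLocalHom (algebraMap (Localization.AtPrime q) q.ResidueField) :=
    inferInstanceAs (IsLocalHom (IsLocalRing.residue (Localization.AtPrime q)))
  haveI : HenselianLocalRing Ah := hH.henselian
  obtain ⟨hU, hff⟩ := HensUnion.package (Or.inl hH)
  -- the prime `Q` and finiteness of `T`
  have hfin : Module.Finite Ah (Localization.AtPrime (Q R S Ah q.ResidueField)) :=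
    HensQFFinite.finite_T R S q Ah q.ResidueField
  have hQq : q = (Q R S Ah q.ResidueField).comap
      (Algebra.TensorProduct.includeRight : S →ₐ[R] Ah ⊗[R] S).toRingHom :=
    HensQFFinite.comap_includeRight R S q Ah q.ResidueField
  set Q := Q R S Ah q.ResidueField with hQdef
  haveI hQprime : Q.IsPrime := Ideal.comap_isPrime _ _
  -- flatness of `S → Ah ⊗ S`
  haveI : Module.Flat R A := IsLocalization.flat A p.primeCompl
  haveI : Module.Flat A Ah := hff.toFlat
  haveI : Module.Flat R Ah := Module.Flat.trans R A Ah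
  have hpush : Algebra.IsPushout R S Ah (Ah ⊗[R] S) := TensorProduct.isPushout'
  haveI : Module.Flat S (Ah ⊗[R] S) := Module.Flat.isBaseChange R S Ah (Ah ⊗[R] S) hpush.out
  haveI : Q.LiesOver q := ⟨hQq⟩
  obtain ⟨Q₀, hQ₀le, hQ₀prime, hQ₀over⟩ := Ideal.exists_ideal_le_liesOver_of_le (p := q₀) (q := q) Q hq₀
  -- the two ways from `R` to the tensor product agree
  have hsq : ∀ r : R, algebraMap S (Ah ⊗[R] S) (algebraMap R S r) =
      algebraMap Ah (Ah ⊗[R] S) (algebraMap R Ah r) := by
    intro r
    rw [← IsScalarTower.algebraMap_apply R S (Ah ⊗[R] S),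
      ← IsScalarTower.algebraMap_apply R Ah (Ah ⊗[R] S)]
  have hunderR : ∀ J : Ideal (Ah ⊗[R] S), (J.under S).under R = ((J.under Ah).under A).under R := by
    intro J
    ext r
    simp only [Ideal.under_def, Ideal.mem_comap]
    rw [hsq, IsScalarTower.algebraMap_apply R A Ah]
  -- the nilradical of `Ah` is prime
  haveI hN : (nilradical Ah).IsPrime :=
    (Groth.Agent.H14.HensProp.UniqueMin.hasUniqueMinimalPrime_iff_isPrime_nilradical Ah).mp
      ((Groth.Agent.H14.HensProp.UniqueMin.isUnibranch_iff_hasUniqueMinimalPrime).mp hA)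
  -- `Q₀` contracts to the nilradical of `Ah`
  haveI hP'prime : (Q₀.under Ah).IsPrime := Ideal.comap_isPrime _ _
  have hP'N : Q₀.under Ah = nilradical Ah := by
    have hle : nilradical Ah ≤ Q₀.under Ah := nilradical_le_prime _
    by_contra hne
    have hlt : nilradical Ah < Q₀.under Ah := lt_of_le_of_ne hle (Ne.symm hne)
    have h1 := UnionEtale.under_lt_under hU hlt
    have h2 : (Q₀.under Ah).under A ≤ (nilradical Ah).under A := by
      intro a ha
      have hnil : a ∈ nilradical A := by
        rw [nilradical_eq_sInf, Ideal.mem_sInf]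
        intro 𝔟 h𝔟
        haveI : 𝔟.IsPrime := h𝔟
        have h3 : ((Q₀.under Ah).under A).under R ≤ 𝔟.under R := by
          rw [← hunderR, ← hQ₀over.over]
          exact hgen _ (Ideal.comap_isPrime _ _) (under_le_of_isPrime R p A 𝔟)
        exact le_of_under_le R p A _ _ h3 ha
      rw [Ideal.under_def, Ideal.mem_comap]
      exact (mem_nilradical.mp hnil).map _
    exact absurd h2 (not_le_of_gt h1)
  -- pass to `T = (Ah ⊗ S)_Q`, finite over `Ah`
  haveI : Algebra.IsIntegral Ah (Localization.AtPrime Q) := Algebra.IsIntegral.of_finite Ah _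
  have hdisj : Disjoint (Q.primeCompl : Set (Ah ⊗[R] S)) (Q₀ : Set (Ah ⊗[R] S)) := by
    rw [Set.disjoint_left]
    intro x hx hx'
    exact hx (hQ₀le hx')
  haveI hI : (Q₀.map (algebraMap (Ah ⊗[R] S) (Localization.AtPrime Q))).IsPrime :=
    IsLocalization.isPrime_of_isPrime_disjoint Q.primeCompl _ Q₀ hQ₀prime hdisj
  have hIcomap : (Q₀.map (algebraMap (Ah ⊗[R] S) (Localization.AtPrime Q))).comap
      (algebraMap (Ah ⊗[R] S) (Localization.AtPrime Q)) = Q₀ :=
    IsLocalization.comap_map_of_isPrime_disjoint Q.primeCompl _ hQ₀prime hdisj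
  -- the prime of `A` over `p'` and a prime of `Ah` over it
  have hdisj' : Disjoint (p.primeCompl : Set R) (p' : Set R) := by
    rw [Set.disjoint_left]
    intro x hx hx'
    exact hx (hp' hx')
  haveI h𝔭' : (p'.map (algebraMap R A)).IsPrime :=
    IsLocalization.isPrime_of_isPrime_disjoint p.primeCompl A p' ‹_› hdisj'
  have h𝔭'comap : (p'.map (algebraMap R A)).comap (algebraMap R A) = p' :=
    IsLocalization.comap_map_of_isPrime_disjoint p.primeCompl A ‹_› hdisj'
  obtain ⟨P, hPprime, hPover⟩ :=
    Ideal.exists_isPrime_liesOver_of_faithfullyFlat (B := Ah) (p'.map (algebraMap R A))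
  -- going up in `T`
  have hIP : (Q₀.map (algebraMap (Ah ⊗[R] S) (Localization.AtPrime Q))).comap
      (algebraMap Ah (Localization.AtPrime Q)) ≤ P := by
    rw [IsScalarTower.algebraMap_eq Ah (Ah ⊗[R] S) (Localization.AtPrime Q), ← Ideal.comap_comap,
      hIcomap]
    change Q₀.under Ah ≤ P
    rw [hP'N]
    exact nilradical_le_prime P
  obtain ⟨𝔔, h𝔔ge, h𝔔prime, h𝔔comap⟩ :=
    Ideal.exists_ideal_over_prime_of_isIntegral_of_isPrime P
      (Q₀.map (algebraMap (Ah ⊗[R] S) (Localization.AtPrime Q))) hIP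
  refine ⟨(𝔔.comap (algebraMap (Ah ⊗[R] S) (Localization.AtPrime Q))).under S,
    Ideal.comap_isPrime _ _, ?_, ?_⟩
  · have h1 : 𝔔 ≤ maximalIdeal (Localization.AtPrime Q) := le_maximalIdeal h𝔔prime.ne_top
    have h2 : (maximalIdeal (Localization.AtPrime Q)).comap
        (algebraMap (Ah ⊗[R] S) (Localization.AtPrime Q)) = Q :=
      IsLocalization.AtPrime.comap_maximalIdeal _ Q
    have h3 : 𝔔.comap (algebraMap (Ah ⊗[R] S) (Localization.AtPrime Q)) ≤ Q :=
      (Ideal.comap_mono h1).trans h2.le
    calc (𝔔.comap (algebraMap (Ah ⊗[R] S) (Localization.AtPrime Q))).under S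
        ≤ Q.under S := Ideal.comap_mono h3
      _ = q := hQq.symm
  · rw [hunderR]
    have h4 : (𝔔.comap (algebraMap (Ah ⊗[R] S) (Localization.AtPrime Q))).under Ah = P := by
      rw [Ideal.under_def, Ideal.comap_comap,
        ← IsScalarTower.algebraMap_eq Ah (Ah ⊗[R] S) (Localization.AtPrime Q)]
      exact h𝔔comap
    rw [h4, ← hPover.over, Ideal.under_def, h𝔭'comap]

include p A in
/-- **Going down at a quasi-finite point over a unibranch local ring.** -/
theorem going_down (hA : CAlg2.IsUnibranch A)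
    (q₀ : Ideal S) [q₀.IsPrime] (hq₀ : q₀ ≤ q)
    (hgen : ∀ p' : Ideal R, p'.IsPrime → p' ≤ p → q₀.under R ≤ p')
    (p' : Ideal R) [p'.IsPrime] (hp' : p' ≤ p) :
    ∃ q' : Ideal S, q'.IsPrime ∧ q' ≤ q ∧ q'.under R = p' := by
  have hP := Groth.Agent.H3.HensLocal.isPairHenselization_Lim A
  haveI : IsLocalRing (HensTower.Lim A (maximalIdeal A)) := HensLocal.isLocalRing hP
  haveI : IsLocalHom (algebraMap A (HensTower.Lim A (maximalIdeal A))) := HensLocal.isLocalHom hP
  have hH : Hensel.IsHenselization A (HensTower.Lim A (maximalIdeal A)) :=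
    HensLocal.isHenselization hP
  letI : Algebra R (HensTower.Lim A (maximalIdeal A)) :=
    ((algebraMap A (HensTower.Lim A (maximalIdeal A))).comp (algebraMap R A)).toAlgebra
  haveI : IsScalarTower R A (HensTower.Lim A (maximalIdeal A)) :=
    IsScalarTower.of_algebraMap_eq (fun _ => rfl)
  exact going_down_aux R S p q A (HensTower.Lim A (maximalIdeal A)) hH hA q₀ hq₀ hgen p' hp'

end Main

end Groth.Agent.H66.UnibranchGD
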