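import Mathlib

/-!
# Artin–Schreier generators

A Galois extension `L/K` of degree `p` in characteristic `p` is generated by a root of
`X ^ p - X - a`.
-/

set_option autoImplicit false
universe u

open IntermediateField

namespace Groth.Agent.H66.ArtinSchreier

variable {K L : Type u} [Field K] [Field L] [Algebra K L] (p : ℕ)
  [Fact p.Prime] [CharP K p] [FiniteDimensional K L] [IsGalois K L]

/-- Additive Hilbert 90 in degree `p`: there is `z` with `σ z = z + 1`. -/
theorem exists_add_one (hdeg : Module.finrank K L = p) (σ : L ≃ₐ[K] L) (hσ : σ ≠ 1) :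
    ∃ z : L, σ z = z + 1 := by
  classical
  have hp : p.Prime := Fact.out
  have hcard : Nat.card (L ≃ₐ[K] L) = p := by rw [IsGalois.card_aut_eq_finrank, hdeg]
  have htop : Subgroup.zpowers σ = ⊤ := zpowers_eq_top_of_prime_card hcard hσ
  -- the operator `D = σ - 1`
  let D : L →ₗ[K] L := σ.toLinearMap - LinearMap.id
  have hD : ∀ x, D x = σ x - x := fun x => rfl
  -- kernel of `D` is `K`
  have hker : LinearMap.ker D = LinearMap.range (Algebra.linearMap K L) := by
    ext x
    rw [LinearMap.mem_ker, hD, sub_eq_zero, LinearMap.mem_range]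
    constructor
    · intro hx
      have hfix : ∀ τ : L ≃ₐ[K] L, τ x = x := by
        intro τ
        have hτ : τ ∈ Subgroup.zpowers σ := by rw [htop]; trivial
        obtain ⟨i, rfl⟩ := Subgroup.mem_zpowers_iff.mp hτ
        have hstab : σ ∈ MulAction.stabilizer (L ≃ₐ[K] L) x := hx
        have := Subgroup.zpow_mem _ hstab i
        exact this
      obtain ⟨c, hc⟩ := (IsGalois.mem_range_algebraMap_iff_fixed x).mpr hfix
      exact ⟨c, hc⟩
    · rintro ⟨c, rfl⟩
      exact σ.commutes c
  have hkerrank : Module.finrank K (LinearMap.ker D) = 1 := by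
    rw [hker, LinearMap.finrank_range_of_inj (algebraMap K L).injective, Module.finrank_self]
  have hrangerank : Module.finrank K (LinearMap.range D) = p - 1 := by
    have := LinearMap.finrank_range_add_finrank_ker D
    rw [hkerrank, hdeg] at this
    omega
  -- kernel of the trace
  let Tr : L →ₗ[K] K := Algebra.trace K L
  have hTrsurj : Function.Surjective Tr := Algebra.trace_surjective K L
  have hTrker : Module.finrank K (LinearMap.ker Tr) = p - 1 := by
    have := LinearMap.finrank_range_add_finrank_ker Tr
    rw [LinearMap.range_eq_top.mpr hTrsurj, finrank_top, Module.finrank_self, hdeg] at this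
    omega
  have hle : LinearMap.range D ≤ LinearMap.ker Tr := by
    rintro _ ⟨x, rfl⟩
    rw [LinearMap.mem_ker, hD, map_sub, sub_eq_zero]
    exact Algebra.trace_eq_of_algEquiv σ x
  have heq : LinearMap.range D = LinearMap.ker Tr :=
    Submodule.eq_of_le_of_finrank_eq hle (by rw [hrangerank, hTrker])
  have h1 : (1 : L) ∈ LinearMap.ker Tr := by
    rw [LinearMap.mem_ker]
    have := Algebra.trace_algebraMap (R := K) (S := L) (1 : K)
    rw [map_one] at this
    show Algebra.trace K L 1 = 0
    rw [this, hdeg, nsmul_eq_mul, mul_one]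
    exact CharP.cast_eq_zero K p
  rw [← heq] at h1
  obtain ⟨z, hz⟩ := h1
  refine ⟨z, ?_⟩
  rw [hD] at hz
  rw [← hz]; ring

theorem exists_generator (hdeg : Module.finrank K L = p) :
    ∃ z : L, z ^ p - z ∈ Set.range (algebraMap K L) ∧ K⟮z⟯ = ⊤ := by
  classical
  have hp : p.Prime := Fact.out
  have hcard : Nat.card (L ≃ₐ[K] L) = p := by rw [IsGalois.card_aut_eq_finrank, hdeg]
  have : CharP L p := charP_of_injective_algebraMap (algebraMap K L).injective p
  -- a nontrivial automorphism
  obtain ⟨σ, hσ⟩ : ∃ σ : L ≃ₐ[K] L, σ ≠ 1 := by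
    have : Nontrivial (L ≃ₐ[K] L) := by
      rw [← Finite.one_lt_card_iff_nontrivial, hcard]
      exact hp.one_lt
    exact exists_ne 1
  have htop : Subgroup.zpowers σ = ⊤ := zpowers_eq_top_of_prime_card hcard hσ
  obtain ⟨z, hz⟩ := exists_add_one p hdeg σ hσ
  refine ⟨z, ?_, ?_⟩
  · rw [IsGalois.mem_range_algebraMap_iff_fixed]
    have hσfix : σ (z ^ p - z) = z ^ p - z := by
      rw [map_sub, map_pow, hz, add_pow_char, one_pow]
      ring
    intro τ
    have hτ : τ ∈ Subgroup.zpowers σ := by rw [htop]; trivial
    obtain ⟨i, rfl⟩ := Subgroup.mem_zpowers_iff.mp hτ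
    have hstab : σ ∈ MulAction.stabilizer (L ≃ₐ[K] L) (z ^ p - z) := hσfix
    exact Subgroup.zpow_mem _ hstab i
  · have hsimple := IntermediateField.isSimpleOrder_of_finrank_prime K L (hdeg ▸ hp)
    rcases eq_bot_or_eq_top K⟮z⟯ with h | h
    · exfalso
      rw [IntermediateField.adjoin_simple_eq_bot_iff, IntermediateField.mem_bot] at h
      obtain ⟨c, rfl⟩ := h
      rw [σ.commutes] at hz
      have : (1 : L) = 0 := by
        have h2 := hz
        rw [left_eq_add] at h2
        exact h2
      exact one_ne_zero this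
    · exact h

end Groth.Agent.H66.ArtinSchreier
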