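import Groth.Agent.H18.ResProp.FamilyAdd
import Groth.Agent.H18.STL.TwistGG
import Groth.Agent.H18.TwistGenCover
import Groth.Agent.H18.TwistAmple2
import Groth.Agent.H45.KFlat.Symmetry
import Groth.Agent.H41.GrFTCover

/-!
# Coherent modules on `Proj` of a Noetherian graded ring are quotients of sums of twists
(helper66)
-/

set_option autoImplicit false
set_option linter.style.haveILetI false
universe u

open CategoryTheory CategoryTheory.Limits AlgebraicGeometry TopologicalSpace Opposite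
open scoped HomogeneousIdeal

namespace Groth.Agent.H66.ProjCohQuot

open Groth.Agent.H18 Groth.Agent.H18.STL Groth.Agent.H18.ResProp

section

variable {X : Scheme.{u}}

/-- the symmetry of `tensorMod` -/
noncomputable def braid (A B : X.Modules) : CohB1.tensorMod A B ≅ CohB1.tensorMod B A :=
  ((Groth.Agent.H45.tensorBiFlipIso (C := Opens X) (J := Opens.grothendieckTopology X)
    X.sheaf).app A).app B

/-- the left unit isomorphism of `tensorMod` -/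
noncomputable def unitorL (A : X.Modules) : CohB1.tensorMod (Coh.structureModule X) A ≅ A :=
  braid _ _ ≪≫ SecTwist.unitorR A

/-- twisting down along a given inverse pair -/
theorem exists_epi_twist_down {G M N N' : X.Modules}
    (e : CohB1.tensorMod N N' ≅ Coh.structureModule X) (p : G ⟶ CohB1.tensorMod M N) [Epi p] :
    ∃ π : CohB1.tensorMod G N' ⟶ M, Epi π := by
  have h1 : Epi (KoszTw.tensorMap p (𝟙 N')) := epi_tensorMap_left p N'
  have h2 : IsIso (KoszTw.tensorMap (𝟙 M) e.hom) := by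
    rw [← KoszTw.tensorBi_obj_map]
    exact (((DCoh.tensorBi (X := X)).obj M).mapIso e).isIso_hom
  exact ⟨KoszTw.tensorMap p (𝟙 N') ≫ (tensorModAssoc M N N').hom ≫
    KoszTw.tensorMap (𝟙 M) e.hom ≫ (SecTwist.unitorR M).hom, inferInstance⟩

end

section

variable {R A : Type u} [CommRing R] [CommRing A] [Algebra R A]
variable (𝒜 : ℕ → Submodule R A) [GradedAlgebra 𝒜]

/-- for a Noetherian graded ring the irrelevant ideal is generated by finitely many homogeneous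
elements of positive degree -/
theorem exists_finset_of_noetherian [IsNoetherianRing A] :
    ∃ T : Finset A, (∀ t ∈ T, ∃ d : ℕ, 0 < d ∧ t ∈ 𝒜 d) ∧
      (𝒜₊).toIdeal ≤ Ideal.span (T : Set A) := by
  classical
  obtain ⟨s, hs⟩ := (IsNoetherian.noetherian (𝒜₊).toIdeal : (𝒜₊).toIdeal.FG)
  let T : Finset A := s.biUnion fun x =>
    ((DirectSum.decompose 𝒜 x).support.filter (fun i => 0 < i)).image
      (fun i => (DirectSum.decompose 𝒜 x i : A))
  have hT : ∀ t ∈ T, ∃ d : ℕ, 0 < d ∧ t ∈ 𝒜 d := by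
    intro t ht
    obtain ⟨x, -, ht⟩ := Finset.mem_biUnion.1 ht
    obtain ⟨i, hi, rfl⟩ := Finset.mem_image.1 ht
    exact ⟨i, (Finset.mem_filter.1 hi).2, SetLike.coe_mem _⟩
  refine ⟨T, hT, ?_⟩
  rw [← hs, Ideal.span_le]
  intro x hx
  have hx' : x ∈ (𝒜₊).toIdeal := by rw [← hs]; exact Ideal.subset_span hx
  rw [SetLike.mem_coe, ← DirectSum.sum_support_decompose 𝒜 x]
  refine Ideal.sum_mem _ fun i hi => ?_
  rcases Nat.eq_zero_or_pos i with rfl | hi0
  · have h0 : (DirectSum.decompose 𝒜 x 0 : A) = 0 := by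
      have := (HomogeneousIdeal.mem_irrelevant_iff 𝒜 x).mp hx'
      rwa [GradedRing.proj_apply] at this
    rw [h0]
    exact zero_mem _
  · refine Ideal.subset_span ?_
    exact Finset.mem_biUnion.2 ⟨x, hx, Finset.mem_image.2 ⟨i, Finset.mem_filter.2 ⟨hi, hi0⟩, rfl⟩⟩

/-- `O(D)^{⊗ n} ≅ O(n D)` -/
theorem nonempty_tensorPow_twist_iso (D : ℤ) (hk : TwMul.LocTriv 𝒜 D) (n : ℕ) :
    Nonempty (CohB1.tensorPow (Twist.twist 𝒜 D) n ≅ Twist.twist 𝒜 ((n : ℤ) * D)) := by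
  induction n with
  | zero =>
    obtain ⟨e0⟩ := nonempty_twist_zero_iso 𝒜
    rw [Nat.cast_zero, zero_mul]
    exact ⟨e0.symm⟩
  | succ n ih =>
    obtain ⟨en⟩ := ih
    obtain ⟨e'⟩ := TwMul.nonempty_tensorMod_tilde_twist_iso' 𝒜 𝒜 ((n : ℤ) * D) D
      (((n + 1 : ℕ) : ℤ) * D) (by push_cast; ring) hk
    exact ⟨tensorModMapIsoLeft en (Twist.twist 𝒜 D) ≪≫
      (show CohB1.tensorMod (Twist.twist 𝒜 ((n : ℤ) * D)) (Twist.twist 𝒜 D) ≅
        Twist.twist 𝒜 (((n + 1 : ℕ) : ℤ) * D) from e')⟩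

/-- **S0846** -/
theorem exists_epi_coprod_twist [IsNoetherianRing A] (F : (Proj 𝒜).Modules) (hF : Coh.IsCoh F) :
    ∃ (r : ℕ) (d : Fin r → ℤ) (φ : (∐ fun j : Fin r => Twist.twist 𝒜 (d j)) ⟶ F), Epi φ := by
  classical
  obtain ⟨T, hT, hspan⟩ := exists_finset_of_noetherian 𝒜
  haveI : CompactSpace (Proj 𝒜) := Groth.Agent.H41.GrFTCover.compactSpace_proj 𝒜 T hT hspan
  obtain ⟨D, hD, hDcov⟩ := Groth.Agent.H41.GrFTCover.exists_degree_cover 𝒜 T hT hspan
  have hcovD : ∀ x : ProjectiveSpectrum 𝒜, ∃ b : A, b ∈ 𝒜 D ∧ b ∉ x.asHomogeneousIdeal :=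
    fun x => hDcov D hD dvd_rfl x
  have hL : CohB1.IsAmple (Twist.twist 𝒜 (D : ℤ)) := isAmple_twist 𝒜 D hD hcovD
  have hLT : TwMul.LocTriv 𝒜 (D : ℤ) := by
    intro x
    obtain ⟨b, hb, hbx⟩ := hcovD x
    exact ⟨D, 0, b, 1, hb, SetLike.GradedOne.one_mem, by simp, hbx, GrMod.one_nin x⟩
  haveI : F.IsQuasicoherent := hF.1
  haveI : SheafOfModules.IsFiniteType (R := (Proj 𝒜).ringCatSheaf) F := hF.2
  haveI : QuasiSeparatedSpace (Proj 𝒜) := inferInstance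
  obtain ⟨n₀, hn₀⟩ := exists_forall_epi_free_of_isAmple hL F
  obtain ⟨ι, p, hp⟩ := hn₀ n₀ le_rfl
  have hNinv : PicF.IsInvertible (CohB1.tensorPow (Twist.twist 𝒜 (D : ℤ)) n₀) :=
    isInvertible_tensorPow hL.1 n₀
  haveI : (CohB1.tensorPow (Twist.twist 𝒜 (D : ℤ)) n₀).IsQuasicoherent :=
    isQuasicoherent_of_isInvertible hNinv
  haveI : SheafOfModules.IsFiniteType (R := (Proj 𝒜).ringCatSheaf)
      (CohB1.tensorPow (Twist.twist 𝒜 (D : ℤ)) n₀) :=
    Groth.Agent.H71.QCoh.isFiniteType_of_isFinLocFree _ (isFinLocFree_of_isInvertible hNinv)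
  have hft : SheafOfModules.IsFiniteType (R := (Proj 𝒜).ringCatSheaf)
      (CohB1.tensorMod F (CohB1.tensorPow (Twist.twist 𝒜 (D : ℤ)) n₀)) :=
    Groth.Agent.H71.QCoh.isFiniteType_tensorMod F (CohB1.tensorPow (Twist.twist 𝒜 (D : ℤ)) n₀)
  obtain ⟨k, q, hq⟩ := exists_fin_epi_of_epi_free _ hft p
  -- the inverse
  have hLTneg : TwMul.LocTriv 𝒜 (-((n₀ : ℤ) * D)) := by
    intro x
    obtain ⟨b, hb, hbx⟩ := hcovD x
    refine ⟨0, n₀ * D, 1, b ^ n₀, SetLike.GradedOne.one_mem, ?_, by push_cast; ring,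
      GrMod.one_nin x, fun h => hbx (x.isPrime.mem_of_pow_mem n₀ h)⟩
    have := SetLike.pow_mem_graded n₀ hb
    rwa [smul_eq_mul] at this
  obtain ⟨e1⟩ := nonempty_tensorPow_twist_iso 𝒜 (D : ℤ) hLT n₀
  obtain ⟨e2⟩ := TwMul.nonempty_tensorMod_tilde_twist_iso' 𝒜 𝒜 ((n₀ : ℤ) * D) (-((n₀ : ℤ) * D))
    0 (by ring) hLTneg
  obtain ⟨e0⟩ := nonempty_twist_zero_iso 𝒜
  let N' := Twist.twist 𝒜 (-((n₀ : ℤ) * D))
  let e : CohB1.tensorMod (CohB1.tensorPow (Twist.twist 𝒜 (D : ℤ)) n₀) N' ≅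
      Coh.structureModule (Proj 𝒜) :=
    tensorModMapIsoLeft e1 N' ≪≫
      (show CohB1.tensorMod (Twist.twist 𝒜 ((n₀ : ℤ) * D)) N' ≅ Twist.twist 𝒜 0 from e2) ≪≫ e0
  obtain ⟨π, hπ⟩ := exists_epi_twist_down e q
  let cmp : (∐ fun _ : Fin k => CohB1.tensorMod (Coh.structureModule (Proj 𝒜)) N') ⟶
      CohB1.tensorMod (FlatMod.freeMod (Proj 𝒜) k) N' :=
    Sigma.desc (fun j : Fin k =>
      KoszTw.tensorMap (Sigma.ι (fun _ : Fin k => Coh.structureModule (Proj 𝒜)) j) (𝟙 N'))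
  haveI : IsIso cmp := isIso_sigmaDesc_tensorMap N' k
  let u : (∐ fun _ : Fin k => N') ≅
      (∐ fun _ : Fin k => CohB1.tensorMod (Coh.structureModule (Proj 𝒜)) N') :=
    Sigma.mapIso (fun _ => (unitorL N').symm)
  exact ⟨k, fun _ => -((n₀ : ℤ) * D), u.hom ≫ cmp ≫ π, inferInstance⟩

end

end Groth.Agent.H66.ProjCohQuot
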