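import Mathlib
import Groth.Agent.H74.ExtPowBC
import Groth.Agent.H26.InvLocal

/-!
# Exterior powers of finite projective modules: projectivity, rank, invertibility of the top one
-/

set_option autoImplicit false
universe u v

open scoped TensorProduct

namespace Groth.Agent.H66.ExtPowRank

variable {R : Type u} [CommRing R] {M : Type v} [AddCommGroup M] [Module R M]

/-- exterior powers of a finite projective module are projective -/
theorem projective_extPow [Module.Finite R M] [Module.Projective R M] (n : ℕ) :
    Module.Projective R (⋀[R]^n M) := by
  obtain ⟨m, π, hπ⟩ := Module.Finite.exists_fin' R M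
  obtain ⟨i, hi⟩ := Module.projective_lifting_property π LinearMap.id hπ
  exact Module.Projective.of_split (exteriorPower.map n i) (exteriorPower.map n π)
    (by rw [← exteriorPower.map_comp, hi, exteriorPower.map_id])

/-- base change of exterior powers as a linear equivalence -/
noncomputable def powBCEquiv (S : Type*) [CommRing S] [Algebra R S] (n : ℕ) :
    (S ⊗[R] ⋀[R]^n M) ≃ₗ[S] ⋀[S]^n (S ⊗[R] M) :=
  LinearEquiv.ofBijective (Groth.Agent.H74.ExtPowBC.powBC R S M n)
    (Groth.Agent.H74.ExtPowBC.powBC_bijective R S M n)

/-- the rank of an exterior power of a finite projective module -/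
theorem rankAtStalk_extPow [Module.Finite R M] [Module.Projective R M] (n : ℕ)
    (p : PrimeSpectrum R) :
    Module.rankAtStalk (⋀[R]^n M) p = (Module.rankAtStalk M p).choose n := by
  haveI : Module.Free (Localization.AtPrime p.asIdeal) (Localization.AtPrime p.asIdeal ⊗[R] M) :=
    Module.free_of_flat_of_isLocalRing
  rw [Module.rankAtStalk_eq_finrank_tensorProduct, Module.rankAtStalk_eq_finrank_tensorProduct,
    (powBCEquiv (Localization.AtPrime p.asIdeal) n).finrank_eq, exteriorPower.finrank_eq]

end Groth.Agent.H66.ExtPowRank

namespace Groth.Agent.H66.ExtPowRank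

/-- a finitely presented module which is free of rank one at every maximal ideal is invertible -/
theorem invertible_of_rankAtStalk_eq_one {R : Type u} [CommRing R] {L : Type u} [AddCommGroup L]
    [Module R L] [Module.Finite R L] [Module.Projective R L]
    (h : ∀ p : PrimeSpectrum R, Module.rankAtStalk L p = 1) : Module.Invertible R L := by
  haveI : Module.FinitePresentation R L := Module.finitePresentation_of_projective R L
  refine Groth.Agent.H26.InvLocal.invertible_of_localization_maximal fun q hq => ?_
  haveI : Module.Free (Localization.AtPrime q) (Localization.AtPrime q ⊗[R] L) :=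
    Module.free_of_flat_of_isLocalRing
  have hr : Module.finrank (Localization.AtPrime q) (Localization.AtPrime q ⊗[R] L) = 1 := by
    rw [← h ⟨q, hq.isPrime⟩, Module.rankAtStalk_eq_finrank_tensorProduct]
  let b := Module.finBasisOfFinrankEq (Localization.AtPrime q) (Localization.AtPrime q ⊗[R] L) hr
  let e : (Localization.AtPrime q ⊗[R] L) ≃ₗ[Localization.AtPrime q] Localization.AtPrime q :=
    b.equivFun ≪≫ₗ LinearEquiv.funUnique (Fin 1) (Localization.AtPrime q) (Localization.AtPrime q)
  exact Module.Invertible.congr e.symm

/-- the top exterior power of a finite projective module of constant rank is invertible -/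
theorem invertible_extPow {R : Type u} [CommRing R] {M : Type u} [AddCommGroup M] [Module R M]
    [Module.Finite R M] [Module.Projective R M] (n : ℕ)
    (h : ∀ p : PrimeSpectrum R, Module.rankAtStalk M p = n) :
    Module.Invertible R (⋀[R]^n M) := by
  haveI := projective_extPow (R := R) (M := M) n
  refine invertible_of_rankAtStalk_eq_one fun p => ?_
  rw [rankAtStalk_extPow, h p, Nat.choose_self]

end Groth.Agent.H66.ExtPowRank
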