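import Groth.Agent.H66.GrRegQuot2
import Groth.Agent.H98.GrStar.Hull2
import Mathlib.RingTheory.Regular.RegularSequence

set_option autoImplicit false
set_option linter.unusedSectionVars false
universe u

/-!
# Strong regularity along a weakly regular sequence of linear forms on a module
-/

namespace Groth.Agent.H66.GrRegSeqMod

open DirectSum Groth.Agent.H98.GrStar Groth.Agent.H66.GrVanish Groth.Agent.H66.GrRegFree
  Groth.Agent.H66.GrRegQuot Groth.Agent.H66.GrRegQuot2
open scoped Pointwise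

variable {R : Type u} [CommRing R] [IsNoetherianRing R]
  {σ : Type u} [SetLike σ R] [AddSubgroupClass σ R]
  {𝒜 : ℤ → σ} [GradedRing 𝒜]

variable (a : HomogeneousIdeal 𝒜)

/-- transfer of vanishing along a bijective graded map -/
theorem vanishAt_of_bijective (X Y : GrLC.GMod.{u} 𝒜) (π : X.carrier →ₗ[R] Y.carrier)
    (hπ : Function.Bijective π) (hπg : GrLC.IsGrHom X.gr Y.gr π) (i : ℕ) (g : ℤ) :
    VanishAt a X i g ↔ VanishAt a Y i g := by
  let e : X.carrier ≃ₗ[R] Y.carrier := LinearEquiv.ofBijective π hπ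
  have he : ∀ x, e x = π x := fun _ => rfl
  have hinv : GrLC.IsGrHom Y.gr X.gr (e.symm : Y.carrier →ₗ[R] X.carrier) := by
    intro k y hy
    obtain ⟨m, hm, hmy⟩ := exists_homog_preimage X.gr Y.gr
      (DirectSum.Decomposition.isInternal X.gr) (DirectSum.Decomposition.isInternal Y.gr)
      π hπg hy (e.symm y) (by rw [← he, LinearEquiv.apply_symm_apply])
    have : (e.symm : Y.carrier →ₗ[R] X.carrier) y = m := by
      rw [← hmy, ← he]
      exact e.symm_apply_apply m
    rw [this]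
    exact hm
  constructor
  · intro h
    refine vanishAt_of_retracts a Y (J := Unit) (fun _ => X)
      (fun _ => (e.symm : Y.carrier →ₗ[R] X.carrier)) (fun _ => (e : X.carrier →ₗ[R] Y.carrier))
      (fun _ => hinv) (fun y => ?_) i g (fun _ => h)
    simp
  · intro h
    refine vanishAt_of_retracts a X (J := Unit) (fun _ => Y)
      (fun _ => (e : X.carrier →ₗ[R] Y.carrier)) (fun _ => (e.symm : Y.carrier →ₗ[R] X.carrier))
      (fun _ => hπg) (fun y => ?_) i g (fun _ => h)
    simp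

theorem strongReg_of_bijective (X Y : GrLC.GMod.{u} 𝒜) (π : X.carrier →ₗ[R] Y.carrier)
    (hπ : Function.Bijective π) (hπg : GrLC.IsGrHom X.gr Y.gr π) (d : ℤ) :
    StrongReg a X d ↔ StrongReg a Y d := by
  constructor
  · intro h j e he
    exact (vanishAt_of_bijective a X Y π hπ hπg j e).1 (h j e he)
  · intro h j e he
    exact (vanishAt_of_bijective a X Y π hπ hπg j e).2 (h j e he)

theorem smul_top_eq_range {M : Type u} [AddCommGroup M] [Module R M] (y : R) :
    (y • (⊤ : Submodule R M)) = LinearMap.range (y • (LinearMap.id : M →ₗ[R] M)) := by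
  ext m
  rw [Submodule.mem_smul_pointwise_iff_exists]
  constructor
  · rintro ⟨n, _, rfl⟩
    exact ⟨n, rfl⟩
  · rintro ⟨n, rfl⟩
    exact ⟨n, Submodule.mem_top, rfl⟩

theorem smul_top_isHomogeneous (X : GrLC.GMod.{u} 𝒜) {y : R} (hy : y ∈ 𝒜 1) :
    (y • (⊤ : Submodule R X.carrier)).IsHomogeneous X.gr := by
  rw [smul_top_eq_range]
  exact range_smul_isHomogeneous 𝒜 X.gr hy

theorem ker_mkQ_isHomogeneous (X : GrLC.GMod.{u} 𝒜) {y : R} (hy : y ∈ 𝒜 1) :
    (LinearMap.ker (y • (⊤ : Submodule R X.carrier)).mkQ).IsHomogeneous X.gr := by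
  rw [Submodule.ker_mkQ]; exact smul_top_isHomogeneous X hy

/-- the graded module `X / yX` for a linear form `y` -/
noncomputable def quotY (X : GrLC.GMod.{u} 𝒜) {y : R} (hy : y ∈ 𝒜 1) : GrLC.GMod.{u} 𝒜 :=
  quotGMod 𝒜 X.gr (y • (⊤ : Submodule R X.carrier)).mkQ
    (Submodule.mkQ_surjective _) (ker_mkQ_isHomogeneous X hy)

/-- the projection `X → X / yX` -/
noncomputable def projY (X : GrLC.GMod.{u} 𝒜) {y : R} (hy : y ∈ 𝒜 1) :
    X.carrier →ₗ[R] (quotY X hy).carrier :=
  (y • (⊤ : Submodule R X.carrier)).mkQ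

theorem projY_surjective (X : GrLC.GMod.{u} 𝒜) {y : R} (hy : y ∈ 𝒜 1) :
    Function.Surjective (projY X hy) := Submodule.mkQ_surjective _

theorem projY_isGrHom (X : GrLC.GMod.{u} 𝒜) {y : R} (hy : y ∈ 𝒜 1) :
    GrLC.IsGrHom X.gr (quotY X hy).gr (projY X hy) :=
  quotGMod_isGrHom 𝒜 X.gr _ (Submodule.mkQ_surjective _) (ker_mkQ_isHomogeneous X hy)

theorem projY_ker (X : GrLC.GMod.{u} 𝒜) {y : R} (hy : y ∈ 𝒜 1) :
    LinearMap.ker (projY X hy) =
      LinearMap.range (y • (LinearMap.id : X.carrier →ₗ[R] X.carrier)) := by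
  rw [← smul_top_eq_range]
  exact Submodule.ker_mkQ _

instance quotY_finite (X : GrLC.GMod.{u} 𝒜) [Module.Finite R X.carrier] {y : R} (hy : y ∈ 𝒜 1) :
    Module.Finite R (quotY X hy).carrier :=
  (inferInstance : Module.Finite R (X.carrier ⧸ (y • (⊤ : Submodule R X.carrier))))

theorem mem_quotY_gr (X : GrLC.GMod.{u} 𝒜) {y : R} (hy : y ∈ 𝒜 1) (k : ℤ)
    (z : (quotY X hy).carrier) (hz : z ∈ (quotY X hy).gr k) :
    ∃ m ∈ X.gr k, projY X hy m = z := hz

variable (hpos : ∀ n : ℤ, n < 0 → ∀ r ∈ 𝒜 n, r = 0)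
  (ha : a.toIdeal = Ideal.span (⋃ n ∈ Set.Ioi (0 : ℤ), (𝒜 n : Set R)))
  (hhom : a.toIdeal = Ideal.span ((𝒜 1 : σ) : Set R))

include hpos ha hhom in
/-- one step: a regular linear form -/
theorem strongReg_quotY_iff (X : GrLC.GMod.{u} 𝒜) [Module.Finite R X.carrier] {y : R}
    (hy : y ∈ 𝒜 1) (hregy : IsSMulRegular X.carrier y) (d : ℤ) :
    StrongReg a X d ↔ StrongReg a (quotY X hy) d := by
  have hya : y ∈ a.toIdeal := by
    rw [hhom]
    exact Ideal.subset_span hy
  have hK : ∀ m ∈ Submodule.torsionBy R X.carrier y, m ∈ GrLC.gam a.toIdeal X.carrier := by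
    intro m hm
    rw [Submodule.mem_torsionBy_iff] at hm
    have : m = 0 := hregy (hm.trans (smul_zero y).symm)
    rw [this]
    exact Submodule.zero_mem _
  have hH0 : ∀ e : ℤ, VanishAt a X 0 e := by
    intro e E z hz
    refine Hgr_zero_eq_zero E a e (fun m _ hgam => ?_) z hz
    obtain ⟨n, hn⟩ := hgam
    have h1 : y ^ n • m = 0 := hn _ (Ideal.pow_mem_pow hya n)
    exact (hregy.pow n) (h1.trans (smul_zero _).symm)
  have key := strongReg_quot_iff (ℳ := X.gr) (𝒩 := (quotY X hy).gr) a y hy hK (projY X hy)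
    (projY_surjective X hy) (projY_isGrHom X hy) (projY_ker X hy) hpos ha hhom d
  constructor
  · intro h
    exact (key.1 h).1
  · intro h
    exact key.2 ⟨h, fun e _ => hH0 e⟩

include hpos ha hhom in
/-- **strong regularity is invariant under quotients by weakly regular sequences of linear forms** -/
theorem strongReg_iff_of_isWeaklyRegular (ys : List R) :
    ∀ (X : GrLC.GMod.{u} 𝒜) [Module.Finite R X.carrier] (_ : ∀ y ∈ ys, y ∈ 𝒜 1)
      (_ : RingTheory.Sequence.IsWeaklyRegular X.carrier ys)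
      (Y : GrLC.GMod.{u} 𝒜) (π : X.carrier →ₗ[R] Y.carrier) (_ : Function.Surjective π)
      (_ : GrLC.IsGrHom X.gr Y.gr π)
      (_ : LinearMap.ker π = Ideal.ofList ys • (⊤ : Submodule R X.carrier)) (d : ℤ),
      StrongReg a X d ↔ StrongReg a Y d := by
  induction ys with
  | nil =>
    intro X _ _ _ Y π hπ hπg hker d
    rw [Ideal.ofList_nil, Submodule.bot_smul] at hker
    exact strongReg_of_bijective a X Y π ⟨LinearMap.ker_eq_bot.1 hker, hπ⟩ hπg d
  | cons y ys ih =>
    intro X _ hys hreg Y π hπ hπg hker d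
    rw [RingTheory.Sequence.isWeaklyRegular_cons_iff] at hreg
    obtain ⟨hregy, hreg'⟩ := hreg
    have hy : y ∈ 𝒜 1 := hys y (List.mem_cons_self)
    have hys' : ∀ z ∈ ys, z ∈ 𝒜 1 := fun z hz => hys z (List.mem_cons_of_mem _ hz)
    have step1 := strongReg_quotY_iff a hpos ha hhom X hy hregy d
    -- the induced map
    have hCle : (y • (⊤ : Submodule R X.carrier)) ≤ LinearMap.ker π := by
      rw [hker, Ideal.ofList_cons_smul]
      exact le_sup_left
    let π₁ : (quotY X hy).carrier →ₗ[R] Y.carrier :=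
      (y • (⊤ : Submodule R X.carrier)).liftQ π hCle
    have hπ₁ : Function.Surjective π₁ := by
      intro z
      obtain ⟨m, rfl⟩ := hπ z
      exact ⟨projY X hy m, rfl⟩
    have hπ₁g : GrLC.IsGrHom (quotY X hy).gr Y.gr π₁ := by
      intro k z hz
      obtain ⟨m, hm, rfl⟩ := mem_quotY_gr X hy k z hz
      exact hπg k m hm
    have hker₁ : LinearMap.ker π₁ =
        Ideal.ofList ys • (⊤ : Submodule R (quotY X hy).carrier) := by
      change LinearMap.ker ((y • (⊤ : Submodule R X.carrier)).liftQ π hCle) =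
        Ideal.ofList ys • (⊤ : Submodule R (X.carrier ⧸ (y • (⊤ : Submodule R X.carrier))))
      rw [Submodule.ker_liftQ, hker, Ideal.ofList_cons_smul, Submodule.map_sup,
        Submodule.map_smul'', Submodule.map_top, Submodule.range_mkQ,
        Submodule.mkQ_map_self, bot_sup_eq]
    rw [step1]
    exact ih (quotY X hy) hys' hreg' Y π₁ hπ₁ hπ₁g hker₁ d

end Groth.Agent.H66.GrRegSeqMod
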