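import Groth.Agent.H66.PolyRegLE
import Groth.Agent.H66.GrRegSeqMod
import Groth.Agent.H58.LCGV
import Groth.Agent.H58.LCDepthExt
import Groth.Agent.H81.GrAB

set_option autoImplicit false
set_option linter.unusedSectionVars false
universe u

/-!
# Cohen–Macaulay graded modules: the regularity is attained at the end of the resolution
-/

namespace Groth.Agent.H66.CMTopShift

open DirectSum Groth.Agent.H98.GrStar Groth.Agent.H66.GrVanish Groth.Agent.H66.GrRegFree
  Groth.Agent.H66.GrSyzReg Groth.Agent.H66.PolyReg Groth.Agent.H66.StdGrIrrel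
  Groth.Agent.H66.GrSubSES

section General

variable {R : Type u} [CommRing R] [IsNoetherianRing R]
  {σ : Type u} [SetLike σ R] [AddSubgroupClass σ R]
  {𝒜 : ℤ → σ} [GradedRing 𝒜]
variable (a : HomogeneousIdeal 𝒜)

/-- vanishing of the ungraded local cohomology forces vanishing of the graded one -/
theorem vanishAt_of_subsingleton_H (X : GrLC.GMod.{u} 𝒜) (i : ℕ)
    (h : Subsingleton (LocCoh.H a.toIdeal i X.carrier)) (g : ℤ) : VanishAt a X i g := by
  intro E x _
  exact (θ E a i).injective (Subsingleton.elim _ _)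

/-- vanishing for a graded free module from vanishing for the ring in all degrees -/
theorem vanishAt_free {n : ℕ} (deg : Fin n → ℤ) (j : ℕ)
    (hS : ∀ e : ℤ, VanishAt a (selfG 𝒜) j e) (e : ℤ) : VanishAt a (freeGMod 𝒜 deg) j e := by
  classical
  refine vanishAt_of_retracts a (freeGMod 𝒜 deg) (J := Fin n)
    (fun b => shM 𝒜 (selfGr 𝒜) (deg b))
    (fun b => show (Fin n → R) →ₗ[R] R from LinearMap.proj b)
    (fun b => show R →ₗ[R] (Fin n → R) from LinearMap.single R (fun _ => R) b)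
    ?_ ?_ j e (fun b => ?_)
  · intro b e' v hv
    exact hv b
  · intro v
    funext c
    change (∑ b, (Pi.single b (v b) : Fin n → R)) c = v c
    rw [Finset.sum_apply, Finset.sum_eq_single c]
    · rw [Pi.single_eq_same]
    · intro b _ hbc
      rw [Pi.single_eq_of_ne hbc.symm]
    · intro h
      exact absurd (Finset.mem_univ c) h
  · exact vanishAt_shift a (selfG 𝒜) (deg b) j e (hS _)

end General

section Poly

variable (k : Type u) [Field k] (n : ℕ)

/-- the polynomial ring has no local cohomology below degree `n + 1` -/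
theorem vanishAt_self (j : ℕ) (hj : j ≤ n) (e : ℤ) :
    VanishAt (GrSyz.irrel (GrSyz.stdGr k (Fin (n + 1)))) (selfG (GrSyz.stdGr k (Fin (n + 1)))) j e := by
  have hne : (GrSyz.irrel (GrSyz.stdGr k (Fin (n + 1)))).toIdeal •
      (⊤ : Submodule (MvPolynomial (Fin (n + 1)) k) (MvPolynomial (Fin (n + 1)) k)) ≠ ⊤ := by
    rw [smul_eq_mul, Ideal.mul_top]
    exact irrel_ne_top k (n + 1)
  have hdepth : ((n + 1 : ℕ) : ℕ∞) ≤
      LocCoh.idealDepth (GrSyz.irrel (GrSyz.stdGr k (Fin (n + 1)))).toIdeal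
        (MvPolynomial (Fin (n + 1)) k) := by
    unfold LocCoh.idealDepth
    rw [if_neg hne]
    have hreg := Groth.Agent.H81.GrAB.isWeaklyRegular_map_X (R := k) (List.finRange (n + 1))
      (List.nodup_finRange _)
    have hmem : ∀ r ∈ (List.finRange (n + 1)).map
        (MvPolynomial.X : Fin (n + 1) → MvPolynomial (Fin (n + 1)) k),
        r ∈ (GrSyz.irrel (GrSyz.stdGr k (Fin (n + 1)))).toIdeal := by
      intro r hr
      obtain ⟨i, _, rfl⟩ := List.mem_map.1 hr
      exact Groth.Agent.H77.mem_irrel_of_mem_stdGr_of_pos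
        (X_mem_stdGr_one k (Fin (n + 1)) i) zero_lt_one
    have := le_iSup₂ (f := fun (rs : List (MvPolynomial (Fin (n + 1)) k))
      (_ : RingTheory.Sequence.IsWeaklyRegular (MvPolynomial (Fin (n + 1)) k) rs ∧
        ∀ r ∈ rs, r ∈ (GrSyz.irrel (GrSyz.stdGr k (Fin (n + 1)))).toIdeal) =>
      (rs.length : ℕ∞)) _ ⟨hreg, hmem⟩
    rw [List.length_map, List.length_finRange] at this
    exact this
  apply vanishAt_of_subsingleton_H
  apply Groth.Agent.H58.LC.subsingleton_H_of_lt_idealDepth _ _ hne j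
  refine lt_of_lt_of_le ?_ hdepth
  exact_mod_cast Nat.lt_succ_of_le hj

variable {M : Type u} [AddCommGroup M] [Module k M] [Module (MvPolynomial (Fin (n + 1)) k) M]
  [IsScalarTower k (MvPolynomial (Fin (n + 1)) k) M]
  [Module.Finite (MvPolynomial (Fin (n + 1)) k) M]
  (ℳ : ℤ → Submodule k M) [DirectSum.Decomposition ℳ]
  [SetLike.GradedSMul (GrSyz.stdGr k (Fin (n + 1))) ℳ]

/-- **for a Cohen–Macaulay graded module the regularity is attained at the last step of the
minimal resolution** -/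
theorem exists_deg_eq
    (hCM : Module.supportDim (MvPolynomial (Fin (n + 1)) k) M =
      ((LocCoh.idealDepth (GrSyz.irrel (GrSyz.stdGr k (Fin (n + 1)))).toIdeal M : ℕ∞) : WithBot ℕ∞))
    (F : GrSyz.FreeRes (GrSyz.stdGr k (Fin (n + 1))) ℳ)
    (hF : F.IsMinimal (GrSyz.irrel (GrSyz.stdGr k (Fin (n + 1)))).toIdeal)
    (ℓ : ℕ) (hℓ : F.HasLengthLE ℓ) (hℓ' : F.rk ℓ ≠ 0)
    (ρ : ℤ) (hρ : F.IsGenLE ρ) (hρ' : ∃ (i : ℕ) (b : Fin (F.rk i)), F.deg i b = ρ + i) :
    ∃ b : Fin (F.rk ℓ), F.deg ℓ b = ρ + ℓ := by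
  classical
  have hS := strongReg_poly k (n + 1)
  have hhom := irrel_stdGr_toIdeal k (Fin (n + 1))
  have hne' := irrel_ne_top k (n + 1)
  have hAB := Groth.Agent.H81.GrAB.graded_auslander_buchsbaum k n M ℳ F hF ℓ hℓ hℓ'
  -- the depth is finite
  obtain ⟨δ, hδ⟩ : ∃ δ : ℕ, LocCoh.idealDepth
      (GrSyz.irrel (GrSyz.stdGr k (Fin (n + 1)))).toIdeal M = (δ : ℕ∞) := by
    have : LocCoh.idealDepth (GrSyz.irrel (GrSyz.stdGr k (Fin (n + 1)))).toIdeal M ≠ ⊤ := by
      intro h
      rw [h, add_top] at hAB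
      exact ENat.top_ne_coe _ hAB
    exact ⟨_, (ENat.coe_toNat this).symm⟩
  have hsum : ℓ + δ = n + 1 := by
    rw [hδ] at hAB
    exact_mod_cast hAB
  have hne : (GrSyz.irrel (GrSyz.stdGr k (Fin (n + 1)))).toIdeal •
      (⊤ : Submodule (MvPolynomial (Fin (n + 1)) k) M) ≠ ⊤ := by
    intro h
    unfold LocCoh.idealDepth at hδ
    rw [if_pos h] at hδ
    exact ENat.top_ne_coe _ hδ
  -- the largest degree in the last step
  haveI : Nonempty (Fin (F.rk ℓ)) := ⟨⟨0, Nat.pos_of_ne_zero hℓ'⟩⟩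
  obtain ⟨b₀, hb₀⟩ := Finite.exists_max (F.deg ℓ)
  -- the chain along the resolution
  have chain : ∀ e : ℤ, F.deg ℓ b₀ - (n + 1 : ℕ) < e → ∀ s i : ℕ, i + s = ℓ →
      VanishAt (GrSyz.irrel (GrSyz.stdGr k (Fin (n + 1)))) (Syz F i) (δ + i) e := by
    intro e he s
    induction s with
    | zero =>
      intro i hi
      have hiℓ : i = ℓ := by omega
      subst hiℓ
      haveI : IsEmpty (Fin (F.rk (i + 1))) := by
        rw [hℓ (i + 1) (by omega)]
        exact Fin.isEmpty'
      have hinj : Function.Injective (phi F i) := by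
        rw [← LinearMap.ker_eq_bot, phi_ker, eq_bot_iff]
        rintro _ ⟨w, rfl⟩
        rw [Subsingleton.elim w 0, map_zero]
        exact Submodule.zero_mem _
      refine (Groth.Agent.H66.GrRegSeqMod.vanishAt_of_bijective _
        (freeGMod (GrSyz.stdGr k (Fin (n + 1))) (F.deg i)) (Syz F i) (phi F i)
        ⟨hinj, phi_surjective F i⟩ (phi_isGrHom F i) (δ + i) e).1 ?_
      refine strongReg_free _ hS (F.deg i) (F.deg i b₀) hb₀ (δ + i) e ?_
      have : ((δ + i : ℕ) : ℤ) = ((n + 1 : ℕ) : ℤ) := by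
        have : δ + i = n + 1 := by omega
        rw [this]
      rw [this]
      exact he
    | succ s ih =>
      intro i hi
      have hK := ih (i + 1) (by omega)
      have hFi : VanishAt (GrSyz.irrel (GrSyz.stdGr k (Fin (n + 1))))
          (freeGMod (GrSyz.stdGr k (Fin (n + 1))) (F.deg i)) (δ + i) e :=
        vanishAt_free _ (F.deg i) (δ + i)
          (fun e' => vanishAt_self k n (δ + i) (by omega) e') e
      exact vanishAt_right _ (surjSES (freeGMod (GrSyz.stdGr k (Fin (n + 1))) (F.deg i))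
        (Syz F i) (phi F i) (phi_isGrHom F i) (phi_surjective F i) _
        (range_dLin_isHomogeneous F i) (phi_ker F i)) (δ + i) e hFi hK
  -- strong regularity
  have hstrong : StrongReg (GrSyz.irrel (GrSyz.stdGr k (Fin (n + 1))))
      (GrLC.GMod.of (GrSyz.stdGr k (Fin (n + 1))) M (asGr ℳ)) (F.deg ℓ b₀ - ℓ) := by
    intro j e he
    rcases lt_trichotomy j δ with hj | hj | hj
    · apply vanishAt_of_subsingleton_H
      apply Groth.Agent.H58.LC.subsingleton_H_of_lt_idealDepth _ _ hne j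
      rw [hδ]
      exact_mod_cast hj
    · subst hj
      have := chain e (by push_cast at he ⊢; omega) ℓ 0 (by omega)
      exact this
    · apply vanishAt_of_subsingleton_H
      apply Groth.Agent.H58.LC.gv
      change Module.supportDim (MvPolynomial (Fin (n + 1)) k) M < _
      rw [hCM, hδ]
      exact_mod_cast hj
  have hgen := (isGenLE_iff_strongReg (M := M) (ℳ := ℳ) F
    (GrSyz.irrel (GrSyz.stdGr k (Fin (n + 1)))) hhom hS hne' hF (F.deg ℓ b₀ - ℓ)).2 hstrong
  obtain ⟨i, b, hib⟩ := hρ'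
  have h1 := hgen i b
  have h2 := hρ ℓ b₀
  exact ⟨b₀, by omega⟩

end Poly

end Groth.Agent.H66.CMTopShift
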