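import Groth.Agent.H66.GrRegQuot
import Groth.Agent.H98.GrStar.Pi
import Groth.Agent.H58.LCArith

set_option autoImplicit false
set_option linter.unusedSectionVars false
universe u

/-!
# Strong regularity, graded free modules and syzygy steps
-/

namespace Groth.Agent.H66.GrRegFree

open DirectSum Groth.Agent.H98.GrStar Groth.Agent.H66.GrVanish Groth.Agent.H66.GrRegular
  Groth.Agent.H66.GrSubSES Groth.Agent.H66.GrKoszul Groth.Agent.H66.GrRegQuot

variable {R : Type u} [CommRing R] [IsNoetherianRing R]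
  {σ : Type u} [SetLike σ R] [AddSubgroupClass σ R]
  {𝒜 : ℤ → σ} [GradedRing 𝒜]

variable (a : HomogeneousIdeal 𝒜)

/-- `*H^j_a(X)_e = 0` whenever `e > ρ - j` -/
def StrongReg (X : GrLC.GMod.{u} 𝒜) (ρ : ℤ) : Prop :=
  ∀ (j : ℕ) (e : ℤ), ρ - j < e → VanishAt a X j e

theorem StrongReg.mono {X : GrLC.GMod.{u} 𝒜} {ρ ρ' : ℤ} (h : StrongReg a X ρ) (hρ : ρ ≤ ρ') :
    StrongReg a X ρ' := fun j e he => h j e (by omega)

section Weak

variable (hhom : a.toIdeal = Ideal.span ((𝒜 1 : σ) : Set R))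

include hhom in
theorem strongReg_of_weak (X : GrLC.GMod.{u} 𝒜) (ρ : ℤ)
    (h0 : ∀ e : ℤ, ρ < e → VanishAt a X 0 e)
    (h1 : ∀ i : ℕ, 0 < i → VanishAt a X i (ρ - i + 1)) : StrongReg a X ρ := by
  intro j e he
  rcases Nat.eq_zero_or_pos j with hj | hj
  · subst hj
    exact h0 e (by simpa using he)
  · have := vanishAt_of_diag' a hhom X ρ 1 le_rfl
      (fun i hi => by
        have := h1 i (by omega)
        have h2 : ρ + 1 - (i : ℤ) = ρ - i + 1 := by ring
        rwa [h2]) j hj (e + j) (by omega)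
    rwa [add_sub_cancel_right] at this

include hhom in
/-- elements of degree `> ρ` of a strongly `ρ`-regular module lie in `a X` -/
theorem mem_smul_top_of_strongReg (X : GrLC.GMod.{u} 𝒜) (ρ : ℤ) (h : StrongReg a X ρ)
    (e : ℤ) (he : ρ < e) (m : X.carrier) (hm : m ∈ X.gr e) :
    m ∈ a.toIdeal • (⊤ : Submodule R X.carrier) := by
  obtain ⟨k, x, hx, hspan⟩ := exists_gens 𝒜 a.toIdeal hhom
  refine mem_smul_top_of_vanish X x hx a hspan e (h 0 e (by simpa using he)) (fun p => ?_) m hm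
  exact h (1 + p) (e - p - 1) (by push_cast; omega)

end Weak

theorem strongReg_shift (X : GrLC.GMod.{u} 𝒜) (ρ p : ℤ) (h : StrongReg a X ρ) :
    StrongReg a (shM 𝒜 X.gr p) (ρ + p) := fun j e he =>
  vanishAt_shift a X p j e (h j (e - p) (by omega))

/-- the ring as a graded module over itself -/
noncomputable abbrev selfG (𝒜 : ℤ → σ) [GradedRing 𝒜] : GrLC.GMod.{u} 𝒜 :=
  GrLC.GMod.of 𝒜 R (selfGr 𝒜)

/-- a graded free module with generators in degrees `≤ ρ` is strongly `ρ`-regular if the ring is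
strongly `0`-regular -/
theorem strongReg_free (hS : StrongReg a (selfG 𝒜) 0) {n : ℕ} (deg : Fin n → ℤ) (ρ : ℤ)
    (hdeg : ∀ b, deg b ≤ ρ) : StrongReg a (freeGMod 𝒜 deg) ρ := by
  classical
  intro j e he
  refine vanishAt_of_retracts a (freeGMod 𝒜 deg) (J := Fin n)
    (fun b => shM 𝒜 (selfGr 𝒜) (deg b))
    (fun b => show (Fin n → R) →ₗ[R] R from LinearMap.proj b)
    (fun b => show R →ₗ[R] (Fin n → R) from LinearMap.single R (fun _ => R) b)
    ?_ ?_ j e (fun b => ?_)
  · intro b e' v hv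
    exact hv b
  · intro v
    funext c
    change (∑ b, (Pi.single b (v b) : Fin n → R)) c = v c
    rw [Finset.sum_apply, Finset.sum_eq_single c]
    · rw [Pi.single_eq_same]
    · intro b _ hbc
      rw [Pi.single_eq_of_ne hbc.symm]
    · intro h
      exact absurd (Finset.mem_univ c) h
  · have := strongReg_shift a (selfG 𝒜) 0 (deg b) hS j e (by have := hdeg b; omega)
    exact this

/-- `H^0` is left exact -/
theorem vanishAt_zero_of_injective {K F : GrLC.GMod.{u} 𝒜} (u : K.carrier →ₗ[R] F.carrier)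
    (hu : GrLC.IsGrHom K.gr F.gr u) (hinj : Function.Injective u) (e : ℤ)
    (h : VanishAt a F 0 e) : VanishAt a K 0 e := by
  intro E x hx
  refine Hgr_zero_eq_zero E a e (fun m hm hgam => ?_) x hx
  apply hinj
  rw [map_zero]
  refine eq_zero_of_vanishAt_zero a F e h (u m) (hu e m hm) ?_
  obtain ⟨n, hn⟩ := hgam
  exact ⟨n, fun r hr => by rw [← map_smul, hn r hr, map_zero]⟩

/-- the short exact sequence `0 → K → Y → X → 0` of a graded surjection with kernel `K` -/
noncomputable def surjSES (Y X : GrLC.GMod.{u} 𝒜) (φ : Y.carrier →ₗ[R] X.carrier)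
    (hφ : GrLC.IsGrHom Y.gr X.gr φ) (hsurj : Function.Surjective φ)
    (K : Submodule R Y.carrier) (hK : K.IsHomogeneous Y.gr) (hker : LinearMap.ker φ = K) :
    GrSES (R := R) (subG Y K hK).gr Y.gr X.gr where
  u := K.subtype
  v := φ
  u_gr := fun _ _ h => h
  v_gr := hφ
  inj := K.injective_subtype
  surj := hsurj
  exact := by
    intro y
    rw [← LinearMap.mem_ker, hker]
    constructor
    · intro hy
      exact ⟨⟨y, hy⟩, rfl⟩
    · rintro ⟨w, rfl⟩
      exact w.2

section Steps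

variable {n : ℕ} (deg : Fin n → ℤ) (X : GrLC.GMod.{u} 𝒜)
  (φ : (Fin n → R) →ₗ[R] X.carrier) (hφ : GrLC.IsGrHom (freeGr 𝒜 deg) X.gr φ)
  (hsurj : Function.Surjective φ)
  (K : Submodule R (freeGMod 𝒜 deg).carrier) (hK : K.IsHomogeneous (freeGMod 𝒜 deg).gr)
  (hker : LinearMap.ker φ = K)

include hφ hsurj hker in
/-- from the syzygy module to the module: `K` strongly `(ρ+1)`-regular and `F` strongly
`ρ`-regular imply `X` strongly `ρ`-regular -/
theorem strongReg_of_syz (ρ : ℤ) (hF : StrongReg a (freeGMod 𝒜 deg) ρ)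
    (hKreg : StrongReg a (subG (freeGMod 𝒜 deg) K hK) (ρ + 1)) : StrongReg a X ρ := by
  intro j e he
  exact vanishAt_right a (surjSES (freeGMod 𝒜 deg) X φ hφ hsurj K hK hker) j e (hF j e he)
    (hKreg (j + 1) e (by push_cast; omega))

include hφ hsurj hker in
/-- from the module to the syzygy module -/
theorem strongReg_syz (ρ : ℤ) (hF : StrongReg a (freeGMod 𝒜 deg) ρ) (hX : StrongReg a X ρ) :
    StrongReg a (subG (freeGMod 𝒜 deg) K hK) (ρ + 1) := by
  intro j e he
  rcases Nat.eq_zero_or_pos j with hj | hj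
  · subst hj
    refine vanishAt_zero_of_injective a (K := subG (freeGMod 𝒜 deg) K hK) (F := freeGMod 𝒜 deg)
      K.subtype (fun _ _ h => h) K.injective_subtype e (hF 0 e ?_)
    simp only [Nat.cast_zero, sub_zero] at he ⊢
    omega
  · obtain ⟨i, rfl⟩ : ∃ i, j = i + 1 := ⟨j - 1, by omega⟩
    exact vanishAt_left a (surjSES (freeGMod 𝒜 deg) X φ hφ hsurj K hK hker) i e
      (hX i e (by push_cast at he; omega)) (hF (i + 1) e (by push_cast at he ⊢; omega))

variable (hhom : a.toIdeal = Ideal.span ((𝒜 1 : σ) : Set R))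

include hφ hsurj hhom in
/-- minimality: if `ker φ ⊆ a F` and `X` is strongly `ρ`-regular, the basis degrees are `≤ ρ` -/
theorem deg_le_of_strongReg (ρ : ℤ) (hX : StrongReg a X ρ) (hne : a.toIdeal ≠ ⊤)
    (hmin : ∀ v ∈ LinearMap.ker φ, ∀ b, v b ∈ a.toIdeal) (b : Fin n) : deg b ≤ ρ := by
  classical
  by_contra hlt
  push_neg at hlt
  have heb : (Pi.single b (1 : R) : Fin n → R) ∈ freeGr 𝒜 deg (deg b) := by
    intro c
    by_cases hc : c = b
    · subst hc
      rw [Pi.single_eq_same]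
      change (1 : R) ∈ 𝒜 (deg c - deg c)
      rw [sub_self]
      exact SetLike.GradedOne.one_mem (A := 𝒜)
    · rw [Pi.single_eq_of_ne hc]
      exact zero_mem _
  have h1 := mem_smul_top_of_strongReg a hhom X ρ hX (deg b) hlt _ (hφ _ _ heb)
  have h2 : (a.toIdeal • (⊤ : Submodule R (Fin n → R))).map φ =
      a.toIdeal • (⊤ : Submodule R X.carrier) := by
    rw [Submodule.map_smul'', Submodule.map_top, LinearMap.range_eq_top.2 hsurj]
  rw [← h2] at h1
  obtain ⟨f, hf, hfe⟩ := h1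
  have hfb : ∀ c, f c ∈ a.toIdeal := by
    intro c
    refine Submodule.smul_induction_on hf ?_ ?_
    · intro r hr v _
      exact Ideal.mul_mem_right _ _ hr
    · intro v w hv hw
      exact Ideal.add_mem _ hv hw
  have h3 : (Pi.single b (1 : R) : Fin n → R) - f ∈ LinearMap.ker φ := by
    rw [LinearMap.mem_ker, map_sub, hfe, sub_self]
  have h4 := hmin _ h3 b
  rw [Pi.sub_apply, Pi.single_eq_same] at h4
  have h5 : (1 : R) ∈ a.toIdeal := by
    have := Ideal.add_mem _ h4 (hfb b)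
    rwa [sub_add_cancel] at this
  exact hne ((Ideal.eq_top_iff_one _).2 h5)

end Steps

/-- vanishing above the cohomological dimension -/
theorem exists_vanishAt_of_lt : ∃ d₀ : ℕ, ∀ (X : GrLC.GMod.{u} 𝒜) (j : ℕ) (e : ℤ), d₀ < j →
    VanishAt a X j e := by
  obtain ⟨d₀, hd₀⟩ := Groth.Agent.H58.LC.exists_cdLE a.toIdeal
  refine ⟨d₀, fun X j e hj E x _ => ?_⟩
  have := hd₀ X.carrier j hj
  exact (θ E a j).injective (Subsingleton.elim _ _)

end Groth.Agent.H66.GrRegFree
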