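import Groth.Agent.H98.GrHt.CMVanish
import Groth.Agent.H66.GrRegFree
import Groth.Agent.H66.CMTopShift
import Groth.Agent.H58.LCGV

set_option autoImplicit false
set_option linter.unusedSectionVars false
universe u

/-!
# The a-invariant of a standard graded Cohen–Macaulay ring over an Artinian *local ring is `≥ -dim`
-/

namespace Groth.Agent.H66.AInvLower

open DirectSum Groth.Agent.H98.GrStar Groth.Agent.H66.GrVanish Groth.Agent.H66.GrRegFree
  Groth.Agent.H98.Bass0 Groth.Agent.H98.GrHt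

variable {R : Type u} [CommRing R] [IsNoetherianRing R] (𝒜 : ℤ → AddSubgroup R) [GradedRing 𝒜]

section Congr

variable {𝒜}
variable (a b : HomogeneousIdeal 𝒜)
  (h : ∀ (Y : Type u) [AddCommGroup Y] [Module R Y], GrLC.gam a.toIdeal Y = GrLC.gam b.toIdeal Y)

include h in
theorem cocyc_congr {M : Type u} [AddCommGroup M] [Module R M] {ℳ : ℤ → AddSubgroup M}
    [DirectSum.Decomposition ℳ] [SetLike.GradedSMul 𝒜 ℳ] (E : GrLC.StarInjRes 𝒜 ℳ) (i : ℕ) :
    E.cocyc a i = E.cocyc b i := by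
  unfold GrLC.StarInjRes.cocyc
  rw [h]

include h in
theorem cobdy_congr {M : Type u} [AddCommGroup M] [Module R M] {ℳ : ℤ → AddSubgroup M}
    [DirectSum.Decomposition ℳ] [SetLike.GradedSMul 𝒜 ℳ] (E : GrLC.StarInjRes 𝒜 ℳ) (i : ℕ) :
    E.cobdy a i = E.cobdy b i := by
  cases i with
  | zero => rfl
  | succ n =>
    change (GrLC.gam a.toIdeal (E.X n).carrier).map (E.d n) =
      (GrLC.gam b.toIdeal (E.X n).carrier).map (E.d n)
    rw [h]

include h in
/-- graded local cohomology only depends on the torsion functor -/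
theorem vanishAt_congr (X : GrLC.GMod.{u} 𝒜) (i : ℕ) (g : ℤ) (hv : VanishAt a X i g) :
    VanishAt b X i g := by
  intro E x hx
  obtain ⟨z, hzg, rfl⟩ := hx
  have hz : (z : (E.X i).carrier) ∈ E.cocyc a i := by
    rw [cocyc_congr a b h E i]
    exact z.2
  have h1 : E.toH a i ⟨z, hz⟩ ∈ E.Hgr a i g := ⟨⟨z, hz⟩, hzg, rfl⟩
  have h2 := hv E _ h1
  rw [Submodule.mkQ_apply, Submodule.Quotient.mk_eq_zero, Submodule.mem_comap] at h2
  rw [Submodule.mkQ_apply, Submodule.Quotient.mk_eq_zero, Submodule.mem_comap,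
    ← cobdy_congr a b h E i]
  exact h2

end Congr

section Nilp

variable (hpos : ∀ n : ℤ, n < 0 → 𝒜 n = ⊥) {m : HomogeneousIdeal 𝒜} (hm : GrLC.IsStarLocal 𝒜 m)
  [IsArtinianRing (GrLC.deg0 𝒜)]

include hm in
/-- elements of degree zero of the *maximal ideal are nilpotent when `R_0` is Artinian -/
theorem isNilpotent_of_mem_zero (x : R) (hx0 : x ∈ 𝒜 0) (hxm : x ∈ m.toIdeal) : IsNilpotent x := by
  obtain ⟨n, y, hy⟩ := IsArtinian.exists_pow_succ_smul_dvd (⟨x, hx0⟩ : GrLC.deg0 𝒜)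
    (1 : GrLC.deg0 𝒜)
  have hy' : x ^ (n + 1) * (y : R) = x ^ n := by
    have := congrArg Subtype.val hy
    simpa using this
  have hzero : x ^ n * (1 - x * (y : R)) = 0 := by
    rw [mul_sub, mul_one, ← mul_assoc, ← pow_succ, hy', sub_self]
  have hhomog : (Ideal.span {1 - x * (y : R)}).IsHomogeneous 𝒜 := by
    apply Ideal.homogeneous_span
    intro r hr
    rw [Set.mem_singleton_iff] at hr
    subst hr
    refine ⟨0, sub_mem (SetLike.GradedOne.one_mem (A := 𝒜)) ?_⟩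
    have := SetLike.GradedMul.mul_mem (A := 𝒜) hx0 y.2
    rwa [add_zero] at this
  have htop : Ideal.span {1 - x * (y : R)} = ⊤ := by
    by_contra hne
    have hle := le_of_isStarLocal 𝒜 hm _ hhomog hne
    have h1 : 1 - x * (y : R) ∈ m.toIdeal := hle (Ideal.subset_span rfl)
    have h2 : (1 : R) ∈ m.toIdeal := by
      have := add_mem h1 (Ideal.mul_mem_right (y : R) _ hxm)
      rwa [sub_add_cancel] at this
    exact ne_top_of_isStarLocal 𝒜 hm ((Ideal.eq_top_iff_one _).2 h2)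
  rw [Ideal.span_singleton_eq_top] at htop
  exact ⟨n, (htop.mul_left_eq_zero).1 hzero⟩

include hpos hm in
/-- the *maximal ideal lies in the radical of the irrelevant ideal -/
theorem le_radical_irrel : m.toIdeal ≤ (GrSyz.irrel 𝒜).toIdeal.radical := by
  classical
  intro r hr
  have hpos' := hpos_elt 𝒜 hpos
  have hdiff : r - (decompose 𝒜 r 0 : R) ∈ (GrSyz.irrel 𝒜).toIdeal := by
    have hsum : r - (decompose 𝒜 r 0 : R) =
        ∑ i ∈ (decompose 𝒜 r).support.erase 0, ((decompose 𝒜 r i : 𝒜 i) : R) := by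
      by_cases h0 : (0 : ℤ) ∈ (decompose 𝒜 r).support
      · have h1 := DirectSum.sum_support_decompose 𝒜 r
        rw [← Finset.add_sum_erase _ _ h0] at h1
        rw [eq_comm, ← sub_eq_iff_eq_add'] at h1
        rw [← h1]
      · have hz : (decompose 𝒜 r 0 : R) = 0 := by
          rw [DFinsupp.notMem_support_iff] at h0
          rw [h0]
          rfl
        rw [hz, sub_zero, Finset.erase_eq_of_notMem h0]
        exact (DirectSum.sum_support_decompose 𝒜 r).symm
    rw [hsum]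
    refine Ideal.sum_mem _ fun i hi => ?_
    rw [Finset.mem_erase] at hi
    rcases lt_trichotomy i 0 with hlt | heq | hgt
    · rw [hpos' i hlt _ (SetLike.coe_mem _)]
      exact zero_mem _
    · exact absurd heq hi.1
    · exact Ideal.subset_span ⟨i, hgt, SetLike.coe_mem _⟩
  have h0m : (decompose 𝒜 r 0 : R) ∈ m.toIdeal := m.isHomogeneous 0 hr
  have hnil := isNilpotent_of_mem_zero 𝒜 hm _ (SetLike.coe_mem _) h0m
  obtain ⟨n, hn⟩ := hnil
  have h0rad : (decompose 𝒜 r 0 : R) ∈ (GrSyz.irrel 𝒜).toIdeal.radical :=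
    ⟨n, by rw [hn]; exact zero_mem _⟩
  have := Ideal.add_mem _ (Ideal.le_radical hdiff) h0rad
  rwa [sub_add_cancel] at this

include hpos hm in
/-- the torsion functors of `m` and of the irrelevant ideal agree -/
theorem gam_irrel_eq (Y : Type u) [AddCommGroup Y] [Module R Y] :
    GrLC.gam (GrSyz.irrel 𝒜).toIdeal Y = GrLC.gam m.toIdeal Y := by
  have hle : (GrSyz.irrel 𝒜).toIdeal ≤ m.toIdeal := by
    change Ideal.span _ ≤ _
    rw [Ideal.span_le]
    rintro r ⟨n, hn, hr⟩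
    exact mem_of_isCoatom_of_pos 𝒜 (hpos_elt 𝒜 hpos) m hm.1 hn hr
  obtain ⟨N, hN⟩ := Ideal.exists_pow_le_of_le_radical_of_fg (le_radical_irrel 𝒜 hpos hm)
    (IsNoetherian.noetherian m.toIdeal)
  ext y
  constructor
  · rintro ⟨n, hn⟩
    refine ⟨N * n, fun r hr => hn r ?_⟩
    rw [pow_mul] at hr
    exact Ideal.pow_right_mono hN n hr
  · rintro ⟨n, hn⟩
    exact ⟨n, fun r hr => hn r (Ideal.pow_right_mono hle n hr)⟩

include hpos hm in
theorem irrel_le : (GrSyz.irrel 𝒜).toIdeal ≤ m.toIdeal := by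
  change Ideal.span _ ≤ _
  rw [Ideal.span_le]
  rintro r ⟨n, hn, hr⟩
  exact mem_of_isCoatom_of_pos 𝒜 (hpos_elt 𝒜 hpos) m hm.1 hn hr

end Nilp

section Main

variable {R : Type u} [CommRing R] [LocCoh.IsCohenMacaulayRing R] (𝒜 : ℤ → AddSubgroup R)
  [GradedRing 𝒜]

/-- **the a-invariant is at least `-dim R`** -/
theorem neg_dim_le_endDeg (hpos : ∀ n : ℤ, n < 0 → 𝒜 n = ⊥)
    (hstd : Ideal.span (⋃ n ∈ Set.Ioi (0 : ℤ), (𝒜 n : Set R)) =
      Ideal.span ((𝒜 1 : AddSubgroup R) : Set R))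
    [IsArtinianRing (GrLC.deg0 𝒜)] (m : HomogeneousIdeal 𝒜) (hm : GrLC.IsStarLocal 𝒜 m) (d : ℕ)
    (hd : ringKrullDim R = d) (I : GrLC.StarInjRes 𝒜 𝒜) :
    (((-(d : ℤ) : ℤ) : WithTop ℤ) : WithBot (WithTop ℤ)) ≤ GrLC.endDeg (I.Hgr m d) := by
  haveI : IsNoetherianRing R := inferInstance
  by_contra hcon
  have hhom : (GrSyz.irrel 𝒜).toIdeal = Ideal.span ((𝒜 1 : AddSubgroup R) : Set R) :=
    (irrel_toIdeal 𝒜).trans hstd
  let X : GrLC.GMod.{u} 𝒜 := GrLC.GMod.of 𝒜 R 𝒜
  have hv_m : ∀ (j : ℕ) (e : ℤ), (-1 : ℤ) - j < e → VanishAt m X j e := by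
    intro j e he
    rcases lt_trichotomy j d with hj | hj | hj
    · intro E x _
      exact @Subsingleton.elim _ (H_subsingleton_of_cm_pos 𝒜 hpos m hm d hd E j hj) _ _
    · subst hj
      refine vanishAt_of_exists m X j e I (fun x hx => ?_)
      have hbot : I.Hgr m j e = ⊥ := by
        by_contra hne
        apply hcon
        have h1 : (((e : ℤ) : WithTop ℤ) : WithBot (WithTop ℤ)) ≤ GrLC.endDeg (I.Hgr m j) :=
          le_iSup₂ (f := fun (n : ℤ) (_ : I.Hgr m j n ≠ ⊥) =>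
            ((n : WithTop ℤ) : WithBot (WithTop ℤ))) e hne
        refine le_trans ?_ h1
        rw [WithBot.coe_le_coe, WithTop.coe_le_coe]
        omega
      exact AddSubgroup.mem_bot.1 (hbot.le hx)
    · apply Groth.Agent.H66.CMTopShift.vanishAt_of_subsingleton_H
      apply Groth.Agent.H58.LC.gv
      change Module.supportDim R R < _
      rw [Module.supportDim_self_eq_ringKrullDim, hd]
      exact_mod_cast hj
  have hv_a : StrongReg (GrSyz.irrel 𝒜) X (-1) := fun j e he =>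
    vanishAt_congr m (GrSyz.irrel 𝒜) (fun Y _ _ => (gam_irrel_eq 𝒜 hpos hm Y).symm) X j e
      (hv_m j e he)
  have h1 := mem_smul_top_of_strongReg (GrSyz.irrel 𝒜) hhom X (-1) hv_a 0 (by norm_num)
    (1 : R) (GrLC.deg0 𝒜).one_mem
  have h2 : (1 : R) ∈ (GrSyz.irrel 𝒜).toIdeal := by
    have : (GrSyz.irrel 𝒜).toIdeal • (⊤ : Submodule R R) = (GrSyz.irrel 𝒜).toIdeal := by
      rw [smul_eq_mul, Ideal.mul_top]
    rw [← this]
    exact h1
  exact ne_top_of_isStarLocal 𝒜 hm ((Ideal.eq_top_iff_one _).2 (irrel_le 𝒜 hpos hm h2))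

end Main

end Groth.Agent.H66.AInvLower
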