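import Mathlib.FieldTheory.IsSepClosed
import Mathlib.FieldTheory.KrullTopology
import Mathlib.FieldTheory.Galois.Infinite
import Mathlib.FieldTheory.Normal.Basic
import Mathlib.FieldTheory.Fixed
import Mathlib.Topology.LocallyConstant.Basic
import Mathlib.LinearAlgebra.LinearIndependent.Lemmas

set_option autoImplicit false
universe u

namespace Groth.Agent.H66

open scoped Topology

section

variable {K L : Type u} [Field K] [Field L] [Algebra K L]

/-- A locally constant map on the Galois group is constant on a basic open subgroup. -/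
theorem exists_fixingSubgroup_const {Y : Type*} (a : (L ≃ₐ[K] L) → Y) (hlc : IsLocallyConstant a) :
    ∃ E : IntermediateField K L, FiniteDimensional K E ∧ ∀ τ ∈ E.fixingSubgroup, a τ = a 1 := by
  have h1 : {τ | a τ = a 1} ∈ 𝓝 (1 : L ≃ₐ[K] L) := hlc.eventually_eq 1
  obtain ⟨E, hE, hsub⟩ := (krullTopology_mem_nhds_one_iff K L _).1 h1
  exact ⟨E, hE, fun τ hτ => hsub hτ⟩

variable [Normal K L]

/-- A chosen extension of an embedding of an intermediate field to an automorphism. -/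
noncomputable def liftEmb (E : IntermediateField K L) (φ : E →ₐ[K] L) : L ≃ₐ[K] L :=
  AlgEquiv.ofBijective (φ.liftNormal L) (Algebra.IsAlgebraic.algHom_bijective _)

theorem liftEmb_apply (E : IntermediateField K L) (φ : E →ₐ[K] L) (x : E) :
    liftEmb E φ (x : L) = φ x := by
  have := AlgHom.liftNormal_commutes φ L x
  simpa [liftEmb] using this

/-- composition of an embedding with an automorphism -/
noncomputable def compEmb (E : IntermediateField K L) (ρ : L ≃ₐ[K] L) (φ : E →ₐ[K] L) :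
    E →ₐ[K] L := (ρ : L →ₐ[K] L).comp φ

theorem compEmb_apply (E : IntermediateField K L) (ρ : L ≃ₐ[K] L) (φ : E →ₐ[K] L) (x : E) :
    compEmb E ρ φ x = ρ (φ x) := rfl

theorem compEmb_bijective (E : IntermediateField K L) (ρ : L ≃ₐ[K] L) :
    Function.Bijective (compEmb E ρ) := by
  refine Function.bijective_iff_has_inverse.2 ⟨compEmb E ρ⁻¹, fun φ => ?_, fun φ => ?_⟩
  · ext x
    simp [compEmb_apply, AlgEquiv.aut_inv]
  · ext x
    simp [compEmb_apply, AlgEquiv.aut_inv]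

theorem exists_mem_fixingSubgroup (E : IntermediateField K L) (ρ : L ≃ₐ[K] L) (φ : E →ₐ[K] L) :
    ∃ τ ∈ E.fixingSubgroup, liftEmb E (compEmb E ρ φ) = ρ * liftEmb E φ * τ := by
  refine ⟨(ρ * liftEmb E φ)⁻¹ * liftEmb E (compEmb E ρ φ), ?_, by group⟩
  rw [IntermediateField.mem_fixingSubgroup_iff]
  intro x hx
  have h1 : liftEmb E (compEmb E ρ φ) x = ρ (liftEmb E φ x) := by
    have := liftEmb_apply E (compEmb E ρ φ) ⟨x, hx⟩
    rw [compEmb_apply, ← liftEmb_apply E φ ⟨x, hx⟩] at this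
    exact this
  rw [AlgEquiv.mul_apply, h1, AlgEquiv.aut_inv]
  exact (ρ * liftEmb E φ).symm_apply_apply x

/-- Hilbert 90 for continuous multiplicative cocycles of the Galois group of an algebraic normal
extension. -/
theorem exists_unit_coboundary (a : (L ≃ₐ[K] L) → Lˣ)
    (ha : ∀ σ τ : L ≃ₐ[K] L, a (σ * τ) = a σ * σ • a τ) (hlc : IsLocallyConstant a) :
    ∃ c : Lˣ, ∀ σ : L ≃ₐ[K] L, a σ = c⁻¹ * σ • c := by
  classical
  obtain ⟨E, hE, hconst⟩ := exists_fixingSubgroup_const a hlc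
  have ha1 : a 1 = 1 := by
    have h := ha 1 1
    rw [one_smul, mul_one] at h
    exact mul_eq_left.1 h.symm
  have hright : ∀ (σ τ : L ≃ₐ[K] L), τ ∈ E.fixingSubgroup → a (σ * τ) = a σ := by
    intro σ τ hτ
    rw [ha, hconst τ hτ, ha1, smul_one, mul_one]
  -- Dedekind independence gives a nonvanishing twisted trace
  have hli := linearIndependent_algHom_toLinearMap K E L
  rw [Fintype.linearIndependent_iff] at hli
  obtain ⟨x, hx⟩ : ∃ x : E, ∑ φ : E →ₐ[K] L, ((a (liftEmb E φ) : Lˣ) : L) * φ x ≠ 0 := by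
    by_contra hcon
    push Not at hcon
    obtain ⟨φ₀⟩ : Nonempty (E →ₐ[K] L) := ⟨E.val⟩
    have := hli (fun φ => ((a (liftEmb E φ) : Lˣ) : L)) (by
      ext x
      simp only [LinearMap.coe_sum, Finset.sum_apply, LinearMap.smul_apply,
        AlgHom.toLinearMap_apply, smul_eq_mul, LinearMap.zero_apply]
      exact hcon x) φ₀
    exact (a (liftEmb E φ₀)).ne_zero this
  set b : L := ∑ φ : E →ₐ[K] L, ((a (liftEmb E φ) : Lˣ) : L) * φ x with hb
  have hkey : ∀ ρ : L ≃ₐ[K] L, ((a ρ : Lˣ) : L) * ρ b = b := by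
    intro ρ
    rw [hb, map_sum, Finset.mul_sum]
    rw [← (compEmb_bijective E ρ).sum_comp
      (fun ψ => ((a (liftEmb E ψ) : Lˣ) : L) * ψ x)]
    refine Finset.sum_congr rfl fun φ _ => ?_
    obtain ⟨τ, hτ, hτeq⟩ := exists_mem_fixingSubgroup E ρ φ
    rw [hτeq, hright _ τ hτ, ha, compEmb_apply, map_mul, Units.val_mul, mul_assoc]
    rfl
  refine ⟨(Units.mk0 b hx)⁻¹, fun σ => ?_⟩
  rw [inv_inv, smul_inv', eq_mul_inv_iff_mul_eq]
  apply Units.ext
  rw [Units.val_mul]
  exact hkey σ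

/-- Additive Hilbert 90 for continuous cocycles of the Galois group of an algebraic normal
extension. -/
theorem exists_add_coboundary (a : (L ≃ₐ[K] L) → L)
    (ha : ∀ σ τ : L ≃ₐ[K] L, a (σ * τ) = a σ + σ (a τ)) (hlc : IsLocallyConstant a) :
    ∃ y : L, ∀ σ : L ≃ₐ[K] L, a σ = σ y - y := by
  classical
  obtain ⟨E, hE, hconst⟩ := exists_fixingSubgroup_const a hlc
  have ha1 : a 1 = 0 := by
    have h := ha 1 1
    rw [AlgEquiv.one_apply, mul_one] at h
    exact left_eq_add.1 h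
  have hright : ∀ (σ τ : L ≃ₐ[K] L), τ ∈ E.fixingSubgroup → a (σ * τ) = a σ := by
    intro σ τ hτ
    rw [ha, hconst τ hτ, ha1, map_zero, add_zero]
  have hli := linearIndependent_algHom_toLinearMap K E L
  rw [Fintype.linearIndependent_iff] at hli
  obtain ⟨x, hx⟩ : ∃ x : E, ∑ φ : E →ₐ[K] L, φ x ≠ 0 := by
    by_contra hcon
    push Not at hcon
    obtain ⟨φ₀⟩ : Nonempty (E →ₐ[K] L) := ⟨E.val⟩
    have := hli (fun _ => (1 : L)) (by
      ext x
      simp only [LinearMap.coe_sum, Finset.sum_apply, LinearMap.smul_apply,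
        AlgHom.toLinearMap_apply, smul_eq_mul, LinearMap.zero_apply, one_mul]
      exact hcon x) φ₀
    exact one_ne_zero this
  set t : L := ∑ φ : E →ₐ[K] L, φ x with ht
  set b : L := ∑ φ : E →ₐ[K] L, a (liftEmb E φ) * φ x with hb
  have htfix : ∀ ρ : L ≃ₐ[K] L, ρ t = t := by
    intro ρ
    rw [ht, map_sum]
    rw [← (compEmb_bijective E ρ).sum_comp (fun ψ => ψ x)]
    rfl
  have hkey : ∀ ρ : L ≃ₐ[K] L, ρ b + a ρ * t = b := by
    intro ρ
    have ht' : t = ∑ φ : E →ₐ[K] L, ρ (φ x) := by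
      rw [ht, ← (compEmb_bijective E ρ).sum_comp (fun ψ => ψ x)]
      rfl
    have hb' : b = ∑ φ : E →ₐ[K] L, a (liftEmb E (compEmb E ρ φ)) * ρ (φ x) := by
      rw [hb, ← (compEmb_bijective E ρ).sum_comp (fun ψ => a (liftEmb E ψ) * ψ x)]
      rfl
    have hsum : ρ (∑ φ : E →ₐ[K] L, a (liftEmb E φ) * φ x) + a ρ * ∑ φ : E →ₐ[K] L, ρ (φ x) =
        ∑ φ : E →ₐ[K] L, a (liftEmb E (compEmb E ρ φ)) * ρ (φ x) := by
      rw [map_sum, Finset.mul_sum, ← Finset.sum_add_distrib]
      refine Finset.sum_congr rfl fun φ _ => ?_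
      obtain ⟨τ, hτ, hτeq⟩ := exists_mem_fixingSubgroup E ρ φ
      have e : a (liftEmb E (compEmb E ρ φ)) = a ρ + ρ (a (liftEmb E φ)) := by
        rw [hτeq, hright _ τ hτ, ha]
      rw [e, map_mul]
      ring
    rw [← hb, ← ht', ← hb'] at hsum
    exact hsum
  refine ⟨-b / t, fun σ => ?_⟩
  rw [map_div₀, map_neg, htfix σ]
  have h := hkey σ
  field_simp
  linear_combination h

end

end Groth.Agent.H66
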