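import Mathlib
import Groth.Prelude.Def_Disc

/-!
# Associated primes of `ω = Hom_A(B, A)` for a finite map of Noetherian rings
-/

namespace Groth.Agent.H66.AssOmega

universe u v

open Disc

section functional

variable {D : Type u} {C : Type v} [CommRing D] [IsDomain D] [CommRing C] [IsDomain C]
  [Algebra D C] [Module.Finite D C] [FaithfulSMul D C]

attribute [local instance] FractionRing.liftAlgebra

/-- A finite injective extension of domains admits a functional not killing `1`. -/
theorem exists_functional : ∃ ψ : C →ₗ[D] D, ψ 1 ≠ 0 := by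
  classical
  let K := FractionRing D
  let L := FractionRing C
  obtain ⟨g, hg⟩ := LinearMap.exists_leftInverse_of_injective (Algebra.linearMap K L)
    (LinearMap.ker_eq_bot.mpr (algebraMap K L).injective)
  let ψ₀ : C →ₗ[D] K := (g.restrictScalars D) ∘ₗ ((Algebra.linearMap C L).restrictScalars D)
  have hψ₀1 : ψ₀ 1 = 1 := by
    have := LinearMap.congr_fun hg 1
    simpa [ψ₀] using this
  obtain ⟨s, hs⟩ := (Module.Finite.fg_top : (⊤ : Submodule D C).FG)
  obtain ⟨b, hb⟩ := IsLocalization.exist_integer_multiples_of_finset (nonZeroDivisors D)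
    (s.image ψ₀)
  have key : ∀ c : C, ((b : D) • ψ₀) c ∈ LinearMap.range (Algebra.linearMap D K) := by
    intro c
    have hc : c ∈ Submodule.span D (s : Set C) := by rw [hs]; trivial
    induction hc using Submodule.span_induction with
    | mem x hx =>
      obtain ⟨d, hd⟩ := hb (ψ₀ x) (Finset.mem_image_of_mem _ hx)
      exact ⟨d, by simpa using hd⟩
    | zero => simp
    | add x y _ _ hx hy =>
      rw [map_add]; exact Submodule.add_mem _ hx hy
    | smul r x _ hx =>
      rw [map_smul]; exact Submodule.smul_mem _ r hx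
  have hι : Function.Injective (Algebra.linearMap D K) :=
    FaithfulSMul.algebraMap_injective D K
  let ψ : C →ₗ[D] D := (LinearEquiv.ofInjective (Algebra.linearMap D K) hι).symm.toLinearMap ∘ₗ
    (((b : D) • ψ₀).codRestrict (LinearMap.range (Algebra.linearMap D K)) key)
  refine ⟨ψ, fun h => ?_⟩
  have h1 : (Algebra.linearMap D K) (ψ 1) = ((b : D) • ψ₀) 1 := by
    have := (LinearEquiv.ofInjective (Algebra.linearMap D K) hι).apply_symm_apply
      ((((b : D) • ψ₀).codRestrict (LinearMap.range (Algebra.linearMap D K)) key) 1)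
    have h2 := congrArg Subtype.val this
    simpa [ψ] using h2
  rw [h, map_zero, LinearMap.smul_apply, hψ₀1] at h1
  have : algebraMap D K (b : D) = 0 := by
    rw [Algebra.algebraMap_eq_smul_one]; exact h1.symm
  have hb0 : (b : D) = 0 := (FaithfulSMul.algebraMap_injective D K) (by rw [this, map_zero])
  exact nonZeroDivisors.coe_ne_zero b hb0

end functional

section main

variable {A : Type u} {B : Type v} [CommRing A] [CommRing B] [Algebra A B]

theorem smul_eq_zero_iff (b : B) (φ : Omega A B) :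
    b • φ = 0 ↔ ∀ y, φ.toLinearMap (b * y) = 0 := by
  constructor
  · intro h y
    have := congrArg (fun ψ : Omega A B => ψ.toLinearMap y) h
    simpa using this
  · intro h
    apply Omega.ext
    ext y
    simpa using h y

theorem mem_colon_iff (b : B) (φ : Omega A B) :
    b ∈ (⊥ : Submodule B (Omega A B)).colon {φ} ↔ ∀ y, φ.toLinearMap (b * y) = 0 := by
  rw [Submodule.mem_colon_singleton, Submodule.mem_bot, smul_eq_zero_iff]

theorem mem_colon_iff' (a x : A) :
    a ∈ (⊥ : Submodule A A).colon {x} ↔ a * x = 0 := by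
  rw [Submodule.mem_colon_singleton, Submodule.mem_bot, smul_eq_mul]

theorem sub [IsNoetherianRing A] [IsNoetherianRing B] [Module.Finite A B] (q : Ideal B)
    (hq : q ∈ associatedPrimes B (Omega A B)) :
    q.IsPrime ∧ q.comap (algebraMap A B) ∈ associatedPrimes A A := by
  classical
  obtain ⟨hqp, φ, hqφ⟩ := isAssociatedPrime_iff.mp hq
  refine ⟨hqp, ?_⟩
  have hp : (q.comap (algebraMap A B)).IsPrime := Ideal.IsPrime.comap _
  have hmem : ∀ a : A, a ∈ q.comap (algebraMap A B) ↔ ∀ y, a * φ.toLinearMap y = 0 := by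
    intro a
    rw [Ideal.mem_comap, hqφ, mem_colon_iff]
    refine forall_congr' fun y => ?_
    rw [← Algebra.smul_def, map_smul, smul_eq_mul]
  obtain ⟨s, hs⟩ := (Module.Finite.fg_top : (⊤ : Submodule A B).FG)
  have hle : s.inf (fun y => (⊥ : Submodule A A).colon {φ.toLinearMap y}) ≤
      q.comap (algebraMap A B) := by
    intro a ha
    rw [hmem]
    intro y
    have hy : y ∈ Submodule.span A (s : Set B) := by rw [hs]; trivial
    induction hy using Submodule.span_induction with
    | mem x hx =>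
      have := (Finset.inf_le (f := fun y => (⊥ : Submodule A A).colon {φ.toLinearMap y}) hx) ha
      exact (mem_colon_iff' _ _).mp this
    | zero => simp
    | add x y _ _ hx hy => rw [map_add, mul_add, hx, hy, add_zero]
    | smul r x _ hx => rw [map_smul, smul_eq_mul, mul_left_comm, hx, mul_zero]
  obtain ⟨y, -, hy⟩ := (Ideal.IsPrime.inf_le' hp).mp hle
  refine isAssociatedPrime_iff.mpr ⟨hp, φ.toLinearMap y, le_antisymm ?_ hy⟩
  intro a ha
  exact (mem_colon_iff' _ _).mpr ((hmem a).mp ha y)

theorem sup [IsNoetherianRing A] [IsNoetherianRing B] [Module.Finite A B] (q : Ideal B)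
    (hq : q.IsPrime) (hp : q.comap (algebraMap A B) ∈ associatedPrimes A A) :
    q ∈ associatedPrimes B (Omega A B) := by
  classical
  obtain ⟨hpp, x₀, hx₀⟩ := isAssociatedPrime_iff.mp hp
  set p : Ideal A := q.comap (algebraMap A B) with hpdef
  haveI : q.LiesOver p := ⟨rfl⟩
  have hmemp : ∀ a : A, a ∈ p ↔ a * x₀ = 0 := by
    intro a
    rw [hx₀, mem_colon_iff']
  obtain ⟨ψ, hψ⟩ := exists_functional (D := A ⧸ p) (C := B ⧸ q)
  let μ : (A ⧸ p) →ₗ[A] A := Submodule.liftQ p (LinearMap.toSpanSingleton A A x₀) (by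
    intro a ha
    rw [LinearMap.mem_ker, LinearMap.toSpanSingleton_apply, smul_eq_mul]
    exact (hmemp a).mp ha)
  have hμ : ∀ a : A, μ (Ideal.Quotient.mk p a) = a * x₀ := by
    intro a
    show Submodule.liftQ p (LinearMap.toSpanSingleton A A x₀) _ (Submodule.Quotient.mk a) = _
    rw [Submodule.liftQ_apply, LinearMap.toSpanSingleton_apply, smul_eq_mul]
  have hμinj : ∀ d : A ⧸ p, μ d = 0 → d = 0 := by
    intro d hd
    obtain ⟨a, rfl⟩ := Ideal.Quotient.mk_surjective d
    rw [hμ] at hd
    exact Ideal.Quotient.eq_zero_iff_mem.mpr ((hmemp a).mpr hd)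
  let φ₀ : B →ₗ[A] A := μ ∘ₗ (ψ.restrictScalars A) ∘ₗ (Ideal.Quotient.mkₐ A q).toLinearMap
  have hφ₀ : ∀ y, φ₀ y = μ (ψ (Ideal.Quotient.mk q y)) := fun y => rfl
  refine isAssociatedPrime_iff.mpr ⟨hq, ⟨φ₀⟩, ?_⟩
  ext b
  rw [mem_colon_iff]
  constructor
  · intro hb y
    show φ₀ (b * y) = 0
    rw [hφ₀, map_mul, Ideal.Quotient.eq_zero_iff_mem.mpr hb, zero_mul, map_zero, map_zero]
  · intro h
    by_contra hb
    have hb0 : Ideal.Quotient.mk q b ≠ 0 := fun h0 => hb (Ideal.Quotient.eq_zero_iff_mem.mp h0)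
    have hint : IsIntegral (A ⧸ p) (Ideal.Quotient.mk q b) := Algebra.IsIntegral.isIntegral _
    have hne := Ideal.comap_ne_bot_of_integral_mem (R := A ⧸ p)
      (I := Ideal.span {Ideal.Quotient.mk q b}) hb0 (Ideal.subset_span rfl) hint
    obtain ⟨d, hdmem, hd0⟩ := Submodule.exists_mem_ne_zero_of_ne_bot hne
    rw [Ideal.mem_comap, Ideal.mem_span_singleton'] at hdmem
    obtain ⟨c', hc'⟩ := hdmem
    obtain ⟨y', rfl⟩ := Ideal.Quotient.mk_surjective c'
    have := h y'
    change φ₀ (b * y') = 0 at this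
    rw [hφ₀, map_mul, mul_comm, hc', Algebra.algebraMap_eq_smul_one, map_smul] at this
    have h2 := hμinj _ this
    rw [smul_eq_mul] at h2
    rcases mul_eq_zero.mp h2 with h3 | h3
    · exact hd0 h3
    · exact hψ h3

theorem main [IsNoetherianRing A] [IsNoetherianRing B] [Module.Finite A B] :
    associatedPrimes B (Omega A B) =
      {q : Ideal B | q.IsPrime ∧ q.comap (algebraMap A B) ∈ associatedPrimes A A} := by
  ext q
  exact ⟨fun h => sub q h, fun h => sup q h.1 h.2⟩

end main

end Groth.Agent.H66.AssOmega
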