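import Groth.Agent.H66.CMKoszul
import Mathlib.Algebra.Homology.Embedding.ExtendHomology

set_option autoImplicit false

/-!
# The Koszul complex on `P^n_A` as a cochain complex indexed by `ℤ`
-/

universe u

open CategoryTheory CategoryTheory.Limits AlgebraicGeometry TopologicalSpace Opposite

namespace Groth.Agent.H66.CMKoszExt

open Groth.Agent.H66.KoszFam Groth.Agent.H66.CMKoszul

attribute [local instance] Abelian.hasFiniteBiproducts

theorem card_P (k j : ℕ) : Fintype.card (P k j) = Nat.choose k j := by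
  rw [Fintype.card_finset_len, Fintype.card_fin]

/-- a finite biproduct of copies of `M` is a coproduct over `Fin` of the right cardinality -/
theorem nonempty_biproduct_iso_sigma {𝒞 : Type*} [Category 𝒞] [Preadditive 𝒞] [HasFiniteBiproducts 𝒞]
    [HasFiniteCoproducts 𝒞]
    (I : Type) [Fintype I] (c : ℕ) (hc : Fintype.card I = c) (M M' : 𝒞) (hM : M = M') :
    Nonempty ((⨁ fun _ : I => M) ≅ ∐ fun _ : Fin c => M') := by
  subst hM
  let ε : I ≃ Fin c := Fintype.equivFinOfCardEq hc
  exact ⟨biproduct.isoCoproduct _ ≪≫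
    (Sigma.whiskerEquiv (f := fun _ : I => M) (g := fun _ : Fin c => M) ε (fun _ => Iso.refl M))⟩

variable (n : ℕ) (A : Type u) [CommRing A]

theorem exists_koszul_cochain (a : ℤ) :
    ∃ C : CochainComplex (CohB1.ProjSpace n A).Modules ℤ, (∀ i : ℤ, C.ExactAt i) ∧
      (∀ i : ℕ, i ≤ n + 1 → Nonempty (C.X (i : ℤ) ≅
        ∐ fun _ : Fin (Nat.choose (n + 1) i) => Twist.twistProjSpace n A (a + i))) ∧
      (∀ i : ℤ, i < 0 ∨ (n : ℤ) + 1 < i → IsZero (C.X i)) := by
  let K := koszO n A (a + n + 1)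
  let e := ComplexShape.embeddingUpIntLE ((n : ℤ) + 1)
  have hef : ∀ j : ℕ, e.f j = (n : ℤ) + 1 - j := fun j => rfl
  refine ⟨K.extend e, ?_, ?_, ?_⟩
  · intro i
    by_cases h : ∃ j, e.f j = i
    · obtain ⟨j, rfl⟩ := h
      exact (K.extend_exactAt_iff e rfl).2 (koszO_exactAt n A _ j)
    · exact K.extend_exactAt e i (fun j hj => h ⟨j, hj⟩)
  · intro i hi
    have hf : e.f (n + 1 - i) = (i : ℤ) := by
      rw [hef]
      push_cast [Nat.cast_sub hi]
      ring
    obtain ⟨φ⟩ := nonempty_biproduct_iso_sigma (𝒞 := (CohB1.ProjSpace n A).Modules)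
      (P (n + 1) (n + 1 - i)) (Nat.choose (n + 1) i)
      (by rw [card_P, Nat.choose_symm hi])
      (Twist.twistProjSpace n A (a + n + 1 - ((n + 1 - i : ℕ) : ℤ)))
      (Twist.twistProjSpace n A (a + i))
      (by congr 1; push_cast [Nat.cast_sub hi]; ring)
    exact ⟨K.extendXIso e hf ≪≫ φ⟩
  · intro i hi
    by_cases h : ∃ j, e.f j = i
    · obtain ⟨j, rfl⟩ := h
      refine IsZero.of_iso ?_ (K.extendXIso e rfl)
      apply isZero_kosz_X
      rw [hef] at hi
      rcases hi with hi | hi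
      · omega
      · omega
    · exact K.isZero_extend_X e i (fun j hj => h ⟨j, hj⟩)

end Groth.Agent.H66.CMKoszExt
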