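import Mathlib.GroupTheory.FiniteAbelian.Basic
import Mathlib.GroupTheory.Exponent
import Mathlib.GroupTheory.Index
import Mathlib.Order.Zorn

set_option autoImplicit false
universe u

namespace Groth.Agent.H66

open DirectSum

/-- A finite abelian group with a nonzero element contained in every nonzero subgroup is
cyclic of prime power order. -/
theorem cocyclic_finite_equiv_zmod {A : Type u} [AddCommGroup A] [Finite A]
    (a : A) (ha : a ≠ 0) (h : ∀ B : AddSubgroup A, B ≠ ⊥ → a ∈ B) :
    ∃ p n : ℕ, p.Prime ∧ Nonempty (A ≃+ ZMod (p ^ n)) := by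
  classical
  obtain ⟨ι, _, p, hp, e, ⟨f⟩⟩ := AddCommGroup.equiv_directSum_zmod_of_finite A
  have ha' : f a ≠ 0 := fun h0 => ha (f.injective (by rw [h0, map_zero]))
  obtain ⟨i₀, hi₀⟩ : ∃ i₀, (f a) i₀ ≠ 0 := by
    by_contra hcon
    push_neg at hcon
    exact ha' (DFinsupp.ext hcon)
  have hsub : ∀ i, i ≠ i₀ → Subsingleton (ZMod (p i ^ e i)) := by
    intro i hi
    by_contra hns
    rw [not_subsingleton_iff_nontrivial] at hns
    obtain ⟨z, hz⟩ := exists_ne (0 : ZMod (p i ^ e i))
    let B : AddSubgroup A :=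
      AddSubgroup.map f.symm.toAddMonoidHom
        (DirectSum.of (fun i => ZMod (p i ^ e i)) i).range
    have hB : B ≠ ⊥ := by
      intro hB
      have hmem : f.symm (DirectSum.of (fun i => ZMod (p i ^ e i)) i z) ∈ B :=
        ⟨_, ⟨z, rfl⟩, rfl⟩
      rw [hB, AddSubgroup.mem_bot] at hmem
      have h2 : DirectSum.of (fun i => ZMod (p i ^ e i)) i z = 0 := by
        have := congrArg f hmem
        rwa [AddEquiv.apply_symm_apply, map_zero] at this
      have h3 := DirectSum.of_injective (β := fun i => ZMod (p i ^ e i)) i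
      exact hz (h3 (by rw [h2, map_zero]))
    obtain ⟨y, ⟨z', rfl⟩, hy⟩ := h B hB
    have h4 : f a = DirectSum.of (fun i => ZMod (p i ^ e i)) i z' := by
      rw [← hy]; exact f.apply_symm_apply _
    apply hi₀
    rw [h4]
    exact DirectSum.of_eq_of_ne _ _ _ (Ne.symm hi)
  have hbij : Function.Bijective (DirectSum.of (fun i => ZMod (p i ^ e i)) i₀) := by
    refine ⟨DirectSum.of_injective i₀, fun x => ⟨x i₀, ?_⟩⟩
    apply DFinsupp.ext
    intro j
    by_cases hj : j = i₀
    · subst hj
      exact DirectSum.of_eq_same _ _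
    · haveI := hsub j hj
      exact Subsingleton.elim _ _
  exact ⟨p i₀, e i₀, hp i₀,
    ⟨f.trans (AddEquiv.ofBijective (DirectSum.of (fun i => ZMod (p i ^ e i)) i₀) hbij).symm⟩⟩

/-- An abelian group of finite exponent with a nonzero element contained in every nonzero
subgroup is finite. -/
theorem cocyclic_finite_of_exponent {A : Type u} [AddCommGroup A]
    (hA : AddMonoid.exponent A ≠ 0) (a : A) (ha : a ≠ 0)
    (h : ∀ B : AddSubgroup A, B ≠ ⊥ → a ∈ B) : Finite A := by
  classical
  by_contra hinf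
  rw [not_finite_iff_infinite] at hinf
  set N := AddMonoid.exponent A with hN
  obtain ⟨s, hs⟩ := Infinite.exists_subset_card_eq A (N + 1)
  let s' : Finset A := insert a s
  let H : AddSubgroup A := AddSubgroup.closure (s' : Set A)
  have haH : a ∈ H := AddSubgroup.subset_closure (by simp [s'])
  have hsH : (s : Set A) ⊆ (H : Set A) := fun x hx =>
    AddSubgroup.subset_closure (by simp [s', Finset.mem_coe.1 hx])
  haveI hfg : AddGroup.FG H := AddGroup.closure_finite_fg (s' : Set A)
  have htors : IsAddTorsion H := by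
    intro x
    rw [isOfFinAddOrder_iff_nsmul_eq_zero]
    refine ⟨N, Nat.pos_of_ne_zero hA, ?_⟩
    apply Subtype.ext
    rw [AddSubgroup.coe_nsmul]
    exact AddMonoid.exponent_nsmul_eq_zero _
  haveI : Finite H := AddCommGroup.finite_of_fg_isAddTorsion H htors
  have hcoc : ∀ B : AddSubgroup H, B ≠ ⊥ → (⟨a, haH⟩ : H) ∈ B := by
    intro B hB
    have hB' : B.map H.subtype ≠ ⊥ := by
      intro h0
      apply hB
      rw [eq_bot_iff]
      intro x hx
      have : H.subtype x ∈ B.map H.subtype := ⟨x, hx, rfl⟩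
      rw [h0, AddSubgroup.mem_bot] at this
      rw [AddSubgroup.mem_bot]
      exact Subtype.ext this
    obtain ⟨b, hb, hba⟩ := h _ hB'
    have : b = ⟨a, haH⟩ := Subtype.ext hba
    rwa [← this]
  obtain ⟨p, n, hp, ⟨g⟩⟩ := cocyclic_finite_equiv_zmod (⟨a, haH⟩ : H)
    (fun h0 => ha (congrArg Subtype.val h0)) hcoc
  have hpn : 0 < p ^ n := pow_pos hp.pos n
  haveI : NeZero (p ^ n) := ⟨hpn.ne'⟩
  have hcard : Nat.card H = p ^ n := by
    rw [Nat.card_congr g.toEquiv, Nat.card_zmod]
  have hdvd : p ^ n ∣ N := by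
    have h1 : addOrderOf (g.symm 1) = p ^ n := by
      rw [AddEquiv.addOrderOf_eq, ZMod.addOrderOf_one]
    rw [← h1]
    apply addOrderOf_dvd_of_nsmul_eq_zero
    apply Subtype.ext
    rw [AddSubgroup.coe_nsmul]
    exact AddMonoid.exponent_nsmul_eq_zero _
  have hle : p ^ n ≤ N := Nat.le_of_dvd (Nat.pos_of_ne_zero hA) hdvd
  have hge : N + 1 ≤ Nat.card H := by
    have h1 : Nat.card H = (H : Set A).ncard := Nat.card_coe_set_eq (H : Set A)
    rw [h1, ← hs, ← Set.ncard_coe_finset s]
    exact Set.ncard_le_ncard hsH (Set.toFinite _)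
  omega

end Groth.Agent.H66
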