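import Groth.Agent.H66.Cocyclic
import Mathlib.Topology.Algebra.OpenSubgroup
import Mathlib.GroupTheory.QuotientGroup.Basic

set_option autoImplicit false
universe u

namespace Groth.Agent.H66

/-- In an abelian group, an element outside `n • A` is avoided by a finite index subgroup
containing `n • A`. -/
theorem exists_finiteIndex_not_mem {A : Type u} [AddCommGroup A] (n : ℕ) (hn : 0 < n) (a : A)
    (ha : a ∉ (nsmulAddMonoidHom n : A →+ A).range) :
    ∃ M : AddSubgroup A, (nsmulAddMonoidHom n : A →+ A).range ≤ M ∧ M.FiniteIndex ∧ a ∉ M := by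
  classical
  set nA : AddSubgroup A := (nsmulAddMonoidHom n : A →+ A).range with hnA
  let S : Set (AddSubgroup A) := {B | nA ≤ B ∧ a ∉ B}
  have hchain : ∀ c ⊆ S, IsChain (· ≤ ·) c → ∀ y ∈ c, ∃ ub ∈ S, ∀ z ∈ c, z ≤ ub := by
    intro c hcS hc y hy
    refine ⟨sSup c, ⟨?_, ?_⟩, fun z hz => le_sSup hz⟩
    · exact le_trans (hcS hy).1 (le_sSup hy)
    · intro hmem
      rw [AddSubgroup.mem_sSup_of_directedOn ⟨y, hy⟩ hc.directedOn] at hmem
      obtain ⟨B, hB, haB⟩ := hmem
      exact (hcS hB).2 haB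
  obtain ⟨M, -, hMS, hMmax⟩ := zorn_le_nonempty₀ S hchain nA ⟨le_rfl, ha⟩
  refine ⟨M, hMS.1, ?_, hMS.2⟩
  have hexp : AddMonoid.exponent (A ⧸ M) ≠ 0 := by
    rw [AddMonoid.exponent_ne_zero]
    refine ⟨n, hn, fun x => ?_⟩
    obtain ⟨y, rfl⟩ := QuotientAddGroup.mk_surjective x
    rw [← QuotientAddGroup.mk_nsmul, QuotientAddGroup.eq_zero_iff]
    exact hMS.1 ⟨y, rfl⟩
  have hane : (QuotientAddGroup.mk a : A ⧸ M) ≠ 0 := by
    rw [Ne, QuotientAddGroup.eq_zero_iff]
    exact hMS.2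
  have hcoc : ∀ B : AddSubgroup (A ⧸ M), B ≠ ⊥ → (QuotientAddGroup.mk a : A ⧸ M) ∈ B := by
    intro B hB
    by_contra haB
    let C : AddSubgroup A := B.comap (QuotientAddGroup.mk' M)
    have hMC : M ≤ C := by
      intro x hx
      change (QuotientAddGroup.mk' M x) ∈ B
      rw [QuotientAddGroup.mk'_apply, (QuotientAddGroup.eq_zero_iff x).2 hx]
      exact B.zero_mem
    have hCS : C ∈ S := ⟨le_trans hMS.1 hMC, haB⟩
    have hCM : C ≤ M := hMmax hCS hMC
    apply hB
    rw [eq_bot_iff]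
    intro x hx
    obtain ⟨y, rfl⟩ := QuotientAddGroup.mk_surjective x
    rw [AddSubgroup.mem_bot, QuotientAddGroup.eq_zero_iff]
    exact hCM hx
  haveI : Finite (A ⧸ M) := cocyclic_finite_of_exponent hexp _ hane hcoc
  exact AddSubgroup.finiteIndex_of_finite_quotient

theorem open_finiteIndex_iff_not_divisible {A : Type u} [AddCommGroup A]
    [TopologicalSpace A] [IsTopologicalAddGroup A]
    (hn : ∀ n : ℕ, 0 < n → IsOpen (Set.range (fun x : A => n • x))) (a : A) :
    (∃ B : AddSubgroup A, IsOpen (B : Set A) ∧ B.FiniteIndex ∧ a ∉ B) ↔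
      ¬ (∀ n : ℕ, 0 < n → ∃ b : A, n • b = a) := by
  constructor
  · rintro ⟨B, -, hfi, haB⟩ hdiv
    obtain ⟨b, rfl⟩ := hdiv B.index (Nat.pos_of_ne_zero hfi.index_ne_zero)
    exact haB (B.nsmul_index_mem b)
  · intro hnd
    push Not at hnd
    obtain ⟨n, hn0, hna⟩ := hnd
    have ha : a ∉ (nsmulAddMonoidHom n : A →+ A).range := by
      rintro ⟨b, hb⟩
      exact hna b hb
    obtain ⟨M, hle, hfi, haM⟩ := exists_finiteIndex_not_mem n hn0 a ha
    refine ⟨M, ?_, hfi, haM⟩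
    refine AddSubgroup.isOpen_mono hle ?_
    have : ((nsmulAddMonoidHom n : A →+ A).range : Set A) = Set.range (fun x : A => n • x) := by
      ext x; simp
    rw [this]
    exact hn n hn0

end Groth.Agent.H66
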