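import Groth.Agent.H66.GrRegFree
import Groth.Agent.H98.GrStar.ArtinBounded

set_option autoImplicit false
set_option linter.unusedSectionVars false
universe u

/-!
# Strong regularity of torsion (e.g. finite length) graded modules
-/

namespace Groth.Agent.H66.GrRegTorsion

open DirectSum Groth.Agent.H98.GrStar Groth.Agent.H66.GrVanish Groth.Agent.H66.GrRegFree
  Groth.Agent.H66.GrKoszul

variable {R : Type u} [CommRing R] [IsNoetherianRing R]
  {σ : Type u} [SetLike σ R] [AddSubgroupClass σ R]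
  {𝒜 : ℤ → σ} [GradedRing 𝒜]

variable (a : HomogeneousIdeal 𝒜)

theorem vanishAt_zero_of_forall (X : GrLC.GMod.{u} 𝒜) (e : ℤ)
    (h : ∀ m ∈ X.gr e, m ∈ GrLC.gam a.toIdeal X.carrier → m = 0) : VanishAt a X 0 e :=
  fun E y hy => Hgr_zero_eq_zero E a e h y hy

/-- for a torsion module, strong `d`-regularity means vanishing in degrees `> d` -/
theorem strongReg_iff_of_gam_eq_top (X : GrLC.GMod.{u} 𝒜)
    (hgam : GrLC.gam a.toIdeal X.carrier = ⊤) (d : ℤ) :
    StrongReg a X d ↔ ∀ e : ℤ, d < e → ∀ m ∈ X.gr e, m = 0 := by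
  constructor
  · intro h e he m hm
    exact eq_zero_of_vanishAt_zero a X e (h 0 e (by simpa using he)) m hm (by rw [hgam]; trivial)
  · intro h j e he
    rcases Nat.eq_zero_or_pos j with hj | hj
    · subst hj
      exact vanishAt_zero_of_forall a X e (fun m hm _ => h e (by simpa using he) m hm)
    · exact vanishAt_of_gam_eq_top a X hgam j hj e

variable (hpos : ∀ n : ℤ, n < 0 → ∀ r ∈ 𝒜 n, r = 0)
  (ha : a.toIdeal = Ideal.span (⋃ n ∈ Set.Ioi (0 : ℤ), (𝒜 n : Set R)))

include hpos ha in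
/-- Artinian graded modules are torsion for the irrelevant ideal -/
theorem gam_eq_top_of_isArtinian (X : GrLC.GMod.{u} 𝒜) [IsArtinian R X.carrier] :
    GrLC.gam a.toIdeal X.carrier = ⊤ := by
  haveI : IsArtinian R (⊤ : Submodule R X.carrier) :=
    isArtinian_of_linearEquiv (Submodule.topEquiv (R := R) (M := X.carrier)).symm
  obtain ⟨n₀, hn₀⟩ := bounded_of_isArtinian 𝒜 hpos X.gr (⊤ : Submodule R X.carrier)
  exact gam_eq_top_of_bounded 𝒜 hpos X.gr a.toIdeal ha n₀
    (fun n hn x hx => hn₀ n hn x Submodule.mem_top hx)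

end Groth.Agent.H66.GrRegTorsion
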