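import Groth.Prelude.Def_GrSyz
import Mathlib

set_option autoImplicit false
universe u v

/-!
# The irrelevant ideal of a standard graded polynomial ring is generated in degree one
-/

namespace Groth.Agent.H66.StdGrIrrel

variable (k : Type u) [CommRing k] (σ : Type v)

theorem X_mem_stdGr_one (j : σ) : (MvPolynomial.X j : MvPolynomial σ k) ∈ GrSyz.stdGr k σ 1 := by
  rw [GrSyz.mem_stdGr_iff]
  exact MvPolynomial.isWeightedHomogeneous_X k (fun _ : σ => (1 : ℤ)) j

theorem irrel_stdGr_toIdeal :
    (GrSyz.irrel (GrSyz.stdGr k σ)).toIdeal =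
      Ideal.span ((GrSyz.stdGr k σ 1 : Submodule k (MvPolynomial σ k)) : Set (MvPolynomial σ k)) := by
  classical
  change Ideal.span {r : MvPolynomial σ k | ∃ n : ℤ, 0 < n ∧ r ∈ GrSyz.stdGr k σ n} = _
  apply le_antisymm
  · rw [Ideal.span_le]
    rintro r ⟨n, hn, hr⟩
    rw [GrSyz.mem_stdGr_iff] at hr
    rw [← MvPolynomial.support_sum_monomial_coeff r]
    refine Ideal.sum_mem _ (fun d hd => ?_)
    have hc : MvPolynomial.coeff d r ≠ 0 := MvPolynomial.mem_support_iff.1 hd
    have hw : Finsupp.weight (fun _ : σ => (1 : ℤ)) d = n := hr hc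
    have hd0 : d ≠ 0 := by
      rintro rfl
      rw [map_zero] at hw
      omega
    obtain ⟨j, hj⟩ : ∃ j, d j ≠ 0 := by
      by_contra hcon
      push_neg at hcon
      exact hd0 (Finsupp.ext hcon)
    have hsplit : d = Finsupp.single j 1 + (d - Finsupp.single j 1) := by
      ext i
      rw [Finsupp.add_apply, Finsupp.tsub_apply, Finsupp.single_apply]
      by_cases h : j = i
      · subst h
        rw [if_pos rfl]
        omega
      · rw [if_neg h]
        omega
    have hmon : ∀ c : k, MvPolynomial.monomial d c =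
        MvPolynomial.X j * MvPolynomial.monomial (d - Finsupp.single j 1) c := by
      intro c
      conv_lhs => rw [hsplit]
      rw [MvPolynomial.X, MvPolynomial.monomial_mul, one_mul]
    rw [hmon]
    exact Ideal.mul_mem_right _ _ (Ideal.subset_span (X_mem_stdGr_one k σ j))
  · rw [Ideal.span_le]
    intro r hr
    exact Ideal.subset_span ⟨1, one_pos, hr⟩

end Groth.Agent.H66.StdGrIrrel
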