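import Groth.Agent.H66.LengthRes
import Groth.Agent.H77.StdGr
import Groth.Agent.H77.Irrel
import Groth.Agent.H66.StdGrIrrel
import Groth.Agent.H66.GrRegTorsion
import Groth.Agent.H98.GrStar.AsGr

set_option autoImplicit false
set_option linter.unusedSectionVars false
universe u v

/-!
# Counting lengths in cyclic graded modules over a polynomial ring
-/

namespace Groth.Agent.H66.CyclicCount

open GrSyz MvPolynomial DirectSum

section Generic

variable {ι : Type} [DecidableEq ι] {R : Type u} [CommRing R]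
  {M : Type u} [AddCommGroup M] [Module R M] {N : Type u} [AddCommGroup N] [Module R N]
  {A : Type u} [CommRing A] [Module A M] [Module A N]
  (ℳ : ι → Submodule R M) [DirectSum.Decomposition ℳ]
  (𝒩 : ι → Submodule R N) [DirectSum.Decomposition 𝒩]

/-- graded maps commute with taking homogeneous components -/
theorem decompose_map (f : M →ₗ[A] N) (hf : GrLC.IsGrHom ℳ 𝒩 f) (x : M) (n : ι) :
    (DirectSum.decompose 𝒩 (f x) n : N) = f (DirectSum.decompose ℳ x n) := by
  induction x using DirectSum.Decomposition.inductionOn ℳ with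
  | zero => simp
  | @homogeneous i m =>
    by_cases h : i = n
    · subst h
      rw [DirectSum.decompose_of_mem_same 𝒩 (hf _ _ m.2),
        DirectSum.decompose_of_mem_same ℳ m.2]
    · rw [DirectSum.decompose_of_mem_ne 𝒩 (hf _ _ m.2) h,
        DirectSum.decompose_of_mem_ne ℳ m.2 h, map_zero]
  | add x y hx hy =>
    rw [map_add, DirectSum.decompose_add, DirectSum.decompose_add, DirectSum.add_apply,
      DirectSum.add_apply, Submodule.coe_add, Submodule.coe_add, map_add, hx, hy]

/-- the sum of the lengths of finitely many graded pieces is at most the length -/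
theorem sum_length_le (J : Finset ι) :
    ∑ d ∈ J, Module.length R (𝒩 d) ≤ Module.length R N := by
  classical
  let Φ : (∀ d : J, 𝒩 d) →ₗ[R] N :=
    ∑ d : J, (𝒩 d).subtype ∘ₗ (LinearMap.proj d : (∀ d : J, 𝒩 d) →ₗ[R] 𝒩 d)
  have hΦapp : ∀ f, Φ f = ∑ d : J, (f d : N) := by
    intro f
    simp [Φ, LinearMap.sum_apply]
  have hΦ : Function.Injective Φ := by
    rw [← LinearMap.ker_eq_bot, eq_bot_iff]
    intro f hf
    rw [LinearMap.mem_ker, hΦapp] at hf
    rw [Submodule.mem_bot]
    funext e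
    have h1 : (DirectSum.decompose 𝒩 (∑ d : J, (f d : N)) e : N) = f e := by
      rw [DirectSum.decompose_sum, DFinsupp.finset_sum_apply, AddSubmonoidClass.coe_finset_sum,
        Finset.sum_eq_single e]
      · exact DirectSum.decompose_of_mem_same 𝒩 (f e).2
      · intro b _ hb
        exact DirectSum.decompose_of_mem_ne 𝒩 (f b).2 (fun h => hb (Subtype.ext h))
      · intro h
        exact absurd (Finset.mem_univ e) h
    rw [hf, DirectSum.decompose_zero, DirectSum.zero_apply] at h1
    apply Subtype.ext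
    rw [← h1]
    rfl
  have h2 := Module.length_le_of_injective Φ hΦ
  rw [Module.length_pi_of_fintype] at h2
  rwa [Finset.sum_coe_sort J (fun d => Module.length R (𝒩 d))] at h2

end Generic

section Poly

variable (k : Type u) [Field k] (σ : Type v)

theorem sub_C_mem_irrel (s : MvPolynomial σ k) :
    s - algebraMap k (MvPolynomial σ k) (constantCoeff s) ∈
      (GrSyz.irrel (GrSyz.stdGr k σ)).toIdeal := by
  induction s using MvPolynomial.induction_on with
  | C a =>
    rw [constantCoeff_C, MvPolynomial.algebraMap_eq, sub_self]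
    exact Submodule.zero_mem _
  | add p q hp hq =>
    have : p + q - algebraMap k (MvPolynomial σ k) (constantCoeff (p + q)) =
        (p - algebraMap k (MvPolynomial σ k) (constantCoeff p)) +
          (q - algebraMap k (MvPolynomial σ k) (constantCoeff q)) := by
      rw [map_add, map_add]; ring
    rw [this]
    exact Ideal.add_mem _ hp hq
  | mul_X p i _ =>
    have : constantCoeff (p * X i) = 0 := by simp
    rw [this, map_zero, sub_zero]
    exact Ideal.mul_mem_left _ _
      (Groth.Agent.H77.mem_irrel_of_mem_stdGr_of_pos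
        (Groth.Agent.H66.StdGrIrrel.X_mem_stdGr_one k σ i) zero_lt_one)

end Poly

section Cyclic

variable (k : Type u) [Field k] (r : ℕ)
  {N : Type u} [AddCommGroup N] [Module k N] [Module (MvPolynomial (Fin (r + 1)) k) N]
  [IsScalarTower k (MvPolynomial (Fin (r + 1)) k) N]
  (𝒩 : ℤ → Submodule k N) [DirectSum.Decomposition 𝒩]
  [SetLike.GradedSMul (GrSyz.stdGr k (Fin (r + 1))) 𝒩]
  (τ : MvPolynomial (Fin (r + 1)) k →ₗ[MvPolynomial (Fin (r + 1)) k] N)
  (hτ : Function.Surjective τ) (hτg : GrLC.IsGrHom (GrSyz.stdGr k (Fin (r + 1))) 𝒩 τ)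

theorem tau_mul (p q : MvPolynomial (Fin (r + 1)) k) : τ (p * q) = q • τ p := by
  rw [mul_comm, ← smul_eq_mul, map_smul]

include hτ hτg in
/-- homogeneous elements have homogeneous preimages -/
theorem exists_homog_preimage (n : ℤ) (z : N) (hz : z ∈ 𝒩 n) :
    ∃ p ∈ GrSyz.stdGr k (Fin (r + 1)) n, τ p = z := by
  obtain ⟨p₀, rfl⟩ := hτ z
  refine ⟨(DirectSum.decompose (GrSyz.stdGr k (Fin (r + 1))) p₀ n : MvPolynomial (Fin (r + 1)) k),
    SetLike.coe_mem _, ?_⟩
  rw [← decompose_map (GrSyz.stdGr k (Fin (r + 1))) 𝒩 τ hτg p₀ n,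
    DirectSum.decompose_of_mem_same 𝒩 hz]

include hτ hτg in
theorem piece_eq_bot_of_neg (n : ℤ) (hn : n < 0) : 𝒩 n = ⊥ := by
  rw [eq_bot_iff]
  intro z hz
  obtain ⟨p, hp, rfl⟩ := exists_homog_preimage k r 𝒩 τ hτ hτg n z hz
  rw [Groth.Agent.H77.eq_zero_of_mem_stdGr_of_neg hp hn, map_zero]
  exact Submodule.zero_mem _

include hτ hτg in
/-- generation in degree one: if a piece vanishes so does the next one -/
theorem piece_succ_eq_bot (d : ℤ) (hd : 0 ≤ d) (h : 𝒩 d = ⊥) : 𝒩 (d + 1) = ⊥ := by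
  rw [eq_bot_iff]
  intro z hz
  obtain ⟨p, hp, rfl⟩ := exists_homog_preimage k r 𝒩 τ hτ hτg (d + 1) z hz
  rw [Submodule.mem_bot]
  have hpI : p ∈ (GrSyz.irrel (GrSyz.stdGr k (Fin (r + 1)))).toIdeal :=
    Groth.Agent.H77.mem_irrel_of_mem_stdGr_of_pos hp (by omega)
  rw [Groth.Agent.H66.StdGrIrrel.irrel_stdGr_toIdeal] at hpI
  have key : ∀ a ∈ Ideal.span ((GrSyz.stdGr k (Fin (r + 1)) 1 :
      Submodule k (MvPolynomial (Fin (r + 1)) k)) : Set (MvPolynomial (Fin (r + 1)) k)),
      ∀ s : MvPolynomial (Fin (r + 1)) k,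
        τ (DirectSum.decompose (GrSyz.stdGr k (Fin (r + 1))) (s * a) (d + 1)) = 0 := by
    intro a ha
    induction ha using Submodule.span_induction with
    | mem x hx =>
      intro s
      rw [DirectSum.coe_decompose_mul_add_of_right_mem (GrSyz.stdGr k (Fin (r + 1))) hx,
        tau_mul]
      have h0 : τ (DirectSum.decompose (GrSyz.stdGr k (Fin (r + 1))) s d) ∈ 𝒩 d :=
        hτg d _ (SetLike.coe_mem _)
      rw [h, Submodule.mem_bot] at h0
      rw [h0, smul_zero]
    | zero =>
      intro s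
      rw [mul_zero, DirectSum.decompose_zero, DirectSum.zero_apply]
      simp
    | add x y _ _ hx hy =>
      intro s
      rw [mul_add, DirectSum.decompose_add, DirectSum.add_apply, Submodule.coe_add, map_add,
        hx s, hy s, add_zero]
    | smul t x _ hx =>
      intro s
      rw [smul_eq_mul, ← mul_assoc]
      exact hx (s * t)
  have h1 := key p hpI 1
  rw [one_mul, DirectSum.decompose_of_mem_same _ hp] at h1
  exact h1

include hτ hτg in
theorem piece_eq_bot_of_le (d : ℤ) (hd : 0 ≤ d) (h : 𝒩 d = ⊥) : ∀ j : ℤ, d ≤ j → 𝒩 j = ⊥ := by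
  intro j hj
  induction j, hj using Int.le_induction with
  | base => exact h
  | succ j hj ih => exact piece_succ_eq_bot k r 𝒩 τ hτ hτg j (by omega) ih

include hτ hτg in
/-- the piece of degree one is large if few linear forms are killed -/
theorem degree_one_bound (ys : List (MvPolynomial (Fin (r + 1)) k))
    (hK : ∀ x ∈ GrSyz.stdGr k (Fin (r + 1)) 1, τ x = 0 →
      x ∈ Submodule.span k {y | y ∈ ys}) :
    ((r + 1 : ℕ) : ℕ∞) ≤ Module.length k (𝒩 1) + (ys.length : ℕ∞) := by
  classical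
  have hset : {y | y ∈ ys} = ((ys.toFinset : Finset (MvPolynomial (Fin (r + 1)) k)) :
        Set (MvPolynomial (Fin (r + 1)) k)) := (List.coe_toFinset ys).symm
  rw [hset] at hK
  let L : ↥(GrSyz.stdGr k (Fin (r + 1)) 1) →ₗ[k] ↥(𝒩 1) :=
    (τ.restrictScalars k).restrict (fun x hx => hτg 1 x hx)
  have hL : Function.Surjective L := by
    rintro ⟨z, hz⟩
    obtain ⟨p, hp, hpz⟩ := exists_homog_preimage k r 𝒩 τ hτ hτg 1 z hz
    exact ⟨⟨p, hp⟩, Subtype.ext hpz⟩
  have hex : Function.Exact (LinearMap.ker L).subtype L := LinearMap.exact_subtype_ker_map L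
  have hadd : Module.length k ↥(GrSyz.stdGr k (Fin (r + 1)) 1) =
      Module.length k ↥(LinearMap.ker L) + Module.length k ↥(𝒩 1) :=
    Module.length_eq_add_of_exact _ _ (Submodule.injective_subtype (LinearMap.ker L)) hL hex
  have hS1 : Module.length k ↥(GrSyz.stdGr k (Fin (r + 1)) 1) = ((r + 1 : ℕ) : ℕ∞) := by
    rw [Module.length_eq_finrank, Groth.Agent.H77.finrank_stdGr]
    simp
  let V : Submodule k (MvPolynomial (Fin (r + 1)) k) :=
    Submodule.span k ((ys.toFinset : Finset (MvPolynomial (Fin (r + 1)) k)) :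
        Set (MvPolynomial (Fin (r + 1)) k))
  have hVlen : Module.length k V ≤ (ys.length : ℕ∞) := by
    rw [Module.length_eq_finrank]
    have h1 : Module.finrank k V ≤ ys.toFinset.card := finrank_span_finset_le_card ys.toFinset
    have h2 : Module.finrank k V ≤ ys.length := h1.trans (List.toFinset_card_le ys)
    exact_mod_cast h2
  let j : ↥(LinearMap.ker L) →ₗ[k] V :=
    LinearMap.codRestrict V ((GrSyz.stdGr k (Fin (r + 1)) 1).subtype ∘ₗ (LinearMap.ker L).subtype)
      (fun x => hK x.1.1 x.1.2 (by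
        have := x.2
        rw [LinearMap.mem_ker] at this
        exact congrArg Subtype.val this))
  have hj : Function.Injective j := by
    intro x y hxy
    have : ((j x : V) : MvPolynomial (Fin (r + 1)) k) = ((j y : V) : MvPolynomial (Fin (r + 1)) k) :=
      congrArg Subtype.val hxy
    exact Subtype.ext (Subtype.ext this)
  have hker : Module.length k ↥(LinearMap.ker L) ≤ (ys.length : ℕ∞) :=
    (Module.length_le_of_injective j hj).trans hVlen
  rw [← hS1, hadd, add_comm]
  exact add_le_add_right hker _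

include hτ hτg in
/-- the `k`-length of an Artinian cyclic graded module is at most its length -/
theorem length_le_length [IsArtinian (MvPolynomial (Fin (r + 1)) k) N] :
    Module.length k N ≤ Module.length (MvPolynomial (Fin (r + 1)) k) N := by
  have hpos : ∀ n : ℤ, n < 0 → ∀ p ∈ GrSyz.stdGr k (Fin (r + 1)) n, p = 0 :=
    fun n hn p hp => Groth.Agent.H98.GrStar.stdGr_neg k (Fin (r + 1)) n hn p hp
  have ha := Groth.Agent.H98.GrStar.irrel_toIdeal (GrSyz.stdGr k (Fin (r + 1)))
  let X : GrLC.GMod.{u} (GrSyz.stdGr k (Fin (r + 1))) :=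
    GrLC.GMod.of (GrSyz.stdGr k (Fin (r + 1))) N (Groth.Agent.H98.GrStar.asGr 𝒩)
  haveI : IsArtinian (MvPolynomial (Fin (r + 1)) k) X.carrier :=
    (inferInstance : IsArtinian (MvPolynomial (Fin (r + 1)) k) N)
  have hgam := Groth.Agent.H66.GrRegTorsion.gam_eq_top_of_isArtinian
    (GrSyz.irrel (GrSyz.stdGr k (Fin (r + 1)))) hpos ha X
  have hu : τ 1 ∈ GrLC.gam (GrSyz.irrel (GrSyz.stdGr k (Fin (r + 1)))).toIdeal N := by
    have : (τ 1 : X.carrier) ∈ GrLC.gam (GrSyz.irrel (GrSyz.stdGr k (Fin (r + 1)))).toIdeal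
        X.carrier := by
      rw [hgam]; trivial
    exact this
  obtain ⟨n, hn⟩ := hu
  refine Groth.Agent.H66.LengthRes.length_le_of_pow_killed
    (GrSyz.irrel (GrSyz.stdGr k (Fin (r + 1)))).toIdeal
    (fun s => ⟨constantCoeff s, sub_C_mem_irrel k (Fin (r + 1)) s⟩) n N ?_
  intro s hs x
  obtain ⟨p, rfl⟩ := hτ x
  have : τ p = p • τ 1 := by rw [← map_smul, smul_eq_mul, mul_one]
  rw [this, smul_comm, hn s hs, smul_zero]

include hτ hτg in
/-- the main count: a nonzero piece in degree `n` forces length at least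
`n + (r + 1 - #ys)` -/
theorem add_le_length [IsArtinian (MvPolynomial (Fin (r + 1)) k) N]
    (ys : List (MvPolynomial (Fin (r + 1)) k))
    (hK : ∀ x ∈ GrSyz.stdGr k (Fin (r + 1)) 1, τ x = 0 →
      x ∈ Submodule.span k {y | y ∈ ys})
    (n : ℤ) (hn : 𝒩 n ≠ ⊥) :
    ((n.toNat + (r + 1) : ℕ) : ℕ∞) ≤
      Module.length (MvPolynomial (Fin (r + 1)) k) N + (ys.length : ℕ∞) := by
  classical
  have hn0 : 0 ≤ n := by
    by_contra hcon
    exact hn (piece_eq_bot_of_neg k r 𝒩 τ hτ hτg n (by omega))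
  have hne : ∀ d : ℤ, 0 ≤ d → d ≤ n → 𝒩 d ≠ ⊥ := by
    intro d hd hdn hbot
    exact hn (piece_eq_bot_of_le k r 𝒩 τ hτ hτg d hd hbot n hdn)
  let J : Finset ℤ := insert 1 (Finset.Icc 0 n)
  have h1 := sum_length_le 𝒩 J
  have h2 := length_le_length k r 𝒩 τ hτ hτg
  have h3 := degree_one_bound k r 𝒩 τ hτ hτg ys hK
  have hJ1 : (1 : ℤ) ∈ J := Finset.mem_insert_self _ _
  rw [← Finset.add_sum_erase J _ hJ1] at h1
  have h4 : ((J.erase 1).card : ℕ∞) ≤ ∑ d ∈ J.erase 1, Module.length k (𝒩 d) := by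
    have := Finset.card_nsmul_le_sum (J.erase 1) (fun d => Module.length k (𝒩 d)) 1 (by
      intro d hd
      rw [Finset.mem_erase, Finset.mem_insert] at hd
      obtain ⟨hd1, hd2⟩ := hd
      rcases hd2 with hd2 | hd2
      · exact absurd hd2 hd1
      · rw [Finset.mem_Icc] at hd2
        have hnt : Nontrivial ↥(𝒩 d) := by
          rw [Submodule.nontrivial_iff_ne_bot]
          exact hne d hd2.1 hd2.2
        exact Order.one_le_iff_pos.2 Module.length_pos)
    simpa using this
  have h5 : n.toNat ≤ (J.erase 1).card := by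
    have e1 : J.erase 1 = (Finset.Icc 0 n).erase 1 := Finset.erase_insert_eq_erase _ _
    rw [e1]
    have := Finset.pred_card_le_card_erase (s := Finset.Icc 0 n) (a := (1 : ℤ))
    rw [Int.card_Icc] at this
    omega
  have h5' : ((n.toNat : ℕ) : ℕ∞) ≤ ((J.erase 1).card : ℕ∞) := by exact_mod_cast h5
  calc ((n.toNat + (r + 1) : ℕ) : ℕ∞) = ((n.toNat : ℕ) : ℕ∞) + ((r + 1 : ℕ) : ℕ∞) := by
        push_cast; rfl
    _ ≤ (∑ d ∈ J.erase 1, Module.length k (𝒩 d)) +
        (Module.length k (𝒩 1) + (ys.length : ℕ∞)) := add_le_add (h5'.trans h4) h3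
    _ = (Module.length k (𝒩 1) + ∑ d ∈ J.erase 1, Module.length k (𝒩 d)) +
        (ys.length : ℕ∞) := by
        rw [← add_assoc, add_comm (∑ d ∈ J.erase 1, Module.length k (𝒩 d))]
    _ ≤ Module.length (MvPolynomial (Fin (r + 1)) k) N + (ys.length : ℕ∞) :=
        add_le_add (h1.trans h2) le_rfl

end Cyclic

section LinearForms

variable (k : Type u) [Field k] (r : ℕ)
  {M : Type u} [AddCommGroup M] [Module k M] [Module (MvPolynomial (Fin (r + 1)) k) M]
  [IsScalarTower k (MvPolynomial (Fin (r + 1)) k) M]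
  (ℳ : ℤ → Submodule k M) [DirectSum.Decomposition ℳ]
  [SetLike.GradedSMul (GrSyz.stdGr k (Fin (r + 1))) ℳ]
  (π : MvPolynomial (Fin (r + 1)) k →ₗ[MvPolynomial (Fin (r + 1)) k] M)
  (hπ : Function.Surjective π) (hπg : GrLC.IsGrHom (GrSyz.stdGr k (Fin (r + 1))) ℳ π)
  (hlin : ∀ x : MvPolynomial (Fin (r + 1)) k, x ∈ GrSyz.stdGr k (Fin (r + 1)) 1 → π x = 0 → x = 0)
  (ys : List (MvPolynomial (Fin (r + 1)) k)) (hys : ∀ y ∈ ys, y ∈ GrSyz.stdGr k (Fin (r + 1)) 1)

include hys in
theorem decompose_one_mem_span (a : MvPolynomial (Fin (r + 1)) k) (ha : a ∈ Ideal.ofList ys) :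
    ∀ s : MvPolynomial (Fin (r + 1)) k,
      (DirectSum.decompose (GrSyz.stdGr k (Fin (r + 1))) (s * a) 1 :
        MvPolynomial (Fin (r + 1)) k) ∈ Submodule.span k {y | y ∈ ys} := by
  induction ha using Submodule.span_induction with
  | mem y hy =>
    intro s
    have h1 := DirectSum.coe_decompose_mul_add_of_right_mem (GrSyz.stdGr k (Fin (r + 1)))
      (i := 0) (a := s) (hys y hy)
    rw [zero_add] at h1
    rw [h1, Groth.Agent.H77.eq_C_of_mem_stdGr_of_nonpos
      (SetLike.coe_mem (DirectSum.decompose (GrSyz.stdGr k (Fin (r + 1))) s 0)) le_rfl,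
      MvPolynomial.C_mul']
    exact Submodule.smul_mem _ _ (Submodule.subset_span hy)
  | zero =>
    intro s
    rw [mul_zero, DirectSum.decompose_zero, DirectSum.zero_apply]
    exact Submodule.zero_mem _
  | add x y _ _ hx hy =>
    intro s
    rw [mul_add, DirectSum.decompose_add, DirectSum.add_apply, Submodule.coe_add]
    exact Submodule.add_mem _ (hx s) (hy s)
  | smul t x _ hx =>
    intro s
    rw [smul_eq_mul, ← mul_assoc]
    exact hx (s * t)

include hπ hπg hlin hys in
/-- a linear form mapping into `(ys) M` is a `k`-linear combination of the `ys` -/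
theorem mem_span_of_map_mem (x : MvPolynomial (Fin (r + 1)) k)
    (hx1 : x ∈ GrSyz.stdGr k (Fin (r + 1)) 1)
    (hx : π x ∈ Ideal.ofList ys • (⊤ : Submodule (MvPolynomial (Fin (r + 1)) k) M)) :
    x ∈ Submodule.span k {y | y ∈ ys} := by
  obtain ⟨a, ha, hax⟩ : ∃ a ∈ Ideal.ofList ys, π a = π x := by
    refine Submodule.smul_induction_on hx ?_ ?_
    · intro t ht m _
      obtain ⟨q, rfl⟩ := hπ m
      exact ⟨t * q, Ideal.mul_mem_right _ _ ht, by rw [← smul_eq_mul, map_smul]⟩
    · rintro _ _ ⟨a, ha, rfl⟩ ⟨b, hb, rfl⟩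
      exact ⟨a + b, Ideal.add_mem _ ha hb, map_add _ _ _⟩
  have hb : π (x - a) = 0 := by rw [map_sub, hax, sub_self]
  have hb1 : (DirectSum.decompose (GrSyz.stdGr k (Fin (r + 1))) (x - a) 1 :
      MvPolynomial (Fin (r + 1)) k) = 0 := by
    apply hlin _ (SetLike.coe_mem _)
    rw [← decompose_map (GrSyz.stdGr k (Fin (r + 1))) ℳ π hπg (x - a) 1, hb,
      DirectSum.decompose_zero, DirectSum.zero_apply]
    rfl
  rw [DirectSum.decompose_sub, DirectSum.sub_apply, AddSubgroupClass.coe_sub,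
    DirectSum.decompose_of_mem_same _ hx1, sub_eq_zero] at hb1
  rw [hb1]
  have := decompose_one_mem_span k r ys hys a ha 1
  rwa [one_mul] at this

end LinearForms

end Groth.Agent.H66.CyclicCount
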