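import Mathlib

/-!
# Weak approximation for finitely many distinct discrete valuation subrings of a field (helper66)
-/

set_option autoImplicit false

open IsDedekindDomain IsDedekindDomain.HeightOneSpectrum

namespace Groth.Agent.H66.DVRApprox

universe u

variable {K : Type u} [Field K]

/-- the real absolute value attached to a discrete valuation subring -/
noncomputable def abv (O : ValuationSubring K) [IsDiscreteValuationRing O] : AbsoluteValue K ℝ :=
  (IsDiscreteValuationRing.maximalIdeal O).adicAbv (K := K) (b := 2) (by norm_num)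

theorem abv_lt_iff (O : ValuationSubring K) [IsDiscreteValuationRing O] (x y : K) :
    abv O x < abv O y ↔
      (IsDiscreteValuationRing.maximalIdeal O).valuation K x <
        (IsDiscreteValuationRing.maximalIdeal O).valuation K y := by
  have hb : (1 : NNReal) < 2 := by norm_num
  change ((WithZeroMulInt.toNNReal (ne_zero_of_lt hb) _ : NNReal) : ℝ) <
    ((WithZeroMulInt.toNNReal (ne_zero_of_lt hb) _ : NNReal) : ℝ) ↔ _
  rw [NNReal.coe_lt_coe, (WithZeroMulInt.toNNReal_strictMono hb).lt_iff_lt]

theorem abv_le_one_iff (O : ValuationSubring K) [IsDiscreteValuationRing O] (x : K) :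
    abv O x ≤ 1 ↔ x ∈ O := by
  have hb : (1 : NNReal) < 2 := by norm_num
  constructor
  · intro h
    have h1 : (IsDiscreteValuationRing.maximalIdeal O).valuation K x ≤ 1 := by
      by_contra hlt
      rw [not_le] at hlt
      have : abv O 1 < abv O x := by
        rw [abv_lt_iff]; simpa using hlt
      rw [map_one] at this
      exact absurd h (not_le.mpr this)
    obtain ⟨a, rfl⟩ := IsDiscreteValuationRing.exists_lift_of_le_one h1
    exact a.2
  · intro hx
    exact (IsDiscreteValuationRing.maximalIdeal O).adicAbv_coe_le_one (K := K) hb ⟨x, hx⟩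

theorem abv_nontrivial (O : ValuationSubring K) [IsDiscreteValuationRing O] :
    (abv O).IsNontrivial := by
  have hb : (1 : NNReal) < 2 := by norm_num
  obtain ⟨ϖ, hϖ⟩ := IsDiscreteValuationRing.exists_irreducible O
  refine ⟨(ϖ : K), ?_, ?_⟩
  · intro h
    exact hϖ.ne_zero (Subtype.ext h)
  · have : abv O (algebraMap O K ϖ) < 1 := by
      rw [abv, adicAbv_coe_lt_one_iff]
      exact (IsLocalRing.mem_maximalIdeal _).mpr hϖ.not_isUnit
    exact ne_of_lt this

theorem main {r : ℕ} (O : Fin r → ValuationSubring K)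
    (hO : ∀ i, IsDiscreteValuationRing (O i)) (hinj : Function.Injective O)
    (fs : Fin r → K) (n : Fin r → ℤ) :
    ∃ f : K, ∀ i : Fin r, ∃ (ϖ : O i) (_ : Irreducible ϖ) (w : (O i)ˣ),
      f - fs i = ((w : O i) : K) * ((ϖ : K) ^ (n i)) := by
  classical
  haveI := hO
  choose ϖ hϖ using fun i => IsDiscreteValuationRing.exists_irreducible (O i)
  have hϖ0 : ∀ i, ((ϖ i : O i) : K) ≠ 0 := fun i h => (hϖ i).ne_zero (Subtype.ext h)
  let v : Fin r → AbsoluteValue K ℝ := fun i => abv (O i)
  have hnt : ∀ i, (v i).IsNontrivial := fun i => abv_nontrivial (O i)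
  have hne : Pairwise fun i j => ¬ (v i).IsEquiv (v j) := by
    intro i j hij heq
    apply hij
    apply hinj
    ext x
    rw [← abv_le_one_iff, ← abv_le_one_iff]
    exact heq.le_one_iff
  have hdense := AbsoluteValue.denseRange_algebraMap_pi hnt hne
  let z : (i : Fin r) → WithAbs (v i) :=
    fun i => WithAbs.toAbs (v i) (fs i + ((ϖ i : O i) : K) ^ (n i))
  let ε : Fin r → ℝ := fun i => v i (((ϖ i : O i) : K) ^ (n i))
  have hε : ∀ i, 0 < ε i := fun i => (v i).pos (zpow_ne_zero _ (hϖ0 i))
  obtain ⟨f, hf⟩ := hdense.exists_mem_open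
    (s := Set.pi Set.univ (fun i => Metric.ball (z i) (ε i)))
    (isOpen_set_pi Set.finite_univ (fun i _ => Metric.isOpen_ball))
    ⟨z, fun i _ => Metric.mem_ball_self (hε i)⟩
  refine ⟨f, fun i => ?_⟩
  have h1 := hf i (Set.mem_univ i)
  rw [Metric.mem_ball, dist_eq_norm] at h1
  have h2 : v i (f - (fs i + ((ϖ i : O i) : K) ^ (n i))) < v i (((ϖ i : O i) : K) ^ (n i)) := by
    have : (algebraMap K ((i : Fin r) → WithAbs (v i)) f) i - z i =
        WithAbs.toAbs (v i) (f - (fs i + ((ϖ i : O i) : K) ^ (n i))) := rfl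
    rw [this, WithAbs.norm_toAbs_eq] at h1
    exact h1
  rw [abv_lt_iff] at h2
  have h3 : (IsDiscreteValuationRing.maximalIdeal (O i)).valuation K (f - fs i) =
      (IsDiscreteValuationRing.maximalIdeal (O i)).valuation K (((ϖ i : O i) : K) ^ (n i)) := by
    have : f - fs i = (f - (fs i + ((ϖ i : O i) : K) ^ (n i))) + ((ϖ i : O i) : K) ^ (n i) := by
      ring
    rw [this]
    exact Valuation.map_add_eq_of_lt_right _ h2
  obtain ⟨u, hu⟩ := IsDiscreteValuationRing.associated_of_valuation_eq (A := O i)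
    (((ϖ i : O i) : K) ^ (n i)) (f - fs i) h3.symm
  refine ⟨ϖ i, hϖ i, u, ?_⟩
  rw [← hu]
  rfl

end Groth.Agent.H66.DVRApprox
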