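import Mathlib
import Groth.Agent.H22.DVRDom

/-!
# A DVR dominating a local UFD and identifying two coprime non-units up to a one-unit (helper66)
-/

set_option autoImplicit false

open Polynomial

namespace Groth.Agent.H66.DVRCoprime

variable {R : Type*} [CommRing R] [IsDomain R] [UniqueFactorizationMonoid R]

theorem isPrimitive_lin (a b : R) (hcop : IsRelPrime a b) :
    (C b * X - C a : R[X]).IsPrimitive := by
  rw [Polynomial.isPrimitive_iff_isUnit_of_C_dvd]
  intro r hr
  rw [Polynomial.C_dvd_iff_dvd_coeff] at hr
  have h1 := hr 1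
  have h0 := hr 0
  simp at h1 h0
  exact hcop h0 h1

theorem kernel_lemma {K : Type*} [Field K] [Algebra R K] [IsFractionRing R K]
    (a b : R) (hb : b ≠ 0) (hcop : IsRelPrime a b) (t : K)
    (ht : algebraMap R K b * t = algebraMap R K a)
    (g : R[X]) (hg : aeval t g = 0) : (C b * X - C a) ∣ g := by
  classical
  have hprim := isPrimitive_lin a b hcop
  have hb' : algebraMap R K b ≠ 0 := by
    rwa [Ne, FaithfulSMul.algebraMap_eq_zero_iff]
  have hmap : (C b * X - C a : R[X]).map (algebraMap R K) = C (algebraMap R K b) * (X - C t) := by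
    simp only [Polynomial.map_sub, Polynomial.map_mul, Polynomial.map_C, Polynomial.map_X]
    rw [mul_sub, ← C_mul, ht]
  have hroot : (X - C t) ∣ g.map (algebraMap R K) := by
    rw [Polynomial.dvd_iff_isRoot, Polynomial.IsRoot, Polynomial.eval_map, ← Polynomial.aeval_def]
    exact hg
  have h2 : (C b * X - C a : R[X]).map (algebraMap R K) ∣ g.map (algebraMap R K) := by
    rw [hmap]
    have hu : IsUnit (C (algebraMap R K b) : K[X]) := Polynomial.isUnit_C.mpr (IsUnit.mk0 _ hb')
    rw [hu.mul_left_dvd]
    exact hroot
  exact Polynomial.IsPrimitive.dvd_of_fraction_map_dvd_fraction_map (K := K) hprim h2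

end Groth.Agent.H66.DVRCoprime
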