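import Mathlib
import Groth.Agent.H66.DVRCoprime

/-!
# A DVR dominating a local UFD and identifying two coprime non-units up to a one-unit (helper66)
-/

set_option autoImplicit false

open Polynomial

namespace Groth.Agent.H66.DVRCoprime

universe u

theorem main (R : Type u) [CommRing R] [IsDomain R] [IsNoetherianRing R]
    [UniqueFactorizationMonoid R] [IsLocalRing R]
    (Δ₁ Δ₂ : R) (h₁ : ¬ IsUnit Δ₁) (h₂ : ¬ IsUnit Δ₂) (hcop : IsRelPrime Δ₁ Δ₂) :
    ∃ (A : Type u) (_ : CommRing A) (_ : IsDomain A) (_ : IsDiscreteValuationRing A) (f : R →+* A),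
      IsLocalHom f ∧ Function.Injective f ∧ ¬ IsUnit (f Δ₁) ∧
        ∃ u : Aˣ, (u : A) - 1 ∈ IsLocalRing.maximalIdeal A ∧ f Δ₁ = (u : A) * f Δ₂ := by
  classical
  let K := FractionRing R
  have hΔ₂0 : Δ₂ ≠ 0 := by
    rintro rfl
    exact h₁ (isRelPrime_zero_right.mp hcop)
  have hinjK : Function.Injective (algebraMap R K) := IsFractionRing.injective R K
  have hΔ₂K : algebraMap R K Δ₂ ≠ 0 := by
    rwa [Ne, FaithfulSMul.algebraMap_eq_zero_iff]
  let t : K := algebraMap R K Δ₁ / algebraMap R K Δ₂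
  have ht : algebraMap R K Δ₂ * t = algebraMap R K Δ₁ := mul_div_cancel₀ _ hΔ₂K
  -- the subalgebra R[t]
  let R₁ : Subalgebra R K := (aeval (R := R) t).range
  let π : R[X] →ₐ[R] R₁ := (aeval (R := R) t).rangeRestrict
  have hπsurj : Function.Surjective π := AlgHom.rangeRestrict_surjective _
  have hπval : ∀ g : R[X], ((π g : R₁) : K) = aeval t g := fun g => rfl
  haveI : Algebra.FiniteType R R₁ := Algebra.FiniteType.of_surjective π hπsurj
  haveI : IsNoetherianRing R₁ := Algebra.FiniteType.isNoetherianRing R R₁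
  -- evaluation at 1 modulo the maximal ideal
  let ev : R[X] →+* IsLocalRing.ResidueField R := eval₂RingHom (IsLocalRing.residue R) 1
  have hevC : ∀ a : R, ev (C a) = IsLocalRing.residue R a := fun a => eval₂_C _ _
  have hevX : ev X = 1 := eval₂_X _ _
  have hΔ₁m : IsLocalRing.residue R Δ₁ = 0 := by
    rw [IsLocalRing.residue_eq_zero_iff]; exact (IsLocalRing.mem_maximalIdeal _).mpr h₁
  have hΔ₂m : IsLocalRing.residue R Δ₂ = 0 := by
    rw [IsLocalRing.residue_eq_zero_iff]; exact (IsLocalRing.mem_maximalIdeal _).mpr h₂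
  have hker : RingHom.ker (π : R[X] →+* R₁) ≤ RingHom.ker ev := by
    intro g hg
    rw [RingHom.mem_ker] at hg ⊢
    have hg' : aeval t g = 0 := by
      rw [← hπval g]
      have : (π g : R₁) = 0 := hg
      rw [this]; rfl
    obtain ⟨q, rfl⟩ := kernel_lemma Δ₁ Δ₂ hΔ₂0 hcop t ht g hg'
    rw [map_mul, map_sub, map_mul, hevC, hevC, hΔ₁m, hΔ₂m]
    simp
  haveI : (RingHom.ker ev).IsPrime := RingHom.ker_isPrime ev
  let 𝔫 : Ideal R₁ := (RingHom.ker ev).map (π : R[X] →+* R₁)
  haveI h𝔫 : 𝔫.IsPrime := Ideal.map_isPrime_of_surjective (f := (π : R[X] →+* R₁)) hπsurj hker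
  have hm𝔫 : ∀ a ∈ IsLocalRing.maximalIdeal R, algebraMap R R₁ a ∈ 𝔫 := by
    intro a ha
    have : algebraMap R R₁ a = π (C a) := by
      rw [← Polynomial.algebraMap_eq, AlgHom.commutes]
    rw [this]
    apply Ideal.mem_map_of_mem
    rw [RingHom.mem_ker, hevC, IsLocalRing.residue_eq_zero_iff]
    exact ha
  have ht𝔫 : π X - 1 ∈ 𝔫 := by
    have : π X - 1 = π (X - 1) := by rw [map_sub, map_one]
    rw [this]
    apply Ideal.mem_map_of_mem
    rw [RingHom.mem_ker, map_sub, hevX, map_one, sub_self]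
  have hπX : ((π X : R₁) : K) = t := by rw [hπval, aeval_X]
  have h𝔫0 : 𝔫 ≠ ⊥ := by
    intro h
    have h1 := hm𝔫 Δ₂ ((IsLocalRing.mem_maximalIdeal _).mpr h₂)
    rw [h, Ideal.mem_bot] at h1
    have h2 : algebraMap R K Δ₂ = 0 := by
      have := congrArg (Subtype.val) h1
      simpa using this
    exact hΔ₂K h2
  haveI : FaithfulSMul R₁ K :=
    (faithfulSMul_iff_algebraMap_injective R₁ K).mpr Subtype.val_injective
  have hs : Subfield.closure (Set.range (algebraMap R₁ K) ∪ ((∅ : Finset K) : Set K)) = ⊤ := by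
    rw [eq_top_iff]
    intro x _
    obtain ⟨a, b, hb, rfl⟩ := IsFractionRing.div_surjective (A := R) x
    have ha' : algebraMap R K a ∈ Subfield.closure
        (Set.range (algebraMap R₁ K) ∪ ((∅ : Finset K) : Set K)) :=
      Subfield.subset_closure (Or.inl ⟨algebraMap R R₁ a, rfl⟩)
    have hb' : algebraMap R K b ∈ Subfield.closure
        (Set.range (algebraMap R₁ K) ∪ ((∅ : Finset K) : Set K)) :=
      Subfield.subset_closure (Or.inl ⟨algebraMap R R₁ b, rfl⟩)
    exact div_mem ha' hb'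
  obtain ⟨V, hV, hBV, hnV⟩ := Groth.Agent.H22.DVRDom.exists_dvr_of_prime 𝔫 h𝔫0 (L := K) ∅ hs
  have hRV : ∀ a : R, algebraMap R K a ∈ V := fun a => hBV (algebraMap R R₁ a)
  have hmV : ∀ a ∈ IsLocalRing.maximalIdeal R, V.valuation (algebraMap R K a) < 1 :=
    fun a ha => hnV _ (hm𝔫 a ha)
  let f : R →+* V := (algebraMap R K).codRestrict V hRV
  have hfval : ∀ a : R, ((f a : V) : K) = algebraMap R K a := fun a => rfl
  have hnonunit : ∀ a ∈ IsLocalRing.maximalIdeal R, ¬ IsUnit (f a) := by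
    intro a ha hu
    rw [ValuationSubring.valuation_eq_one_iff] at hu
    have := hmV a ha
    rw [← hfval, hu] at this
    exact lt_irrefl _ this
  have htV : t ∈ V := by
    have := hBV (π X)
    rwa [show algebraMap R₁ K (π X) = t from hπX] at this
  have htV1 : V.valuation (t - 1) < 1 := by
    have := hnV _ ht𝔫
    rwa [show algebraMap R₁ K (π X - 1) = t - 1 by
      rw [map_sub, map_one]; exact congrArg (· - 1) hπX] at this
  let tV : V := ⟨t, htV⟩
  have htV1' : tV - 1 ∈ IsLocalRing.maximalIdeal V := by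
    rw [ValuationSubring.valuation_lt_one_iff]
    exact htV1
  have htVu : IsUnit tV := by
    by_contra hnu
    have h1 : tV ∈ IsLocalRing.maximalIdeal V := (IsLocalRing.mem_maximalIdeal _).mpr hnu
    have h2 : (1 : V) ∈ IsLocalRing.maximalIdeal V := by
      have := (IsLocalRing.maximalIdeal V).sub_mem h1 htV1'
      simpa using this
    exact (IsLocalRing.maximalIdeal.isMaximal V).ne_top ((Ideal.eq_top_iff_one _).mpr h2)
  refine ⟨V, inferInstance, inferInstance, hV, f, ⟨fun a hu => ?_⟩, ?_, ?_, htVu.unit, ?_, ?_⟩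
  · by_contra hna
    exact hnonunit a ((IsLocalRing.mem_maximalIdeal _).mpr hna) hu
  · intro a b hab
    apply hinjK
    rw [← hfval, ← hfval, hab]
  · exact hnonunit Δ₁ ((IsLocalRing.mem_maximalIdeal _).mpr h₁)
  · exact htV1'
  · apply Subtype.ext
    change algebraMap R K Δ₁ = t * algebraMap R K Δ₂
    rw [← ht, mul_comm]

end Groth.Agent.H66.DVRCoprime
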