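import Mathlib
import Groth.Agent.H74.ExtPowBC

/-!
# Top exterior power of a stably free module

If `Q × B^r ≃ B^(d+r)` then `⋀^d Q ≃ B`.
-/

set_option autoImplicit false
universe u v

open scoped TensorProduct

namespace Groth.Agent.H66.DetSplit

section Alt

variable {B : Type u} [CommRing B] {Q : Type v} [AddCommGroup Q] [Module B Q]
variable {d r : ℕ}

/-- the rows of the matrix: the `q i` first, then the fixed vectors -/
def rows {V : Type*} (v : Fin d → V) (c : Fin r → V) : Fin d ⊕ Fin r → V := Sum.elim v c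

theorem rows_update {V : Type*} (v : Fin d → V) (c : Fin r → V) (i : Fin d) (x : V) :
    rows (Function.update v i x) c = Function.update (rows v c) (Sum.inl i) x := by
  unfold rows
  exact (Sum.update_elim_inl).symm

/-- the alternating map `q ↦ det (L q_1, …, L q_d, c_1, …, c_r)` -/
noncomputable def detAlt (L : Q →ₗ[B] (Fin d ⊕ Fin r → B)) (c : Fin r → (Fin d ⊕ Fin r → B)) :
    Q [⋀^Fin d]→ₗ[B] B where
  toFun q := Matrix.det (Matrix.of (rows (fun i => L (q i)) c))
  map_update_add' := by
    intro inst q i x y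
    obtain rfl : inst = instDecidableEqFin d := Subsingleton.elim _ _
    have h : ∀ z : Q, (fun j => L (Function.update q i z j)) = Function.update (fun j => L (q j)) i (L z) := by
      intro z
      funext j
      by_cases hj : j = i
      · subst hj; simp
      · simp [Function.update_of_ne hj]
    rw [h, h, h, rows_update, rows_update, rows_update, map_add]
    exact Matrix.det_updateRow_add (Matrix.of (rows (fun j => L (q j)) c)) (Sum.inl i) (L x) (L y)
  map_update_smul' := by
    intro inst q i s x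
    obtain rfl : inst = instDecidableEqFin d := Subsingleton.elim _ _
    have h : ∀ z : Q, (fun j => L (Function.update q i z j)) = Function.update (fun j => L (q j)) i (L z) := by
      intro z
      funext j
      by_cases hj : j = i
      · subst hj; simp
      · simp [Function.update_of_ne hj]
    rw [h, h, rows_update, rows_update, map_smul]
    exact Matrix.det_updateRow_smul (Matrix.of (rows (fun j => L (q j)) c)) (Sum.inl i) s (L x)
  map_eq_zero_of_eq' := by
    intro q i j hij hne
    refine Matrix.det_zero_of_row_eq (i := Sum.inl i) (j := Sum.inl j) (fun h => hne (Sum.inl_injective h)) ?_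
    change L (q i) = L (q j)
    rw [hij]

theorem detAlt_apply (L : Q →ₗ[B] (Fin d ⊕ Fin r → B)) (c : Fin r → (Fin d ⊕ Fin r → B))
    (q : Fin d → Q) : detAlt L c q = Matrix.det (Matrix.of (rows (fun i => L (q i)) c)) := rfl

end Alt

section Surj

variable {B : Type u} [CommRing B] {Q : Type v} [AddCommGroup Q] [Module B Q]
variable {d r : ℕ}
variable (θ : (Q × (Fin r → B)) ≃ₗ[B] (Fin d ⊕ Fin r → B))

/-- the first block of `θ` -/
noncomputable def Lmap : Q →ₗ[B] (Fin d ⊕ Fin r → B) := θ.toLinearMap ∘ₗ LinearMap.inl B Q (Fin r → B)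

/-- the fixed vectors -/
noncomputable def cvec (j : Fin r) : Fin d ⊕ Fin r → B := θ (0, Pi.single j 1)

theorem theta_eq (q : Q) (b : Fin r → B) : θ (q, b) = Lmap θ q + ∑ j, b j • cvec θ j := by
  classical
  have h1 : (q, b) = (q, (0 : Fin r → B)) + ∑ j, b j • ((0 : Q), (Pi.single j 1 : Fin r → B)) := by
    ext
    · simp [Prod.fst_sum]
    · simp [Prod.snd_sum, Finset.sum_apply, Pi.single_apply]
  conv_lhs => rw [h1]
  rw [map_add, map_sum]
  simp only [map_smul]
  rfl

variable (κ : Type*) [Field κ] [Algebra B κ]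

/-- reduction to the field `κ` -/
noncomputable def red : (Fin d ⊕ Fin r → B) →ₗ[B] (Fin d ⊕ Fin r → κ) :=
  LinearMap.compLeft (Algebra.linearMap B κ) (Fin d ⊕ Fin r)

theorem red_apply (v : Fin d ⊕ Fin r → B) (s : Fin d ⊕ Fin r) :
    red (d := d) (r := r) κ v s = algebraMap B κ (v s) := rfl

theorem red_surjective (hκ : Function.Surjective (algebraMap B κ)) :
    Function.Surjective (red (B := B) (d := d) (r := r) κ) := by
  intro v
  choose v' hv' using fun s => hκ (v s)
  exact ⟨v', funext hv'⟩

theorem red_smul (b : B) (v : Fin d ⊕ Fin r → B) :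
    red (d := d) (r := r) κ (b • v) = (algebraMap B κ b) • red κ v := by
  funext s
  simp [red_apply]

/-- if all coordinates of `v` die in `κ`, so do those of the second component of `θ⁻¹ v` -/
theorem snd_symm_mem (v : Fin d ⊕ Fin r → B) (hv : ∀ s, algebraMap B κ (v s) = 0) (j : Fin r) :
    algebraMap B κ ((θ.symm v).2 j) = 0 := by
  classical
  have h1 : v = ∑ s, v s • (Pi.single s 1 : Fin d ⊕ Fin r → B) := by
    funext t
    simp [Finset.sum_apply, Pi.single_apply]
  rw [h1, map_sum, Prod.snd_sum, Finset.sum_apply, map_sum]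
  refine Finset.sum_eq_zero (fun s _ => ?_)
  rw [map_smul, Prod.smul_snd, Pi.smul_apply, smul_eq_mul, map_mul, hv s, zero_mul]

theorem linearIndependent_w (hκ : Function.Surjective (algebraMap B κ)) :
    LinearIndependent κ (fun j => red κ (cvec θ j)) := by
  classical
  rw [Fintype.linearIndependent_iff]
  intro g hg j
  choose b hb using fun j => hκ (g j)
  have h1 : red κ (θ ((0 : Q), b)) = 0 := by
    rw [theta_eq, map_zero, zero_add, map_sum, ← hg]
    refine Finset.sum_congr rfl (fun j _ => ?_)
    rw [red_smul, hb]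
  have h2 : ∀ s, algebraMap B κ (θ ((0 : Q), b) s) = 0 := by
    intro s
    have := congrFun h1 s
    rwa [red_apply] at this
  have h3 := snd_symm_mem θ κ _ h2 j
  rw [LinearEquiv.symm_apply_apply] at h3
  rw [← hb j]
  exact h3

/-- for each residue field there is a tuple with nonzero `detAlt` -/
theorem exists_detAlt_ne_zero (hκ : Function.Surjective (algebraMap B κ)) :
    ∃ q : Fin d → Q, algebraMap B κ (detAlt (Lmap θ) (cvec θ) q) ≠ 0 := by
  classical
  let V := (Fin d ⊕ Fin r → κ)
  let w : Fin r → V := fun j => red κ (cvec θ j)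
  have hwli : LinearIndependent κ w := linearIndependent_w θ κ hκ
  let W : Submodule κ V := Submodule.span κ (Set.range w)
  have hWdim : Module.finrank κ W = r := by
    rw [finrank_span_eq_card hwli, Fintype.card_fin]
  have hVdim : Module.finrank κ V = d + r := by
    rw [Module.finrank_fintype_fun_eq_card, Fintype.card_sum, Fintype.card_fin, Fintype.card_fin]
  have hquot : Module.finrank κ (V ⧸ W) = d := by
    have := Submodule.finrank_quotient_add_finrank W
    omega
  -- the map `Q → V ⧸ W` is surjective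
  have hT : ∀ y : V ⧸ W, ∃ x : Q, W.mkQ (red κ (Lmap θ x)) = y := by
    intro y
    obtain ⟨v, rfl⟩ := W.mkQ_surjective y
    obtain ⟨v', rfl⟩ := red_surjective (d := d) (r := r) κ hκ v
    obtain ⟨⟨x, b⟩, rfl⟩ := θ.surjective v'
    refine ⟨x, ?_⟩
    rw [theta_eq, map_add, map_add, map_sum]
    have : W.mkQ (∑ j, red κ (b j • cvec θ j)) = 0 := by
      rw [Submodule.mkQ_apply, Submodule.Quotient.mk_eq_zero]
      refine Submodule.sum_mem _ (fun j _ => ?_)
      rw [red_smul]
      exact Submodule.smul_mem _ _ (Submodule.subset_span ⟨j, rfl⟩)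
    rw [this, add_zero]
  let β : Module.Basis (Fin d) κ (V ⧸ W) := Module.finBasisOfFinrankEq κ (V ⧸ W) hquot
  choose q hq using fun i => hT (β i)
  refine ⟨q, ?_⟩
  let u : Fin d → V := fun i => red κ (Lmap θ (q i))
  have huli : LinearIndependent κ u := by
    have : LinearIndependent κ (W.mkQ ∘ u) := by
      have h : W.mkQ ∘ u = β := funext hq
      rw [h]
      exact β.linearIndependent
    exact LinearIndependent.of_comp W.mkQ this
  have hdisj : Disjoint (Submodule.span κ (Set.range u)) (Submodule.span κ (Set.range w)) := by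
    rw [Submodule.disjoint_def]
    intro x hxu hxw
    obtain ⟨g, rfl⟩ := (Submodule.mem_span_range_iff_exists_fun κ).mp hxu
    have h0 : W.mkQ (∑ i, g i • u i) = 0 := by
      rw [Submodule.mkQ_apply, Submodule.Quotient.mk_eq_zero]
      exact hxw
    rw [map_sum] at h0
    simp only [map_smul] at h0
    have h1 : ∑ i, g i • β i = 0 := by
      rw [← h0]
      exact Finset.sum_congr rfl (fun i _ => by rw [← hq i])
    have h2 := Fintype.linearIndependent_iff.mp β.linearIndependent g h1
    simp [h2]
  have hli : LinearIndependent κ (Sum.elim u w) := LinearIndependent.sum_type huli hwli hdisj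
  have hunit : IsUnit (Matrix.of (Sum.elim u w) : Matrix (Fin d ⊕ Fin r) (Fin d ⊕ Fin r) κ) :=
    Matrix.linearIndependent_rows_iff_isUnit.mp hli
  have hdet : (Matrix.of (Sum.elim u w) : Matrix (Fin d ⊕ Fin r) (Fin d ⊕ Fin r) κ).det ≠ 0 :=
    ((Matrix.isUnit_iff_isUnit_det _).mp hunit).ne_zero
  intro hmem
  apply hdet
  have hmap : (Matrix.of (Sum.elim u w) : Matrix (Fin d ⊕ Fin r) (Fin d ⊕ Fin r) κ) =
      (algebraMap B κ).mapMatrix (Matrix.of (rows (fun i => Lmap θ (q i)) (cvec θ))) := by
    ext s t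
    rcases s with i | j <;> rfl
  rw [hmap, ← RingHom.map_det, ← detAlt_apply]
  exact hmem

end Surj

section Main

variable {B : Type u} [CommRing B] {Q : Type v} [AddCommGroup Q] [Module B Q]
variable {d r : ℕ}
variable (θ : (Q × (Fin r → B)) ≃ₗ[B] (Fin d ⊕ Fin r → B))

/-- the determinant map `⋀^d Q → B` -/
noncomputable def Phi : ⋀[B]^d Q →ₗ[B] B :=
  exteriorPower.alternatingMapLinearEquiv (detAlt (Lmap θ) (cvec θ))

theorem Phi_ιMulti (q : Fin d → Q) :
    Phi θ (exteriorPower.ιMulti B d q) = detAlt (Lmap θ) (cvec θ) q :=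
  exteriorPower.alternatingMapLinearEquiv_apply_ιMulti _ _

theorem Phi_surjective : Function.Surjective (Phi θ) := by
  have h : (LinearMap.range (Phi θ) : Ideal B) = ⊤ := by
    by_contra h
    obtain ⟨m, hm, hle⟩ := Ideal.exists_le_maximal (LinearMap.range (Phi θ) : Ideal B) h
    haveI := hm
    obtain ⟨q, hq⟩ := exists_detAlt_ne_zero θ m.ResidueField
      (Ideal.algebraMap_residueField_surjective m)
    apply hq
    rw [Ideal.algebraMap_residueField_eq_zero]
    exact hle ⟨_, Phi_ιMulti θ q⟩
  exact LinearMap.range_eq_top.mp h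

include θ in
theorem finite_Q : Module.Finite B Q :=
  Module.Finite.of_surjective ((LinearMap.fst B Q (Fin r → B)) ∘ₗ θ.symm.toLinearMap)
    (fun q => ⟨θ (q, 0), by simp⟩)

include θ in
theorem finrank_tensor (K : Type u) [Field K] [Algebra B K] :
    Module.finrank K (K ⊗[B] Q) = d := by
  haveI := finite_Q θ
  haveI : Nontrivial B := RingHom.domain_nontrivial (algebraMap B K)
  have e1 : ((K ⊗[B] Q) × (K ⊗[B] (Fin r → B))) ≃ₗ[K] K ⊗[B] (Fin d ⊕ Fin r → B) :=
    (TensorProduct.prodRight B K K Q (Fin r → B)).symm ≪≫ₗ LinearEquiv.baseChange B K _ _ θ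
  have h := e1.finrank_eq
  rw [Module.finrank_prod, Module.finrank_baseChange (R := K) (S := B) (M' := Fin r → B),
    Module.finrank_baseChange (R := K) (S := B) (M' := Fin d ⊕ Fin r → B),
    Module.finrank_fintype_fun_eq_card, Module.finrank_fintype_fun_eq_card, Fintype.card_sum,
    Fintype.card_fin, Fintype.card_fin] at h
  omega

include θ in
theorem finrank_tensor_extPow (K : Type u) [Field K] [Algebra B K] :
    Module.finrank K (K ⊗[B] ⋀[B]^d Q) = 1 := by
  haveI := finite_Q θ
  have e2 : (K ⊗[B] ⋀[B]^d Q) ≃ₗ[K] ⋀[K]^d (K ⊗[B] Q) :=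
    LinearEquiv.ofBijective (Groth.Agent.H74.ExtPowBC.powBC B K Q d)
      (Groth.Agent.H74.ExtPowBC.powBC_bijective B K Q d)
  rw [e2.finrank_eq, exteriorPower.finrank_eq, finrank_tensor θ K, Nat.choose_self]

theorem Phi_injective : Function.Injective (Phi θ) := by
  haveI := finite_Q θ
  obtain ⟨x₀, hx₀⟩ := Phi_surjective θ 1
  -- the retraction onto the kernel
  let π : (⋀[B]^d Q) →ₗ[B] LinearMap.ker (Phi θ) :=
    LinearMap.codRestrict (LinearMap.ker (Phi θ))
      (LinearMap.id - (LinearMap.toSpanSingleton B (⋀[B]^d Q) x₀) ∘ₗ (Phi θ)) (by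
      intro x
      rw [LinearMap.mem_ker]
      simp [hx₀])
  have hπ : ∀ x, ((π x : LinearMap.ker (Phi θ)) : ⋀[B]^d Q) = x - Phi θ x • x₀ := fun x => rfl
  let E : (⋀[B]^d Q) ≃ₗ[B] (B × LinearMap.ker (Phi θ)) :=
    { toFun := fun x => (Phi θ x, π x)
      map_add' := fun x y => by simp
      map_smul' := fun b x => by simp
      invFun := fun bn => bn.1 • x₀ + (bn.2 : ⋀[B]^d Q)
      left_inv := fun x => by
        change Phi θ x • x₀ + ((π x : LinearMap.ker (Phi θ)) : ⋀[B]^d Q) = x
        rw [hπ]; abel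
      right_inv := fun bn => by
        obtain ⟨b, n⟩ := bn
        have hn : Phi θ (n : ⋀[B]^d Q) = 0 := n.2
        refine Prod.ext ?_ (Subtype.ext ?_)
        · simp [hx₀, hn]
        · change ((π (b • x₀ + (n : ⋀[B]^d Q)) : LinearMap.ker (Phi θ)) : ⋀[B]^d Q) = n
          rw [hπ, map_add, map_smul, hx₀, hn]
          simp }
  haveI : Module.Finite B (LinearMap.ker (Phi θ)) :=
    Module.Finite.of_surjective ((LinearMap.snd B B (LinearMap.ker (Phi θ))) ∘ₗ E.toLinearMap)
      (fun n => ⟨E.symm (0, n), by simp⟩)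
  have hsub : Subsingleton (LinearMap.ker (Phi θ)) := by
    rw [← Module.support_eq_empty_iff (R := B)]
    rw [Set.eq_empty_iff_forall_notMem]
    intro p hp
    rw [Module.mem_support_iff_nontrivial_residueField_tensorProduct] at hp
    let K := p.asIdeal.ResidueField
    haveI : Nontrivial B := RingHom.domain_nontrivial (algebraMap B K)
    have e3 : (K ⊗[B] ⋀[B]^d Q) ≃ₗ[K] (K ⊗[B] B) × (K ⊗[B] LinearMap.ker (Phi θ)) :=
      LinearEquiv.baseChange B K _ _ E ≪≫ₗ TensorProduct.prodRight B K K B (LinearMap.ker (Phi θ))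
    have h := e3.finrank_eq
    rw [finrank_tensor_extPow θ K, Module.finrank_prod,
      Module.finrank_baseChange (R := K) (S := B) (M' := B), Module.finrank_self] at h
    have h0 : Module.finrank K (K ⊗[B] LinearMap.ker (Phi θ)) = 0 := by omega
    rw [Module.finrank_zero_iff] at h0
    exact not_subsingleton _ h0
  rw [← LinearMap.ker_eq_bot]
  rw [Submodule.eq_bot_iff]
  intro x hx
  have := Subsingleton.elim (⟨x, hx⟩ : LinearMap.ker (Phi θ)) 0
  exact congrArg Subtype.val this

include θ in
/-- **Lemma K**: if `Q × B^r ≃ B^(d+r)` then `⋀^d Q ≃ B`. -/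
theorem nonempty_extPow_equiv : Nonempty (⋀[B]^d Q ≃ₗ[B] B) :=
  ⟨LinearEquiv.ofBijective (Phi θ) ⟨Phi_injective θ, Phi_surjective θ⟩⟩

end Main

end Groth.Agent.H66.DetSplit
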