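import Mathlib
import Groth.Agent.H66.DetSplit
import Groth.Agent.H19.QuasiRegCot

/-!
# `(⋀^r I/I²)^∨ ⊗ (B ⊗ ⋀^n Ω_P) ≃ ⋀^(n-r) Ω_B` for a smooth complete intersection `B = P/I`
-/

set_option autoImplicit false
universe u v

open scoped TensorProduct

namespace Groth.Agent.H66.DetCotangent

/-- the top exterior power of a free module with a basis indexed by `Fin m` is free of rank one -/
theorem nonempty_top_equiv {R : Type*} {M : Type*} [CommRing R] [AddCommGroup M] [Module R M] (m : ℕ)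
    (b : Module.Basis (Fin m) R M) : Nonempty (⋀[R]^m M ≃ₗ[R] R) := by
  classical
  let b' := b.exteriorPower (n := m)
  haveI : Unique (Set.powersetCard (Fin m) m) :=
    { default := ⟨Finset.univ, by simp [Set.powersetCard]⟩
      uniq := fun s => Subtype.ext (Finset.eq_univ_of_card _ (by
        have := s.2
        simpa [Set.powersetCard] using this)) }
  exact ⟨b'.repr ≪≫ₗ Finsupp.LinearEquiv.finsuppUnique R R _⟩

/-- general version of Lemma K with target `Fin n → B` -/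
theorem nonempty_extPow_equiv' {B : Type u} [CommRing B] {Q : Type v} [AddCommGroup Q] [Module B Q]
    {n r : ℕ} (hrn : r ≤ n) (θ : (Q × (Fin r → B)) ≃ₗ[B] (Fin n → B)) :
    Nonempty (⋀[B]^(n - r) Q ≃ₗ[B] B) := by
  have hn : n - r + r = n := Nat.sub_add_cancel hrn
  let e : (Fin (n - r) ⊕ Fin r) ≃ Fin n := finSumFinEquiv.trans (finCongr hn)
  exact DetSplit.nonempty_extPow_equiv (θ ≪≫ₗ LinearEquiv.funCongrLeft B B e)

/-- transport of cotangent spaces along an equality of ideals -/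
theorem nonempty_cotangent_equiv {P : Type u} [CommRing P] (J I : Ideal P) (h : J = I) :
    Nonempty (J.Cotangent ≃ₗ[P] I.Cotangent) := by
  subst h
  exact ⟨LinearEquiv.refl _ _⟩

section Main

open KaehlerDifferential

variable (A : Type u) [CommRing A] (n r : ℕ) (hrn : r ≤ n)
variable (F : Fin r → MvPolynomial (Fin n) A)
variable (hreg : RingTheory.Sequence.IsWeaklyRegular (MvPolynomial (Fin n) A) (List.ofFn F))
variable (I : Ideal (MvPolynomial (Fin n) A)) (hI : I = Ideal.span (Set.range F))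

include hreg hI in
/-- the conormal module of a regular sequence is free -/
theorem nonempty_cotangent_basis :
    Nonempty (Module.Basis (Fin r) (MvPolynomial (Fin n) A ⧸ I) I.Cotangent) := by
  have hmem : ∀ i, F i ∈ I := fun i => by rw [hI]; exact Ideal.subset_span ⟨i, rfl⟩
  let f' : Fin r → I := fun i => ⟨F i, hmem i⟩
  have hq : Groth.Agent.H19.QReg.QR (fun i => (f' i : MvPolynomial (Fin n) A)) :=
    Groth.Agent.H19.QReg.isQuasiRegular_of_isWeaklyRegular F hreg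
  have hspan : Ideal.span (Set.range fun i => (f' i : MvPolynomial (Fin n) A)) = I := hI.symm
  obtain ⟨hli, hsp⟩ := Groth.Agent.H19.QRegCot.forward I f' hq hspan
  exact ⟨Module.Basis.mk hli hsp.ge⟩

include hrn hreg hI in
/-- the stable freeness of `Ω_{B/A}` -/
theorem nonempty_theta [Algebra.FormallySmooth A (MvPolynomial (Fin n) A ⧸ I)] :
    Nonempty ((Ω[(MvPolynomial (Fin n) A ⧸ I)⁄A] × (Fin r → (MvPolynomial (Fin n) A ⧸ I)))
      ≃ₗ[MvPolynomial (Fin n) A ⧸ I] (Fin n → (MvPolynomial (Fin n) A ⧸ I))) := by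
  classical
  obtain ⟨bC⟩ := nonempty_cotangent_basis A n r F hreg I hI
  have hsurj : Function.Surjective (algebraMap (MvPolynomial (Fin n) A) (MvPolynomial (Fin n) A ⧸ I)) :=
    Ideal.Quotient.mk_surjective
  obtain ⟨l, hl⟩ := (Algebra.FormallySmooth.iff_split_injection (R := A)
    (P := MvPolynomial (Fin n) A) (A := MvPolynomial (Fin n) A ⧸ I) hsurj).mp inferInstance
  have hex := KaehlerDifferential.exact_kerCotangentToTensor_mapBaseChange A
    (MvPolynomial (Fin n) A) (MvPolynomial (Fin n) A ⧸ I) hsurj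
  have hg := KaehlerDifferential.mapBaseChange_surjective A
    (MvPolynomial (Fin n) A) (MvPolynomial (Fin n) A ⧸ I) hsurj
  -- the splitting
  have hex' : Function.Exact (kerCotangentToTensor A (MvPolynomial (Fin n) A) (MvPolynomial (Fin n) A ⧸ I))
      ((KaehlerDifferential.mapBaseChange A (MvPolynomial (Fin n) A)
        (MvPolynomial (Fin n) A ⧸ I)).restrictScalars (MvPolynomial (Fin n) A)) := hex
  obtain ⟨e, -, -⟩ := hex'.splitInjectiveEquiv hg ⟨l, hl⟩
  -- the kernel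
  have hker : RingHom.ker (algebraMap (MvPolynomial (Fin n) A) (MvPolynomial (Fin n) A ⧸ I)) = I :=
    Ideal.mk_ker
  obtain ⟨eK⟩ := nonempty_cotangent_equiv _ _ hker
  -- the middle term
  let bT : Module.Basis (Fin n) (MvPolynomial (Fin n) A ⧸ I)
      ((MvPolynomial (Fin n) A ⧸ I) ⊗[MvPolynomial (Fin n) A] Ω[MvPolynomial (Fin n) A⁄A]) :=
    (KaehlerDifferential.mvPolynomialBasis A (Fin n)).baseChange (MvPolynomial (Fin n) A ⧸ I)
  let e1 : (Fin n → (MvPolynomial (Fin n) A ⧸ I)) ≃ₗ[MvPolynomial (Fin n) A]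
      ((MvPolynomial (Fin n) A ⧸ I) ⊗[MvPolynomial (Fin n) A] Ω[MvPolynomial (Fin n) A⁄A]) :=
    (bT.equivFun.restrictScalars (MvPolynomial (Fin n) A)).symm
  let e2 : I.Cotangent ≃ₗ[MvPolynomial (Fin n) A] (Fin r → (MvPolynomial (Fin n) A ⧸ I)) :=
    bC.equivFun.restrictScalars (MvPolynomial (Fin n) A)
  let e3 : (Fin n → (MvPolynomial (Fin n) A ⧸ I)) ≃ₗ[MvPolynomial (Fin n) A]
      (Ω[(MvPolynomial (Fin n) A ⧸ I)⁄A] × (Fin r → (MvPolynomial (Fin n) A ⧸ I))) :=
    e1 ≪≫ₗ e ≪≫ₗ (LinearEquiv.prodCongr (eK ≪≫ₗ e2) (LinearEquiv.refl _ _)) ≪≫ₗ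
      LinearEquiv.prodComm _ _ _
  exact ⟨(e3.extendScalarsOfSurjective hsurj).symm⟩

include hrn hreg hI in
/-- the main theorem -/
theorem main [Algebra.FormallySmooth A (MvPolynomial (Fin n) A ⧸ I)] :
    Nonempty ((Module.Dual (MvPolynomial (Fin n) A ⧸ I) (⋀[MvPolynomial (Fin n) A ⧸ I]^r I.Cotangent))
        ⊗[MvPolynomial (Fin n) A ⧸ I]
        ((MvPolynomial (Fin n) A ⧸ I) ⊗[MvPolynomial (Fin n) A]
          (⋀[MvPolynomial (Fin n) A]^n (Ω[MvPolynomial (Fin n) A⁄A])))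
      ≃ₗ[MvPolynomial (Fin n) A ⧸ I]
        (⋀[MvPolynomial (Fin n) A ⧸ I]^(n - r) (Ω[(MvPolynomial (Fin n) A ⧸ I)⁄A]))) := by
  obtain ⟨bC⟩ := nonempty_cotangent_basis A n r F hreg I hI
  obtain ⟨eC⟩ := nonempty_top_equiv r bC
  let eD : Module.Dual (MvPolynomial (Fin n) A ⧸ I) (⋀[MvPolynomial (Fin n) A ⧸ I]^r I.Cotangent)
      ≃ₗ[MvPolynomial (Fin n) A ⧸ I] (MvPolynomial (Fin n) A ⧸ I) :=
    eC.symm.dualMap ≪≫ₗ LinearMap.ringLmapEquivSelf (MvPolynomial (Fin n) A ⧸ I)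
      (MvPolynomial (Fin n) A ⧸ I) (MvPolynomial (Fin n) A ⧸ I)
  obtain ⟨eP⟩ := nonempty_top_equiv n (KaehlerDifferential.mvPolynomialBasis A (Fin n))
  let eT : ((MvPolynomial (Fin n) A ⧸ I) ⊗[MvPolynomial (Fin n) A]
        (⋀[MvPolynomial (Fin n) A]^n (Ω[MvPolynomial (Fin n) A⁄A])))
      ≃ₗ[MvPolynomial (Fin n) A ⧸ I] (MvPolynomial (Fin n) A ⧸ I) :=
    TensorProduct.AlgebraTensorModule.congr (LinearEquiv.refl _ _) eP ≪≫ₗ
      TensorProduct.AlgebraTensorModule.rid (MvPolynomial (Fin n) A) (MvPolynomial (Fin n) A ⧸ I)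
        (MvPolynomial (Fin n) A ⧸ I)
  obtain ⟨θ⟩ := nonempty_theta A n r hrn F hreg I hI
  obtain ⟨eR⟩ := nonempty_extPow_equiv' hrn θ
  exact ⟨TensorProduct.congr eD eT ≪≫ₗ TensorProduct.lid _ _ ≪≫ₗ eR.symm⟩

end Main

end Groth.Agent.H66.DetCotangent
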