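import Mathlib
import Groth.Agent.H66.ExtPowRank

/-!
# Determinant of a split extension by a free module, projective case

If `Q × B^r ≃ P` with `P` finite projective of constant rank `d + r`, then `⋀^d Q ≃ ⋀^(d+r) P`.
-/

set_option autoImplicit false
universe u v w

open scoped TensorProduct

namespace Groth.Agent.H66.DetSplitProj

section Nakayama

variable {B : Type u} [CommRing B] {N : Type v} {L : Type w} [AddCommGroup N] [Module B N]
  [AddCommGroup L] [Module B L]

/-- a linear map into a finite module whose fibres at maximal ideals are lines is surjective as soon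
as it is nonzero in every such fibre -/
theorem surjective_of_residue [Module.Finite B L] (Φ : N →ₗ[B] L)
    (h1 : ∀ (m : Ideal B) [m.IsMaximal],
      Module.finrank m.ResidueField (m.ResidueField ⊗[B] L) = 1)
    (h2 : ∀ (m : Ideal B) [m.IsMaximal], ∃ x : N, (1 : m.ResidueField) ⊗ₜ[B] Φ x ≠ 0) :
    Function.Surjective Φ := by
  rw [← LinearMap.range_eq_top]
  rw [← Submodule.Quotient.subsingleton_iff]
  rw [← Module.support_eq_empty_iff (R := B), Set.eq_empty_iff_forall_notMem]
  intro p hp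
  obtain ⟨m, hm, hle⟩ := Ideal.exists_le_maximal p.asIdeal p.2.ne_top
  haveI := hm
  have hm' : (⟨m, hm.isPrime⟩ : PrimeSpectrum B) ∈ Module.support B (L ⧸ LinearMap.range Φ) :=
    Module.mem_support_mono (p := p) (q := ⟨m, hm.isPrime⟩) hle hp
  rw [Module.mem_support_iff_nontrivial_residueField_tensorProduct] at hm'
  change Nontrivial (m.ResidueField ⊗[B] (L ⧸ LinearMap.range Φ)) at hm'
  obtain ⟨x, hx⟩ := h2 m
  let π : m.ResidueField ⊗[B] L →ₗ[m.ResidueField] m.ResidueField ⊗[B] (L ⧸ LinearMap.range Φ) :=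
    LinearMap.baseChange m.ResidueField (LinearMap.range Φ).mkQ
  have hπs : Function.Surjective π := by
    change Function.Surjective ((LinearMap.range Φ).mkQ.lTensor m.ResidueField)
    exact LinearMap.lTensor_surjective _ (Submodule.mkQ_surjective _)
  have hπ0 : π ((1 : m.ResidueField) ⊗ₜ[B] Φ x) = 0 := by
    change (LinearMap.baseChange m.ResidueField (LinearMap.range Φ).mkQ) _ = 0
    rw [LinearMap.baseChange_tmul]
    have : (LinearMap.range Φ).mkQ (Φ x) = 0 := by
      rw [Submodule.mkQ_apply, Submodule.Quotient.mk_eq_zero]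
      exact ⟨x, rfl⟩
    rw [this, TensorProduct.tmul_zero]
  have hall := (finrank_eq_one_iff_of_nonzero' _ hx).mp (h1 m)
  obtain ⟨y, z, hyz⟩ := hm'
  apply hyz
  obtain ⟨y', rfl⟩ := hπs y
  obtain ⟨z', rfl⟩ := hπs z
  obtain ⟨c, rfl⟩ := hall y'
  obtain ⟨c', rfl⟩ := hall z'
  rw [map_smul, map_smul, hπ0, smul_zero, smul_zero]

end Nakayama

section Construction

variable {B : Type u} [CommRing B] {Q : Type v} {P : Type w} [AddCommGroup Q] [Module B Q]
  [AddCommGroup P] [Module B P]
variable {d r : ℕ} (θ : (Q × (Fin r → B)) ≃ₗ[B] P)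

/-- the first block of `θ` -/
noncomputable def Lmap : Q →ₗ[B] P := θ.toLinearMap ∘ₗ LinearMap.inl B Q (Fin r → B)

/-- the images of the standard basis vectors -/
noncomputable def cvec (j : Fin r) : P := θ (0, Pi.single j 1)

theorem mul_mem_extPow {x y : ExteriorAlgebra B P} (hx : x ∈ ⋀[B]^d P) (hy : y ∈ ⋀[B]^r P) :
    x * y ∈ ⋀[B]^(d + r) P := by
  change x * y ∈ LinearMap.range (ExteriorAlgebra.ι B : P →ₗ[B] ExteriorAlgebra B P) ^ (d + r)
  rw [pow_add]
  exact Submodule.mul_mem_mul hx hy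

/-- the map `x ↦ L(x) ∧ c_1 ∧ … ∧ c_r` -/
noncomputable def Phi : ⋀[B]^d Q →ₗ[B] ⋀[B]^(d + r) P :=
  LinearMap.codRestrict (⋀[B]^(d + r) P)
    ((LinearMap.mulRight B (ExteriorAlgebra.ιMulti B r (cvec θ))) ∘ₗ (⋀[B]^d P).subtype ∘ₗ
      exteriorPower.map d (Lmap θ))
    (fun x => mul_mem_extPow (Submodule.coe_mem _)
      (ExteriorAlgebra.ιMulti_range B r ⟨cvec θ, rfl⟩))

theorem ιMulti_mul_ιMulti (u : Fin d → P) (c : Fin r → P) :
    ExteriorAlgebra.ιMulti B d u * ExteriorAlgebra.ιMulti B r c =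
      ExteriorAlgebra.ιMulti B (d + r) (Fin.append u c) := by
  rw [ExteriorAlgebra.ιMulti_apply, ExteriorAlgebra.ιMulti_apply, ExteriorAlgebra.ιMulti_apply,
    ← List.prod_append, ← List.ofFn_fin_append]
  congr 2
  funext i
  refine Fin.addCases (fun i => ?_) (fun j => ?_) i
  · simp
  · simp

theorem Phi_ιMulti (q : Fin d → Q) :
    Phi θ (exteriorPower.ιMulti B d q) =
      exteriorPower.ιMulti B (d + r) (Fin.append (Lmap θ ∘ q) (cvec θ)) := by
  apply Subtype.ext
  change ((exteriorPower.map d (Lmap θ) (exteriorPower.ιMulti B d q) : ⋀[B]^d P) :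
    ExteriorAlgebra B P) * ExteriorAlgebra.ιMulti B r (cvec θ) = _
  rw [exteriorPower.map_apply_ιMulti, exteriorPower.ιMulti_apply_coe,
    exteriorPower.ιMulti_apply_coe, ιMulti_mul_ιMulti]

end Construction


section Residue

variable {B : Type u} [CommRing B] {Q : Type u} {P : Type u} [AddCommGroup Q] [Module B Q]
  [AddCommGroup P] [Module B P]
variable {d r : ℕ} (θ : (Q × (Fin r → B)) ≃ₗ[B] P)

include θ in
theorem finite_Q [Module.Finite B P] : Module.Finite B Q :=
  Module.Finite.of_surjective ((LinearMap.fst B Q (Fin r → B)) ∘ₗ θ.symm.toLinearMap)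
    (fun q => ⟨θ (q, 0), by simp⟩)

include θ in
theorem projective_Q [Module.Projective B P] : Module.Projective B Q :=
  Module.Projective.of_split (Lmap θ) ((LinearMap.fst B Q (Fin r → B)) ∘ₗ θ.symm.toLinearMap)
    (by ext q; simp [Lmap])

include θ in
theorem rankAtStalk_Q [Module.Finite B P] [Module.Projective B P]
    (h : ∀ p : PrimeSpectrum B, Module.rankAtStalk P p = d + r) (p : PrimeSpectrum B) :
    Module.rankAtStalk Q p = d := by
  haveI := finite_Q θ
  haveI := projective_Q θ
  haveI : Nontrivial B := p.nontrivial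
  have h1 := congrFun (Module.rankAtStalk_eq_of_equiv θ) p
  have h2 : Module.rankAtStalk (R := B) (Fin r → B) p = r := by
    rw [Module.rankAtStalk_eq_finrank_of_free]
    simp
  rw [Module.rankAtStalk_prod, Pi.add_apply, h p, h2] at h1
  omega

variable (κ : Type u) [Field κ] [Algebra B κ]

/-- the forward comparison `κ ⊗ P ≃ (κ ⊗ Q) × κ^r` -/
noncomputable def Fequiv : (κ ⊗[B] P) ≃ₗ[κ] ((κ ⊗[B] Q) × (Fin r → κ)) :=
  (LinearEquiv.baseChange B κ _ _ θ).symm ≪≫ₗ TensorProduct.prodRight B κ κ Q (Fin r → B) ≪≫ₗ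
    LinearEquiv.prodCongr (LinearEquiv.refl κ _) (TensorProduct.piScalarRight B κ κ (Fin r))

theorem Fequiv_tmul (x : Q) (b : Fin r → B) :
    Fequiv θ κ ((1 : κ) ⊗ₜ[B] θ (x, b)) = ((1 : κ) ⊗ₜ[B] x, fun j => algebraMap B κ (b j)) := by
  have h1 : (LinearEquiv.baseChange B κ _ _ θ).symm ((1 : κ) ⊗ₜ[B] θ (x, b)) =
      (1 : κ) ⊗ₜ[B] (x, b) := by
    rw [LinearEquiv.symm_apply_eq]
    simp [LinearEquiv.baseChange]
  unfold Fequiv
  rw [LinearEquiv.trans_apply, LinearEquiv.trans_apply, h1, TensorProduct.prodRight_tmul]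
  refine Prod.ext rfl ?_
  funext j
  simp [Algebra.smul_def]

theorem one_tmul_surjective (hκ : Function.Surjective (algebraMap B κ)) (y : κ ⊗[B] Q) :
    ∃ x : Q, (1 : κ) ⊗ₜ[B] x = y := by
  induction y using TensorProduct.induction_on with
  | zero => exact ⟨0, TensorProduct.tmul_zero _ _⟩
  | tmul a x =>
    obtain ⟨b, rfl⟩ := hκ a
    refine ⟨b • x, ?_⟩
    rw [← TensorProduct.smul_tmul, Algebra.smul_def, mul_one]
  | add y z hy hz =>
    obtain ⟨x, rfl⟩ := hy
    obtain ⟨x', rfl⟩ := hz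
    exact ⟨x + x', TensorProduct.tmul_add _ _ _⟩

/-- existence of a tuple whose image under `Phi` is nonzero in the fibre -/
theorem exists_one_tmul_Phi_ne_zero [Module.Finite B Q]
    (hκ : Function.Surjective (algebraMap B κ))
    (hd : Module.finrank κ (κ ⊗[B] Q) = d) :
    ∃ x : ⋀[B]^d Q, (1 : κ) ⊗ₜ[B] Phi θ x ≠ 0 := by
  classical
  let βQ : Module.Basis (Fin d) κ (κ ⊗[B] Q) := Module.finBasisOfFinrankEq κ _ hd
  choose q hq using fun i => one_tmul_surjective κ hκ (βQ i)
  let β₀ : Module.Basis (Fin d ⊕ Fin r) κ (κ ⊗[B] P) :=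
    (βQ.prod (Pi.basisFun κ (Fin r))).map (Fequiv θ κ).symm
  let β : Module.Basis (Fin (d + r)) κ (κ ⊗[B] P) := β₀.reindex finSumFinEquiv
  have hβ : (fun i => (1 : κ) ⊗ₜ[B] Fin.append (Lmap θ ∘ q) (cvec θ) i) = β := by
    funext i
    refine Fin.addCases (fun i => ?_) (fun j => ?_) i
    · rw [Fin.append_left, Module.Basis.reindex_apply, finSumFinEquiv_symm_apply_castAdd,
        Module.Basis.map_apply, LinearEquiv.eq_symm_apply]
      change Fequiv θ κ ((1 : κ) ⊗ₜ[B] θ (q i, 0)) = _
      rw [Fequiv_tmul, Module.Basis.prod_apply, Sum.elim_inl, Function.comp_apply,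
        LinearMap.inl_apply, hq]
      refine Prod.ext rfl ?_
      funext j
      simp
    · rw [Fin.append_right, Module.Basis.reindex_apply, finSumFinEquiv_symm_apply_natAdd,
        Module.Basis.map_apply, LinearEquiv.eq_symm_apply]
      change Fequiv θ κ ((1 : κ) ⊗ₜ[B] θ (0, Pi.single j 1)) = _
      rw [Fequiv_tmul, Module.Basis.prod_apply, Sum.elim_inr, Function.comp_apply,
        LinearMap.inr_apply, Pi.basisFun_apply, TensorProduct.tmul_zero]
      refine Prod.ext rfl ?_
      funext j'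
      by_cases hj : j' = j
      · subst hj; simp
      · simp [Pi.single_apply, hj]
  refine ⟨exteriorPower.ιMulti B d q, fun h0 => ?_⟩
  have h1 : Groth.Agent.H74.ExtPowBC.powBC B κ P (d + r)
      ((1 : κ) ⊗ₜ[B] Phi θ (exteriorPower.ιMulti B d q)) = 0 := by rw [h0, map_zero]
  rw [Phi_ιMulti, Groth.Agent.H74.ExtPowBC.powBC_tmul_ιMulti, one_smul, hβ] at h1
  have h2 := congrArg (exteriorPower.alternatingMapLinearEquiv β.det) h1
  rw [exteriorPower.alternatingMapLinearEquiv_apply_ιMulti, Module.Basis.det_self, map_zero] at h2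
  exact one_ne_zero h2

end Residue

section Main

variable {B : Type u} [CommRing B] {Q : Type u} {P : Type u} [AddCommGroup Q] [Module B Q]
  [AddCommGroup P] [Module B P] [Module.Finite B P] [Module.Projective B P]
variable {d r : ℕ} (θ : (Q × (Fin r → B)) ≃ₗ[B] P)
variable (h : ∀ p : PrimeSpectrum B, Module.rankAtStalk P p = d + r)

include h in
theorem Phi_surjective : Function.Surjective (Phi (d := d) θ) := by
  haveI := finite_Q θ
  haveI := projective_Q θ
  haveI := ExtPowRank.projective_extPow (R := B) (M := P) (d + r)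
  refine surjective_of_residue (Phi (d := d) θ) (fun m hm => ?_) (fun m hm => ?_)
  · have := Ideal.finrank_fiber_eq_rankAtStalk (M := ⋀[B]^(d + r) P) m
    rw [ExtPowRank.rankAtStalk_extPow, h, Nat.choose_self] at this
    exact this
  · refine exists_one_tmul_Phi_ne_zero θ m.ResidueField
      (Ideal.algebraMap_residueField_surjective m) ?_
    have := Ideal.finrank_fiber_eq_rankAtStalk (M := Q) m
    rw [rankAtStalk_Q θ h] at this
    exact this

include h in
theorem Phi_bijective : Function.Bijective (Phi (d := d) θ) := by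
  haveI := finite_Q θ
  haveI := projective_Q θ
  haveI := ExtPowRank.projective_extPow (R := B) (M := P) (d + r)
  haveI := ExtPowRank.projective_extPow (R := B) (M := Q) d
  refine Module.bijective_of_surjective_of_rankAtStalk_eq (Phi_surjective θ h) (fun m hm => ?_)
  rw [ExtPowRank.rankAtStalk_extPow, ExtPowRank.rankAtStalk_extPow, h, rankAtStalk_Q θ h,
    Nat.choose_self, Nat.choose_self]

include θ h in
/-- **determinant of a split extension by a free module** -/
theorem nonempty_extPow_equiv : Nonempty (⋀[B]^d Q ≃ₗ[B] ⋀[B]^(d + r) P) :=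
  ⟨LinearEquiv.ofBijective (Phi (d := d) θ) (Phi_bijective θ h)⟩

end Main

/-- variant with the rank of `P` as the parameter -/
theorem nonempty_extPow_equiv' {B : Type u} [CommRing B] {Q : Type u} {P : Type u} [AddCommGroup Q]
    [Module B Q] [AddCommGroup P] [Module B P] [Module.Finite B P] [Module.Projective B P]
    {n r : ℕ} (hrn : r ≤ n) (θ : (Q × (Fin r → B)) ≃ₗ[B] P)
    (h : ∀ p : PrimeSpectrum B, Module.rankAtStalk P p = n) :
    Nonempty (⋀[B]^(n - r) Q ≃ₗ[B] ⋀[B]^n P) := by
  obtain ⟨d, rfl⟩ : ∃ d, n = d + r := ⟨n - r, (Nat.sub_add_cancel hrn).symm⟩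
  rw [Nat.add_sub_cancel]
  exact nonempty_extPow_equiv θ h

end Groth.Agent.H66.DetSplitProj
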