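import Mathlib
import Groth.Agent.H69.DiscrLength

/-!
# Crimps of double covers of the formal disk

Uniform treatment of `S' = R·1 ⊕ R·w` with `w² = t^a` over `R = k⟦t⟧`.
-/

namespace Groth.Agent.H66.DoubleCrimp

open Module PowerSeries

universe u v

section abstract

variable {k : Type u} [Field k]
variable {St : Type v} [CommRing St] [Algebra (PowerSeries k) St]
variable (b' : Basis (Fin 2) (PowerSeries k) St) (w : St) (hb0 : b' 0 = 1) (hb1 : b' 1 = w)

include hb0 hb1 in
theorem decomp (x : St) : x = b'.repr x 0 • (1 : St) + b'.repr x 1 • w := by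
  conv_lhs => rw [← b'.sum_repr x]
  rw [Fin.sum_univ_two, hb0, hb1]

include hb0 hb1 in
theorem repr_one : b'.repr (1 : St) = Finsupp.single 0 1 := by
  rw [← hb0, Basis.repr_self]

include hb0 hb1 in
theorem repr_w : b'.repr w = Finsupp.single 1 1 := by
  rw [← hb1, Basis.repr_self]

include hb0 hb1 in
theorem repr_comb (α β : PowerSeries k) :
    b'.repr (α • (1 : St) + β • w) = Finsupp.single 0 α + Finsupp.single 1 β := by
  rw [map_add, map_smul, map_smul, repr_one b' w hb0 hb1, repr_w b' w hb0 hb1,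
    Finsupp.smul_single, Finsupp.smul_single, smul_eq_mul, smul_eq_mul, mul_one, mul_one]

include hb0 hb1 in
theorem comb_eq_zero {α β : PowerSeries k} (h : α • (1 : St) + β • w = 0) : α = 0 ∧ β = 0 := by
  have h1 := repr_comb b' w hb0 hb1 α β
  rw [h, map_zero] at h1
  have h0 := DFunLike.congr_fun h1 0
  have h2 := DFunLike.congr_fun h1 1
  simp at h0 h2
  exact ⟨h0.symm, h2.symm⟩

variable (k) in
/-- the module `R·1 + R·t^n w` -/
noncomputable def crimpMod (n : ℕ) : Submodule (PowerSeries k) St :=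
  Submodule.span (PowerSeries k) {(1 : St)} ⊔
    Submodule.span (PowerSeries k) {((X : PowerSeries k) ^ n) • w}

theorem mem_crimpMod {n : ℕ} {x : St} :
    x ∈ crimpMod k w n ↔ ∃ α β : PowerSeries k, x = α • (1 : St) + β • (((X : PowerSeries k) ^ n) • w) := by
  unfold crimpMod
  rw [Submodule.mem_sup]
  constructor
  · rintro ⟨y, hy, z, hz, rfl⟩
    obtain ⟨α, rfl⟩ := Submodule.mem_span_singleton.mp hy
    obtain ⟨β, rfl⟩ := Submodule.mem_span_singleton.mp hz
    exact ⟨α, β, rfl⟩
  · rintro ⟨α, β, rfl⟩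
    exact ⟨_, Submodule.smul_mem _ _ (Submodule.mem_span_singleton_self _), _,
      Submodule.smul_mem _ _ (Submodule.mem_span_singleton_self _), rfl⟩

include hb0 hb1 in
/-- `R·1 + R·t^n w = R·1 + t^n S'` -/
theorem crimpMod_eq (n : ℕ) :
    crimpMod k w n = Submodule.span (PowerSeries k) {(1 : St)} ⊔
      Ideal.span {(X : PowerSeries k) ^ n} • (⊤ : Submodule (PowerSeries k) St) := by
  unfold crimpMod
  apply le_antisymm
  · refine sup_le_sup_left ?_ _
    rw [Submodule.span_singleton_le_iff_mem]
    exact Submodule.smul_mem_smul (Ideal.subset_span rfl) Submodule.mem_top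
  · refine sup_le le_sup_left ?_
    rw [Submodule.smul_le]
    intro r hr x _
    obtain ⟨c, rfl⟩ := Ideal.mem_span_singleton'.mp hr
    have hx := decomp b' w hb0 hb1 x
    rw [Submodule.mem_sup]
    refine ⟨(c * X ^ n * b'.repr x 0) • (1 : St), Submodule.smul_mem _ _
      (Submodule.mem_span_singleton_self _), (c * b'.repr x 1) • ((X : PowerSeries k) ^ n • w),
      Submodule.smul_mem _ _ (Submodule.mem_span_singleton_self _), ?_⟩
    conv_rhs => rw [hx]
    simp only [smul_add, smul_smul]
    congr 2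
    ring

include hb0 hb1 in
/-- structure of subalgebras of rank two -/
theorem exists_structure (S : Subalgebra (PowerSeries k) St)
    (bS : Basis (Fin 2) (PowerSeries k) S) :
    ∃ n : ℕ, Subalgebra.toSubmodule S = crimpMod k w n := by
  classical
  have hdec := decomp b' w hb0 hb1
  set I : Ideal (PowerSeries k) := Submodule.map (b'.coord 1) (Subalgebra.toSubmodule S) with hIdef
  have hI : I ≠ ⊥ := by
    intro hI
    have hx : ∀ x : S, (x : St) = b'.repr (x : St) 0 • (1 : St) := by
      intro x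
      have h1 : b'.coord 1 (x : St) ∈ I := Submodule.mem_map_of_mem x.2
      rw [hI, Submodule.mem_bot, Basis.coord_apply] at h1
      have := hdec (x : St)
      rw [h1, zero_smul, add_zero] at this
      exact this
    have hli := bS.linearIndependent
    rw [Fintype.linearIndependent_iff] at hli
    set r0 := b'.repr ((bS 0 : S) : St) 0 with hr0
    set r1 := b'.repr ((bS 1 : S) : St) 0 with hr1
    have h := hli ![r1, -r0] (by
      apply Subtype.ext
      rw [Fin.sum_univ_two]
      simp only [Matrix.cons_val_zero, Matrix.cons_val_one, Subalgebra.coe_add,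
        Subalgebra.coe_smul, Subalgebra.coe_zero]
      rw [hx (bS 0), hx (bS 1), ← hr0, ← hr1, smul_smul, smul_smul]
      rw [← add_smul]
      have : r1 * r0 + -r0 * r1 = 0 := by ring
      rw [this, zero_smul])
    have h0 : r1 = 0 := by simpa using h 0
    have h1 : r0 = 0 := by simpa using h 1
    have hb : (bS 0 : S) = 0 := by
      apply Subtype.ext
      rw [hx (bS 0), ← hr0, h1, zero_smul]
      rfl
    exact bS.ne_zero 0 hb
  obtain ⟨n, hn⟩ := IsDiscreteValuationRing.ideal_eq_span_pow_irreducible hI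
    (X_irreducible (R := k))
  refine ⟨n, ?_⟩
  have h1S : (1 : St) ∈ Subalgebra.toSubmodule S := S.one_mem
  -- `t^n w ∈ S`
  have hwS : ((X : PowerSeries k) ^ n) • w ∈ Subalgebra.toSubmodule S := by
    have hmem : (X : PowerSeries k) ^ n ∈ I := by rw [hn]; exact Ideal.subset_span rfl
    obtain ⟨y, hy, hyn⟩ := hmem
    rw [Basis.coord_apply] at hyn
    have := hdec y
    rw [hyn] at this
    have h2 : (X : PowerSeries k) ^ n • w = y - b'.repr y 0 • (1 : St) := by
      rw [eq_sub_iff_add_eq, add_comm]; exact this.symm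
    rw [h2]
    exact Submodule.sub_mem _ hy (Submodule.smul_mem _ _ h1S)
  apply le_antisymm
  · intro x hx
    have hmem : b'.coord 1 x ∈ I := Submodule.mem_map_of_mem hx
    rw [hn, Ideal.mem_span_singleton', Basis.coord_apply] at hmem
    obtain ⟨d, hd⟩ := hmem
    rw [mem_crimpMod]
    refine ⟨b'.repr x 0, d, ?_⟩
    rw [smul_smul, hd]
    exact hdec x
  · unfold crimpMod
    refine sup_le ?_ ?_
    · rw [Submodule.span_singleton_le_iff_mem]; exact h1S
    · rw [Submodule.span_singleton_le_iff_mem]; exact hwS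

include hb0 hb1 in
/-- an adapted basis of the crimp `R·1 + R·t^n w` -/
theorem exists_basis (S : Subalgebra (PowerSeries k) St) (n : ℕ)
    (hS : Subalgebra.toSubmodule S = crimpMod k w n) :
    ∃ ab : Basis (Fin 2) (PowerSeries k) S, ((ab 0 : S) : St) = 1 ∧
      ((ab 1 : S) : St) = ((X : PowerSeries k) ^ n) • w := by
  classical
  have h1S : (1 : St) ∈ S := S.one_mem
  have hwS : ((X : PowerSeries k) ^ n) • w ∈ S := by
    have : ((X : PowerSeries k) ^ n) • w ∈ Subalgebra.toSubmodule S := by
      rw [hS, mem_crimpMod]; exact ⟨0, 1, by simp⟩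
    exact this
  let v : Fin 2 → S := ![⟨1, h1S⟩, ⟨((X : PowerSeries k) ^ n) • w, hwS⟩]
  have hli : LinearIndependent (PowerSeries k) v := by
    rw [Fintype.linearIndependent_iff]
    intro g hg
    have hg' := congrArg Subtype.val hg
    rw [Fin.sum_univ_two] at hg'
    simp only [v, Matrix.cons_val_zero, Matrix.cons_val_one, Subalgebra.coe_add,
      Subalgebra.coe_smul, Subalgebra.coe_zero] at hg'
    rw [smul_smul] at hg'
    obtain ⟨h0, h1⟩ := comb_eq_zero b' w hb0 hb1 hg'
    have h1' : g 1 = 0 := by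
      rcases mul_eq_zero.mp h1 with h | h
      · exact h
      · exact absurd h (pow_ne_zero _ X_ne_zero)
    intro i
    fin_cases i
    · exact h0
    · exact h1'
  have hsp : ⊤ ≤ Submodule.span (PowerSeries k) (Set.range v) := by
    intro x _
    have hx : (x : St) ∈ Subalgebra.toSubmodule S := x.2
    rw [hS, mem_crimpMod] at hx
    obtain ⟨α, β, hαβ⟩ := hx
    have : x = α • v 0 + β • v 1 := by
      apply Subtype.ext
      simp only [v, Matrix.cons_val_zero, Matrix.cons_val_one, Subalgebra.coe_add,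
        Subalgebra.coe_smul]
      exact hαβ
    rw [this]
    exact Submodule.add_mem _ (Submodule.smul_mem _ _ (Submodule.subset_span ⟨0, rfl⟩))
      (Submodule.smul_mem _ _ (Submodule.subset_span ⟨1, rfl⟩))
  refine ⟨Basis.mk hli hsp, ?_, ?_⟩
  · rw [Basis.mk_apply]; rfl
  · rw [Basis.mk_apply]; rfl

variable (a : ℕ) (hw : w * w = algebraMap (PowerSeries k) St ((X : PowerSeries k) ^ a))

include hb0 hb1 hw in
theorem discr_b' : Algebra.discr (PowerSeries k) b' = 4 * (X : PowerSeries k) ^ a := by
  classical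
  have htr : ∀ x : St, Algebra.trace (PowerSeries k) St x = b'.repr x 0 + b'.repr (x * w) 1 := by
    intro x
    rw [Algebra.trace_eq_matrix_trace b', Matrix.trace, Fin.sum_univ_two]
    simp only [Matrix.diag_apply, Algebra.leftMulMatrix_eq_repr_mul, hb0, hb1, mul_one]
  have h11 : Algebra.trace (PowerSeries k) St 1 = 2 := by
    rw [htr, one_mul, repr_one b' w hb0 hb1, repr_w b' w hb0 hb1]
    simp
    norm_num
  have h1w : Algebra.trace (PowerSeries k) St w = 0 := by
    rw [htr, repr_w b' w hb0 hb1, hw, Algebra.algebraMap_eq_smul_one, map_smul,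
      repr_one b' w hb0 hb1]
    simp
  have hww : Algebra.trace (PowerSeries k) St (w * w) = 2 * (X : PowerSeries k) ^ a := by
    rw [hw, Algebra.algebraMap_eq_smul_one, map_smul, h11, smul_eq_mul, mul_comm]
  rw [Algebra.discr_def, Matrix.det_fin_two]
  simp only [Algebra.traceMatrix_apply, Algebra.traceForm_apply, hb0, hb1, mul_one, one_mul,
    h11, h1w, hww]
  ring

end abstract

section abstract2

variable {k : Type u} [Field k] [CharZero k]
variable {St : Type v} [CommRing St] [Algebra (PowerSeries k) St]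
variable (b' : Basis (Fin 2) (PowerSeries k) St) (w : St) (hb0 : b' 0 = 1) (hb1 : b' 1 = w)
variable (a : ℕ) (hw : w * w = algebraMap (PowerSeries k) St ((X : PowerSeries k) ^ a))

theorem isUnit_four : IsUnit (4 : PowerSeries k) := by
  have : (4 : PowerSeries k) = PowerSeries.C (4 : k) := by
    rw [map_ofNat]
  rw [this]
  exact (isUnit_iff_ne_zero.mpr (by norm_num : (4 : k) ≠ 0)).map _

include hb0 hb1 hw in
/-- the discriminant of the adapted basis -/
theorem discr_ab (S : Subalgebra (PowerSeries k) St) (n : ℕ)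
    (ab : Basis (Fin 2) (PowerSeries k) S) (h0 : ((ab 0 : S) : St) = 1)
    (h1 : ((ab 1 : S) : St) = ((X : PowerSeries k) ^ n) • w) :
    Algebra.discr (PowerSeries k) ab = 4 * (X : PowerSeries k) ^ (2 * n + a) := by
  classical
  have h := Groth.Agent.H69.discr_coe S b' ab ![1, (X : PowerSeries k) ^ n]
    (by
      intro i
      fin_cases i
      · exact one_ne_zero
      · exact pow_ne_zero _ X_ne_zero)
    (by
      intro i
      fin_cases i
      · simp [h0, hb0]
      · simp [h1, hb1])
  rw [h, discr_b' b' w hb0 hb1 a hw, Fin.prod_univ_two]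
  simp only [Matrix.cons_val_zero, Matrix.cons_val_one]
  ring

theorem X_pow_associated_iff {m n : ℕ} :
    Associated ((X : PowerSeries k) ^ m) ((X : PowerSeries k) ^ n) ↔ m = n := by
  constructor
  · intro h
    have hX0 : (X : PowerSeries k) ≠ 0 := X_ne_zero
    have hXu : ¬ IsUnit (X : PowerSeries k) := (X_irreducible (R := k)).not_isUnit
    have h1 := (pow_dvd_pow_iff hX0 hXu).mp h.dvd
    have h2 := (pow_dvd_pow_iff hX0 hXu).mp h.symm.dvd
    omega
  · rintro rfl
    exact Associated.refl _

include hb0 hb1 hw in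
/-- the abstract classification of crimps of a double cover -/
theorem main_iff (S : Subalgebra (PowerSeries k) St) (b : ℕ) :
    (∃ bS : Basis (Fin 2) (PowerSeries k) S,
      Ideal.span {Algebra.discr (PowerSeries k) ⇑bS} = Ideal.span {(X : PowerSeries k) ^ b}) ↔
    ∃ n : ℕ, b = 2 * n + a ∧
      Subalgebra.toSubmodule S = Submodule.span (PowerSeries k) {(1 : St)} ⊔
        Ideal.span {(X : PowerSeries k) ^ n} • (⊤ : Submodule (PowerSeries k) St) := by
  classical
  constructor
  · rintro ⟨bS, hbS⟩
    obtain ⟨n, hn⟩ := exists_structure b' w hb0 hb1 S bS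
    obtain ⟨ab, h0, h1⟩ := exists_basis b' w hb0 hb1 S n hn
    refine ⟨n, ?_, by rw [hn, crimpMod_eq b' w hb0 hb1]⟩
    have hd := discr_ab b' w hb0 hb1 a hw S n ab h0 h1
    obtain ⟨u, hu, hu2⟩ := Groth.Agent.H69.discr_basis_change ab bS
    have hA1 : Associated (Algebra.discr (PowerSeries k) ⇑bS) ((X : PowerSeries k) ^ b) :=
      Ideal.span_singleton_eq_span_singleton.1 hbS
    have hA2 : Associated (Algebra.discr (PowerSeries k) ⇑bS)
        ((X : PowerSeries k) ^ (2 * n + a)) := by
      rw [hu2, hd, ← mul_assoc]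
      exact associated_unit_mul_left _ _ ((hu.pow 2).mul isUnit_four)
    exact X_pow_associated_iff.mp (hA1.symm.trans hA2)
  · rintro ⟨n, rfl, hS⟩
    rw [← crimpMod_eq b' w hb0 hb1] at hS
    obtain ⟨ab, h0, h1⟩ := exists_basis b' w hb0 hb1 S n hS
    refine ⟨ab, ?_⟩
    rw [discr_ab b' w hb0 hb1 a hw S n ab h0 h1]
    exact Ideal.span_singleton_eq_span_singleton.2 (associated_unit_mul_left _ _ isUnit_four)

end abstract2

section adjoin

variable {R : Type u} {T : Type v} [CommRing R] [Nontrivial R] [CommRing T] [Algebra R T]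

/-- a rank two algebra with basis `1, z` and `z² = c` is `R[y]/(y² - c)` -/
theorem nonempty_algEquiv_adjoinRoot (bz : Basis (Fin 2) R T) (z : T) (h0 : bz 0 = 1)
    (h1 : bz 1 = z) (c : R) (hz : z * z = algebraMap R T c) :
    Nonempty (T ≃ₐ[R] AdjoinRoot (Polynomial.X ^ 2 - Polynomial.C c : Polynomial R)) := by
  classical
  have hg : (Polynomial.X ^ 2 - Polynomial.C c : Polynomial R).Monic :=
    Polynomial.monic_X_pow_sub_C c (by norm_num)
  have hdeg : (Polynomial.X ^ 2 - Polynomial.C c : Polynomial R).natDegree = 2 :=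
    Polynomial.natDegree_X_pow_sub_C
  let φ : AdjoinRoot (Polynomial.X ^ 2 - Polynomial.C c : Polynomial R) →ₐ[R] T :=
    AdjoinRoot.liftAlgHom _ (Algebra.ofId R T) z (by
      rw [Polynomial.eval₂_sub, Polynomial.eval₂_pow, Polynomial.eval₂_X, Polynomial.eval₂_C,
        pow_two, hz]
      simp [Algebra.ofId_apply])
  let bA : Basis (Fin 2) R (AdjoinRoot (Polynomial.X ^ 2 - Polynomial.C c : Polynomial R)) :=
    (AdjoinRoot.powerBasis' hg).basis.reindex (finCongr hdeg)
  have hbA : ∀ i : Fin 2, bA i =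
      AdjoinRoot.root (Polynomial.X ^ 2 - Polynomial.C c : Polynomial R) ^ (i : ℕ) := by
    intro i
    simp only [bA, Basis.reindex_apply, PowerBasis.basis_eq_pow, AdjoinRoot.powerBasis'_gen]
    rfl
  have hφ : φ.toLinearMap = (bA.equiv bz (Equiv.refl _)).toLinearMap := by
    apply bA.ext
    intro i
    rw [LinearEquiv.coe_coe, Basis.equiv_apply, Equiv.refl_apply, AlgHom.toLinearMap_apply, hbA]
    fin_cases i
    · simp [h0]
    · simp [h1, φ]
  have hbij : Function.Bijective φ := by
    have : (φ : AdjoinRoot (Polynomial.X ^ 2 - Polynomial.C c : Polynomial R) → T) =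
        (bA.equiv bz (Equiv.refl _)) := by
      funext x
      exact LinearMap.congr_fun hφ x
    rw [this]
    exact LinearEquiv.bijective _
  exact ⟨(AlgEquiv.ofBijective φ hbij).symm⟩

end adjoin

section abstract3

variable {k : Type u} [Field k] [CharZero k]
variable {St : Type v} [CommRing St] [Algebra (PowerSeries k) St]
variable (b' : Basis (Fin 2) (PowerSeries k) St) (w : St) (hb0 : b' 0 = 1) (hb1 : b' 1 = w)
variable (a : ℕ) (hw : w * w = algebraMap (PowerSeries k) St ((X : PowerSeries k) ^ a))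

include hb0 hb1 hw in
theorem main_equiv (S : Subalgebra (PowerSeries k) St) (n : ℕ)
    (hS : Subalgebra.toSubmodule S = Submodule.span (PowerSeries k) {(1 : St)} ⊔
        Ideal.span {(X : PowerSeries k) ^ n} • (⊤ : Submodule (PowerSeries k) St)) :
    Nonempty (S ≃ₐ[PowerSeries k] AdjoinRoot
      (Polynomial.X ^ 2 - Polynomial.C ((X : PowerSeries k) ^ (2 * n + a)))) := by
  rw [← crimpMod_eq b' w hb0 hb1] at hS
  obtain ⟨ab, h0, h1⟩ := exists_basis b' w hb0 hb1 S n hS
  refine nonempty_algEquiv_adjoinRoot ab (ab 1) ?_ rfl _ ?_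
  · apply Subtype.ext
    rw [h0]
    rfl
  · apply Subtype.ext
    rw [Subalgebra.coe_mul, h1, Subalgebra.coe_algebraMap, smul_mul_smul_comm, hw,
      Algebra.algebraMap_eq_smul_one, Algebra.algebraMap_eq_smul_one, smul_smul]
    congr 1
    ring

end abstract3

section split

variable {k : Type u} [Field k] [CharZero k]

theorem isUnit_two : IsUnit (2 : PowerSeries k) := by
  have : (2 : PowerSeries k) = PowerSeries.C (2 : k) := by
    rw [map_ofNat]
  rw [this]
  exact (isUnit_iff_ne_zero.mpr (by norm_num : (2 : k) ≠ 0)).map _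

/-- the element `(1, -1)` of `R × R` -/
noncomputable def wSplit : Fin 2 → PowerSeries k := ![1, -1]

theorem wSplit_mul : (wSplit : Fin 2 → PowerSeries k) * wSplit =
    algebraMap (PowerSeries k) (Fin 2 → PowerSeries k) ((X : PowerSeries k) ^ 0) := by
  funext i
  fin_cases i <;> simp [wSplit]

theorem exists_basis_split :
    ∃ b' : Basis (Fin 2) (PowerSeries k) (Fin 2 → PowerSeries k), b' 0 = 1 ∧ b' 1 = wSplit := by
  classical
  obtain ⟨i2, hi2⟩ := isUnit_two (k := k).exists_right_inv
  let v : Fin 2 → (Fin 2 → PowerSeries k) := ![1, wSplit]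
  have hli : LinearIndependent (PowerSeries k) v := by
    rw [Fintype.linearIndependent_iff]
    intro g hg
    rw [Fin.sum_univ_two] at hg
    have e0 := congrFun hg 0
    have e1 := congrFun hg 1
    simp [v, wSplit] at e0 e1
    have h0 : g 0 = 0 := by
      have : 2 * g 0 = 0 := by linear_combination e0 + e1
      rcases mul_eq_zero.mp this with h | h
      · exact absurd h isUnit_two.ne_zero
      · exact h
    have h1 : g 1 = 0 := by
      rw [h0] at e0
      simpa using e0
    intro i
    fin_cases i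
    · exact h0
    · exact h1
  have hsp : ⊤ ≤ Submodule.span (PowerSeries k) (Set.range v) := by
    intro x _
    have hx : x = ((x 0 + x 1) * i2) • v 0 + ((x 0 - x 1) * i2) • v 1 := by
      funext i
      fin_cases i
      · simp [v, wSplit]
        linear_combination (-(x 0)) * hi2
      · simp [v, wSplit]
        linear_combination (-(x 1)) * hi2
    rw [hx]
    exact Submodule.add_mem _ (Submodule.smul_mem _ _ (Submodule.subset_span ⟨0, rfl⟩))
      (Submodule.smul_mem _ _ (Submodule.subset_span ⟨1, rfl⟩))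
  refine ⟨Basis.mk hli hsp, ?_, ?_⟩
  · rw [Basis.mk_apply]; rfl
  · rw [Basis.mk_apply]; rfl

theorem split_main (b : ℕ) (S : Subalgebra (PowerSeries k) (Fin 2 → PowerSeries k)) :
    ((∃ bS : Module.Basis (Fin 2) (PowerSeries k) S,
      Ideal.span {Algebra.discr (PowerSeries k) ⇑bS} = Ideal.span {(PowerSeries.X : PowerSeries k) ^ b}) ↔
    ∃ n : ℕ, b = 2 * n ∧
      Subalgebra.toSubmodule S = Submodule.span (PowerSeries k) {(1 : (Fin 2 → PowerSeries k))} ⊔
        Ideal.span {(PowerSeries.X : PowerSeries k) ^ n} • (⊤ : Submodule (PowerSeries k) (Fin 2 → PowerSeries k))) ∧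
    (∀ n : ℕ, Subalgebra.toSubmodule S = Submodule.span (PowerSeries k) {(1 : (Fin 2 → PowerSeries k))} ⊔
        Ideal.span {(PowerSeries.X : PowerSeries k) ^ n} • (⊤ : Submodule (PowerSeries k) (Fin 2 → PowerSeries k)) →
      Nonempty (S ≃ₐ[PowerSeries k] AdjoinRoot (Polynomial.X ^ 2 - Polynomial.C ((PowerSeries.X : PowerSeries k) ^ (2 * n))))) := by
  obtain ⟨b', hb0, hb1⟩ := exists_basis_split (k := k)
  refine ⟨?_, ?_⟩
  · exact main_iff b' wSplit hb0 hb1 0 wSplit_mul S b
  · intro n hS
    exact main_equiv b' wSplit hb0 hb1 0 wSplit_mul S n hS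

end split

section ramified

variable {k : Type u} [Field k] [CharZero k]

theorem ramified_main (b : ℕ)
    (S : Subalgebra (PowerSeries k) (AdjoinRoot (Polynomial.X ^ 2 - Polynomial.C (PowerSeries.X : PowerSeries k)))) :
    ((∃ bS : Module.Basis (Fin 2) (PowerSeries k) S,
      Ideal.span {Algebra.discr (PowerSeries k) ⇑bS} = Ideal.span {(PowerSeries.X : PowerSeries k) ^ b}) ↔
    ∃ n : ℕ, b = 2 * n + 1 ∧
      Subalgebra.toSubmodule S = Submodule.span (PowerSeries k) {(1 : (AdjoinRoot (Polynomial.X ^ 2 - Polynomial.C (PowerSeries.X : PowerSeries k))))} ⊔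
        Ideal.span {(PowerSeries.X : PowerSeries k) ^ n} • (⊤ : Submodule (PowerSeries k) (AdjoinRoot (Polynomial.X ^ 2 - Polynomial.C (PowerSeries.X : PowerSeries k))))) ∧
    (∀ n : ℕ, Subalgebra.toSubmodule S = Submodule.span (PowerSeries k) {(1 : (AdjoinRoot (Polynomial.X ^ 2 - Polynomial.C (PowerSeries.X : PowerSeries k))))} ⊔
        Ideal.span {(PowerSeries.X : PowerSeries k) ^ n} • (⊤ : Submodule (PowerSeries k) (AdjoinRoot (Polynomial.X ^ 2 - Polynomial.C (PowerSeries.X : PowerSeries k)))) →
      Nonempty (S ≃ₐ[PowerSeries k] AdjoinRoot (Polynomial.X ^ 2 - Polynomial.C ((PowerSeries.X : PowerSeries k) ^ (2 * n + 1))))) := by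
  classical
  have hg : (Polynomial.X ^ 2 - Polynomial.C (PowerSeries.X : PowerSeries k)).Monic :=
    Polynomial.monic_X_pow_sub_C _ (by norm_num)
  have hdeg : (Polynomial.X ^ 2 - Polynomial.C (PowerSeries.X : PowerSeries k)).natDegree = 2 :=
    Polynomial.natDegree_X_pow_sub_C
  let b' : Basis (Fin 2) (PowerSeries k)
      (AdjoinRoot (Polynomial.X ^ 2 - Polynomial.C (PowerSeries.X : PowerSeries k))) :=
    (AdjoinRoot.powerBasis' hg).basis.reindex (finCongr hdeg)
  have hbA : ∀ i : Fin 2, b' i =
      AdjoinRoot.root (Polynomial.X ^ 2 - Polynomial.C (PowerSeries.X : PowerSeries k)) ^ (i : ℕ) := by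
    intro i
    simp only [b', Basis.reindex_apply, PowerBasis.basis_eq_pow, AdjoinRoot.powerBasis'_gen]
    rfl
  have hb0 : b' 0 = 1 := by rw [hbA]; simp
  have hb1 : b' 1 = AdjoinRoot.root (Polynomial.X ^ 2 - Polynomial.C (PowerSeries.X : PowerSeries k)) := by
    rw [hbA]; simp
  have hw : AdjoinRoot.root (Polynomial.X ^ 2 - Polynomial.C (PowerSeries.X : PowerSeries k)) *
      AdjoinRoot.root (Polynomial.X ^ 2 - Polynomial.C (PowerSeries.X : PowerSeries k)) =
      algebraMap (PowerSeries k) _ ((PowerSeries.X : PowerSeries k) ^ 1) := by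
    have h := AdjoinRoot.eval₂_root (Polynomial.X ^ 2 - Polynomial.C (PowerSeries.X : PowerSeries k))
    rw [Polynomial.eval₂_sub, Polynomial.eval₂_pow, Polynomial.eval₂_X, Polynomial.eval₂_C,
      sub_eq_zero] at h
    rw [pow_one, ← pow_two, h]
    rfl
  refine ⟨?_, ?_⟩
  · exact main_iff b' _ hb0 hb1 1 hw S b
  · intro n hS
    exact main_equiv b' _ hb0 hb1 1 hw S n hS

end ramified

end Groth.Agent.H66.DoubleCrimp
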