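import Mathlib
import Groth.Agent.H15.FinPts

set_option autoImplicit false
set_option linter.style.haveILetI false
set_option linter.unusedSectionVars false

/-!
# Counting homomorphisms of a finite separable reduced algebra, and primitive elements

* `card_algHom_eq_finrank`: a finite reduced separable `K`-algebra `A` has exactly `finrank K A`
  homomorphisms into an algebraically closed extension.
* `adjoin_eq_top_of_injective`: an element separating all these homomorphisms generates `A`.
-/

namespace Groth.Agent.H66.EtAlgPrim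

universe u

open Groth.Agent.H15.FinPts

section count

variable (K : Type u) [Field K] (A : Type u) [CommRing A] [Algebra K A] [Module.Finite K A]
  (Ω : Type u) [Field Ω] [Algebra K Ω] [IsAlgClosed Ω]

theorem isSeparable_quotient [Algebra.IsSeparable K A] (I : Ideal A) :
    Algebra.IsSeparable K (A ⧸ I) := by
  refine ⟨fun x => ?_⟩
  obtain ⟨a, rfl⟩ := Ideal.Quotient.mk_surjective x
  have ha : IsSeparable K a := Algebra.IsSeparable.isSeparable K a
  have hdvd : minpoly K (Ideal.Quotient.mk I a) ∣ minpoly K a := by
    apply minpoly.dvd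
    have : Polynomial.aeval (Ideal.Quotient.mk I a) (minpoly K a)
        = Ideal.Quotient.mkₐ K I (Polynomial.aeval a (minpoly K a)) := by
      rw [← Polynomial.aeval_algHom_apply]; rfl
    rw [this, minpoly.aeval, map_zero]
  exact Polynomial.Separable.of_dvd ha hdvd

theorem card_algHom_eq_finrank [IsReduced A] [Algebra.IsSeparable K A] :
    Nat.card (A →ₐ[K] Ω) = Module.finrank K A := by
  haveI : IsArtinianRing A := IsArtinianRing.of_finite K A
  haveI : Finite (PrimeSpectrum A) := inferInstance
  haveI : Fintype (PrimeSpectrum A) := Fintype.ofFinite _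
  haveI : Finite (MaximalSpectrum A) := inferInstance
  haveI : Fintype (MaximalSpectrum A) := Fintype.ofFinite _
  haveI : Finite (A →ₐ[K] Ω) := Fintype.finite (minpoly.AlgHom.fintype K A Ω)
  rw [Nat.card_congr (Equiv.sigmaFiberEquiv (kerMapK K A Ω)).symm, Nat.card_sigma,
    ((IsArtinianRing.equivPi A).restrictScalars K).toLinearEquiv.finrank_eq,
    Module.finrank_pi_fintype]
  refine Fintype.sum_equiv IsArtinianRing.primeSpectrumEquivMaximalSpectrum _ _ fun p => ?_
  haveI : p.asIdeal.IsMaximal := inferInstance
  rw [Nat.card_congr (fibreEquiv K A Ω p)]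
  letI : Field (A ⧸ p.asIdeal) := Ideal.Quotient.field p.asIdeal
  haveI : Algebra.IsSeparable K (A ⧸ p.asIdeal) := isSeparable_quotient K A p.asIdeal
  haveI : Algebra.IsAlgebraic K (A ⧸ p.asIdeal) := Algebra.IsAlgebraic.of_finite K _
  rw [← Field.finSepDegree_eq_of_isAlgClosed K (A ⧸ p.asIdeal) Ω,
    Field.finSepDegree_eq_finrank_of_isSeparable]
  rfl

end count

section prim

variable (K : Type u) [Field K] (L : Type u) [CommRing L] [Algebra K L] [Module.Finite K L]
  [IsReduced L] [Algebra.IsSeparable K L]
  (Ω : Type u) [Field Ω] [Algebra K Ω] [IsAlgClosed Ω]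

/-- An element whose images under all `K`-homomorphisms to `Ω` are distinct generates `L`. -/
theorem adjoin_eq_top_of_injective (w : L)
    (hw : Function.Injective fun φ : L →ₐ[K] Ω => φ w) :
    Algebra.adjoin K ({w} : Set L) = ⊤ := by
  set M : Subalgebra K L := Algebra.adjoin K ({w} : Set L) with hM
  haveI : Finite (L →ₐ[K] Ω) := Fintype.finite (minpoly.AlgHom.fintype K L Ω)
  haveI : Finite (M →ₐ[K] Ω) := Fintype.finite (minpoly.AlgHom.fintype K M Ω)
  haveI : IsReduced M := isReduced_of_injective M.val Subtype.val_injective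
  haveI : Algebra.IsSeparable K M :=
    Subalgebra.isSeparable_iff.2 fun x _ => Algebra.IsSeparable.isSeparable K x
  have hwM : w ∈ M := Algebra.subset_adjoin (Set.mem_singleton w)
  have hinj : Function.Injective fun φ : L →ₐ[K] Ω => φ.comp M.val := by
    intro φ ψ h
    apply hw
    have := AlgHom.congr_fun h ⟨w, hwM⟩
    simpa using this
  have h1 : Nat.card (L →ₐ[K] Ω) ≤ Nat.card (M →ₐ[K] Ω) := Nat.card_le_card_of_injective _ hinj
  rw [card_algHom_eq_finrank K L Ω, card_algHom_eq_finrank K M Ω] at h1
  have h2 : Module.finrank K (Subalgebra.toSubmodule M) = Module.finrank K L :=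
    le_antisymm (Submodule.finrank_le _) h1
  have h3 := Submodule.eq_top_of_finrank_eq h2
  exact Algebra.toSubmodule_eq_top.1 h3

omit Ω in
theorem main (z t : L) (hgen : Algebra.adjoin K ({z, t} : Set L) = ⊤) (S : Finset K)
    (hS : Module.finrank K L ^ (4 * Module.finrank K L) ≤ S.card) :
    ∃ c ∈ S, Algebra.adjoin K ({c • z + t} : Set L) = ⊤ := by
  classical
  let Ω : Type u := AlgebraicClosure K
  set d := Module.finrank K L with hd
  rcases Nat.eq_zero_or_pos d with h0 | hpos
  · -- `L` is trivial
    rw [h0] at hS
    simp only [mul_zero, pow_zero] at hS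
    obtain ⟨c, hc⟩ := Finset.card_pos.1 hS
    haveI : Subsingleton L := Module.finrank_zero_iff.1 (hd ▸ h0)
    exact ⟨c, hc, eq_top_iff.2 fun x _ => by rw [Subsingleton.elim x 0]; exact zero_mem _⟩
  · by_contra hcon
    push Not at hcon
    letI : Fintype (L →ₐ[K] Ω) := minpoly.AlgHom.fintype K L Ω
    have hcard : Fintype.card (L →ₐ[K] Ω) = d := by
      rw [← Nat.card_eq_fintype_card, card_algHom_eq_finrank K L Ω]
    -- for each `c ∈ S` a pair of distinct homs agreeing on `c • z + t`
    have hex : ∀ c ∈ S, ∃ q : (L →ₐ[K] Ω) × (L →ₐ[K] Ω),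
        q.1 ≠ q.2 ∧ q.1 (c • z + t) = q.2 (c • z + t) := by
      intro c hc
      by_contra hno
      push Not at hno
      apply hcon c hc
      apply adjoin_eq_top_of_injective K L Ω
      intro φ ψ h
      by_contra hne
      exact hno (φ, ψ) hne h
    haveI : Nonempty (L →ₐ[K] Ω) := Fintype.card_pos_iff.1 (hcard ▸ hpos)
    choose! f hf using hex
    have hinj : Set.InjOn f S := by
      intro c hc c' hc' hcc
      obtain ⟨hne, heq⟩ := hf c hc
      obtain ⟨-, heq'⟩ := hf c' hc'
      rw [← hcc] at heq'
      set φ := (f c).1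
      set ψ := (f c).2
      by_contra hc_ne
      apply hne
      simp only [map_add, map_smul] at heq heq'
      -- (c - c') • (φ z - ψ z) = 0
      have h1 : (c - c') • (φ z - ψ z) = 0 := by
        have : c • φ z + φ t - (c' • φ z + φ t) = c • ψ z + ψ t - (c' • ψ z + ψ t) := by
          rw [heq, heq']
        rw [sub_smul, smul_sub, smul_sub]
        linear_combination this
      have hz : φ z = ψ z := by
        rcases smul_eq_zero.1 h1 with h | h
        · exact absurd (sub_eq_zero.1 h) hc_ne
        · exact sub_eq_zero.1 h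
      have ht : φ t = ψ t := by
        rw [hz] at heq
        exact add_left_cancel heq
      apply AlgHom.ext_of_adjoin_eq_top hgen
      intro x hx
      rcases hx with rfl | rfl
      · exact hz
      · exact ht
    have hmaps : ∀ c ∈ S, f c ∈ (Finset.univ : Finset (L →ₐ[K] Ω)).offDiag := by
      intro c hc
      rw [Finset.mem_offDiag]
      exact ⟨Finset.mem_univ _, Finset.mem_univ _, (hf c hc).1⟩
    have hle := Finset.card_le_card_of_injOn f hmaps hinj
    rw [Finset.offDiag_card, Finset.card_univ, hcard] at hle
    have h2 : d * d ≤ d ^ (4 * d) := by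
      rw [← pow_two]
      exact Nat.pow_le_pow_right hpos (by omega)
    have h3 : d * d - d < d * d := Nat.sub_lt (Nat.mul_pos hpos hpos) hpos
    omega

end prim

end Groth.Agent.H66.EtAlgPrim
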