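import Mathlib
import Groth.Agent.H29.ExtPres
import Groth.Agent.S5665

/-!
# `Ext^p_A(N, Y) ≃ A/J` for `Y` invertible, `J` generated by a regular sequence of length `p`
and `N ≃ Y/JY`
-/

set_option autoImplicit false
universe u

open CategoryTheory Abelian RingTheory.Sequence
open scoped TensorProduct

namespace Groth.Agent.H66.ExtInvQuot

variable {A : Type u} [CommRing A]

section EvalEquiv

variable (Y : ModuleCat.{u} A) (J : Ideal A) (p : ℕ)
variable {N : Type u} [AddCommGroup N] [Module A N]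

/-- the evaluation map `ξ ↦ (u ↦ u^* ξ)` as a linear map -/
noncomputable def evalMap : Ext (ModuleCat.of A N) Y p →ₗ[A]
    (((A ⧸ J) →ₗ[A] N) →ₗ[A] Ext (ModuleCat.of A (A ⧸ J)) Y p) where
  toFun ξ :=
    { toFun := fun u => Groth.Agent.H29.ExtPres.pull Y p u ξ
      map_add' := fun u v => by
        unfold Groth.Agent.H29.ExtPres.pull
        rw [ModuleCat.ofHom_add, Ext.mk₀_add, Ext.add_comp]
      map_smul' := fun a u => by
        unfold Groth.Agent.H29.ExtPres.pull
        have : ModuleCat.ofHom (a • u) = a • ModuleCat.ofHom u := rfl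
        rw [this, Ext.mk₀_smul, Ext.smul_comp, RingHom.id_apply] }
  map_add' ξ ξ' := by
    ext u
    change Groth.Agent.H29.ExtPres.pull Y p u (ξ + ξ') = _
    unfold Groth.Agent.H29.ExtPres.pull
    rw [Ext.comp_add]
    rfl
  map_smul' a ξ := by
    ext u
    change Groth.Agent.H29.ExtPres.pull Y p u (a • ξ) = _
    unfold Groth.Agent.H29.ExtPres.pull
    rw [Ext.comp_smul]
    rfl

theorem evalMap_apply (ξ : Ext (ModuleCat.of A N) Y p) (u : (A ⧸ J) →ₗ[A] N) :
    evalMap Y J p ξ u = Groth.Agent.H29.ExtPres.pull Y p u ξ := rfl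

variable {Y J p}

/-- the evaluation map is an isomorphism under the vanishing hypothesis -/
noncomputable def evalEquiv [IsNoetherianRing A] [Module.Finite A N]
    (hV : Groth.Agent.H29.ExtPres.Vanishing Y J p) (hN : J • (⊤ : Submodule A N) = ⊥) :
    Ext (ModuleCat.of A N) Y p ≃ₗ[A]
      (((A ⧸ J) →ₗ[A] N) →ₗ[A] Ext (ModuleCat.of A (A ⧸ J)) Y p) :=
  LinearEquiv.ofBijective (evalMap Y J p) ⟨by
    rw [injective_iff_map_eq_zero]
    intro ξ h
    exact Groth.Agent.H29.ExtPres.eval_injective hV hN ξ (fun u => by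
      rw [← evalMap_apply (J := J), h]; rfl), by
    intro g
    obtain ⟨ξ, hξ⟩ := Groth.Agent.H29.ExtPres.eval_surjective hV hN g
    exact ⟨ξ, LinearMap.ext fun u => (hξ u).symm⟩⟩

/-- `Hom_A(A/J, N) ≃ N` for `N` killed by `J` -/
noncomputable def homQuotEquiv (hN : J • (⊤ : Submodule A N) = ⊥) :
    ((A ⧸ J) →ₗ[A] N) ≃ₗ[A] N where
  toFun u := u 1
  map_add' _ _ := rfl
  map_smul' _ _ := rfl
  invFun x := Groth.Agent.H29.ExtPres.toPt J hN x
  left_inv u := Groth.Agent.H29.ExtPres.toPt_apply_one J hN u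
  right_inv x := by
    have := Groth.Agent.H29.ExtPres.toPt_mk J hN x (1 : A)
    rw [map_one (Ideal.Quotient.mk J), one_smul] at this
    exact this

end EvalEquiv

section Vanishing

variable [IsNoetherianRing A]

theorem support_subset_of_killed {J : Ideal A} (N : Type u) [AddCommGroup N] [Module A N]
    (hN : J • (⊤ : Submodule A N) = ⊥) : Module.support A N ⊆ PrimeSpectrum.zeroLocus J := by
  intro p hp
  rw [Module.mem_support_iff_exists_annihilator] at hp
  obtain ⟨m, hm⟩ := hp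
  rw [PrimeSpectrum.mem_zeroLocus]
  intro a ha
  apply hm
  rw [Submodule.mem_annihilator]
  intro n _
  exact Groth.Agent.H29.ExtPres.smul_eq_zero_of_killed hN ha n

theorem vanishing (xs : List A) (Y : Type u) [AddCommGroup Y] [Module A Y] [Module.Finite A Y]
    (hreg : IsWeaklyRegular Y xs) (hne : Ideal.ofList xs • (⊤ : Submodule A Y) ≠ ⊤) :
    Groth.Agent.H29.ExtPres.Vanishing (ModuleCat.of A Y) (Ideal.ofList xs) xs.length := by
  intro N' _ _ _ hN' i hi
  haveI : Module.Finite A (ModuleCat.of A N') := inferInstanceAs (Module.Finite A N')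
  haveI : Module.Finite A (ModuleCat.of A Y) := inferInstanceAs (Module.Finite A Y)
  exact ModuleCat.subsingleton_ext_of_exists_isRegular (Ideal.ofList xs) (ModuleCat.of A N')
    (support_subset_of_killed N' hN') (ModuleCat.of A Y) (lt_top_iff_ne_top.mpr hne) xs
    (fun r hr => Ideal.subset_span hr) ⟨hreg, hne.symm⟩ i hi

theorem smul_top_ne_top_of_invertible (J : Ideal A) (hJ : J ≠ ⊤) (Y : Type u) [AddCommGroup Y]
    [Module A Y] [Module.Invertible A Y] : J • (⊤ : Submodule A Y) ≠ ⊤ := by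
  intro h
  obtain ⟨r, hr, hr0⟩ := Submodule.exists_sub_one_mem_and_smul_eq_zero_of_fg_of_le_smul J
    (⊤ : Submodule A Y) Module.Finite.fg_top (le_of_eq h.symm)
  have h0 : r = 0 := by
    apply FaithfulSMul.eq_of_smul_eq_smul (α := Y)
    intro y
    rw [hr0 y Submodule.mem_top, zero_smul]
  rw [h0, zero_sub] at hr
  apply hJ
  rw [Ideal.eq_top_iff_one]
  simpa using J.neg_mem hr

end Vanishing

section EndQuot

/-- `A/J ≃ End_A((A/J) ⊗ Y)` for `Y` invertible -/
theorem nonempty_end_equiv (J : Ideal A) (Y : Type u) [AddCommGroup Y] [Module A Y]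
    [Module.Invertible A Y] :
    Nonempty ((((A ⧸ J) ⊗[A] Y) →ₗ[A] ((A ⧸ J) ⊗[A] Y)) ≃ₗ[A] (A ⧸ J)) := by
  have hsurj : Function.Surjective (algebraMap A (A ⧸ J)) := Ideal.Quotient.mk_surjective
  have hbij := Module.Invertible.toModuleEnd_bijective (A ⧸ J) ((A ⧸ J) ⊗[A] Y)
  let ψ : (A ⧸ J) →ₗ[A] (((A ⧸ J) ⊗[A] Y) →ₗ[A] ((A ⧸ J) ⊗[A] Y)) :=
    { toFun := fun b => (LinearMap.lsmul (A ⧸ J) ((A ⧸ J) ⊗[A] Y) b).restrictScalars A
      map_add' := fun b b' => by
        refine LinearMap.ext fun x => ?_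
        simp [add_smul]
      map_smul' := fun a b => by
        refine LinearMap.ext fun x => ?_
        simp }
  have hψ : ∀ b x, ψ b x = b • x := fun b x => rfl
  refine ⟨(LinearEquiv.ofBijective ψ ⟨?_, ?_⟩).symm⟩
  · rw [injective_iff_map_eq_zero]
    intro b hb
    apply hbij.1
    rw [map_zero]
    refine LinearMap.ext fun x => ?_
    have := congrArg (fun f => f x) hb
    simpa [hψ] using this
  · intro f
    obtain ⟨b, hb⟩ := hbij.2 (f.extendScalarsOfSurjective hsurj)
    refine ⟨b, LinearMap.ext fun x => ?_⟩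
    have := congrArg (fun g => g x) hb
    simpa [hψ] using this

end EndQuot

section Main

theorem subsingleton_ext_of_subsingleton (N : Type u) [AddCommGroup N] [Module A N]
    [Subsingleton N] (Y : ModuleCat.{u} A) (p : ℕ) :
    Subsingleton (Ext (ModuleCat.of A N) Y p) := by
  refine ⟨fun ξ ξ' => ?_⟩
  have h0 : 𝟙 (ModuleCat.of A N) = 0 := by
    ext x
    exact Subsingleton.elim _ _
  have h1 : ∀ ζ : Ext (ModuleCat.of A N) Y p, ζ = 0 := fun ζ => by
    rw [← Ext.mk₀_id_comp ζ, h0, Ext.mk₀_zero, Ext.zero_comp]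
  rw [h1 ξ, h1 ξ']

/-- **Main theorem.** -/
theorem nonempty_ext_equiv [IsNoetherianRing A] (xs : List A) (hreg : IsWeaklyRegular A xs)
    (Y : Type u) [AddCommGroup Y] [Module A Y] [Module.Invertible A Y]
    (N : Type u) [AddCommGroup N] [Module A N] [Module.Finite A N]
    (hN : Ideal.ofList xs • (⊤ : Submodule A N) = ⊥)
    (e : N ≃ₗ[A] (Y ⧸ Ideal.ofList xs • (⊤ : Submodule A Y))) :
    Nonempty (Ext (ModuleCat.of A N) (ModuleCat.of A Y) xs.length ≃ₗ[A]
      (A ⧸ Ideal.ofList xs)) := by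
  by_cases hJ : Ideal.ofList xs = ⊤
  · haveI : Subsingleton N := by
      rw [hJ, Submodule.top_smul] at hN
      exact (Submodule.subsingleton_iff A).mp (subsingleton_of_bot_eq_top hN.symm)
    haveI := subsingleton_ext_of_subsingleton N (ModuleCat.of A Y) xs.length
    haveI : Subsingleton (A ⧸ Ideal.ofList xs) := Ideal.Quotient.subsingleton_iff.mpr hJ
    exact ⟨LinearEquiv.ofSubsingleton _ _⟩
  · have hY : IsWeaklyRegular Y xs :=
      ((TensorProduct.rid A Y).isWeaklyRegular_congr xs).mp (hreg.isWeaklyRegular_lTensor (M₂ := Y))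
    have hV := vanishing xs Y hY (smul_top_ne_top_of_invertible _ hJ Y)
    obtain ⟨e1⟩ := Groth.Agent.S5665.result A xs hreg Y
    obtain ⟨e2⟩ := nonempty_end_equiv (Ideal.ofList xs) Y
    let e3 := TensorProduct.quotTensorEquivQuotSMul Y (Ideal.ofList xs)
    exact ⟨evalEquiv hV hN ≪≫ₗ LinearEquiv.arrowCongr (homQuotEquiv hN) e1 ≪≫ₗ
      LinearEquiv.arrowCongr (e ≪≫ₗ e3.symm) e3.symm ≪≫ₗ e2⟩

end Main

end Groth.Agent.H66.ExtInvQuot
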