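import Mathlib
import Groth.Agent.H66.FTFieldN2

/-!
# Finite type domains over a field are Japanese, universe-polymorphic version (helper66)
-/

set_option autoImplicit false

open scoped nonZeroDivisors

namespace Groth.Agent.H66.FTFieldN2

universe u₀ u₁ u₂ u₃

theorem finite_integralClosure_of_algEquiv {R L L' : Type*} [CommRing R] [CommRing L]
    [CommRing L'] [Algebra R L] [Algebra R L'] (e : L ≃ₐ[R] L')
    (h : Module.Finite R (integralClosure R L)) : Module.Finite R (integralClosure R L') := by
  rw [← integralClosure_map_algEquiv e]
  exact Module.Finite.equiv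
    (Subalgebra.equivMapOfInjective (integralClosure R L) (e : L →ₐ[R] L') e.injective).toLinearEquiv

theorem main' (k : Type u₀) (A : Type u₁) (K : Type u₂) (L : Type u₃)
    [Field k] [CommRing A] [IsDomain A]
    [Algebra k A] [Algebra.FiniteType k A] [Field K] [Field L] [Algebra A K] [IsFractionRing A K]
    [Algebra K L] [FiniteDimensional K L] [Algebra A L] [IsScalarTower A K L] :
    Module.Finite A (integralClosure A L) := by
  classical
  obtain ⟨s, g, hginj, hgfin⟩ := exists_finite_inj_algHom_of_fg k A
  let P := MvPolynomial (Fin s) k
  have hP : CAlg.IsN2 P := isN2_mvPolynomial k s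
  letI : Algebra P A := g.toRingHom.toAlgebra
  haveI : Module.Finite P A := hgfin
  haveI : Algebra.IsIntegral P A := Algebra.IsIntegral.of_finite P A
  haveI : FaithfulSMul P A := (faithfulSMul_iff_algebraMap_injective P A).mpr hginj
  letI : Algebra P K := ((algebraMap A K).comp (algebraMap P A)).toAlgebra
  haveI : IsScalarTower P A K := IsScalarTower.of_algebraMap_eq (fun _ => rfl)
  letI : Algebra P L := ((algebraMap A L).comp (algebraMap P A)).toAlgebra
  haveI : IsScalarTower P A L := IsScalarTower.of_algebraMap_eq (fun _ => rfl)
  have hAK : Function.Injective (algebraMap A K) := IsFractionRing.injective A K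
  have hAL : Function.Injective (algebraMap A L) := by
    rw [IsScalarTower.algebraMap_eq A K L]
    exact (algebraMap K L).injective.comp hAK
  haveI : FaithfulSMul P K :=
    (faithfulSMul_iff_algebraMap_injective P K).mpr (hAK.comp hginj)
  haveI : FaithfulSMul P L :=
    (faithfulSMul_iff_algebraMap_injective P L).mpr (hAL.comp hginj)
  letI : Algebra (FractionRing P) K := FractionRing.liftAlgebra P K
  letI : Algebra (FractionRing P) L := FractionRing.liftAlgebra P L
  haveI : IsScalarTower P (FractionRing P) K := FractionRing.isScalarTower_liftAlgebra P K
  haveI : IsScalarTower P (FractionRing P) L := FractionRing.isScalarTower_liftAlgebra P L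
  haveI : IsScalarTower (FractionRing P) K L := by
    apply IsScalarTower.of_algebraMap_eq'
    apply IsLocalization.ringHom_ext P⁰
    refine RingHom.ext fun p => ?_
    simp only [RingHom.comp_apply]
    rw [← IsScalarTower.algebraMap_apply P (FractionRing P) L,
      ← IsScalarTower.algebraMap_apply P (FractionRing P) K]
    change algebraMap A L (algebraMap P A p) = algebraMap K L (algebraMap A K (algebraMap P A p))
    rw [← IsScalarTower.algebraMap_apply A K L]
  haveI : Module.Finite (FractionRing P) K := Module.Finite.of_isLocalization P A P⁰
  haveI : Module.Finite (FractionRing P) L := Module.Finite.trans K L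
  -- shrink `L` to the universe of `k`
  haveI : Small.{u₀} L := Module.Finite.small.{u₀} (FractionRing P) L
  let L₀ := Shrink.{u₀} L
  let e : L₀ ≃ₐ[P] L := Shrink.algEquiv P L
  let e' : L₀ ≃ₐ[FractionRing P] L := Shrink.algEquiv (FractionRing P) L
  haveI : IsScalarTower P (FractionRing P) L₀ := by
    apply IsScalarTower.of_algebraMap_eq
    intro p
    apply e.injective
    rw [e.commutes]
    have : e (algebraMap (FractionRing P) L₀ (algebraMap P (FractionRing P) p)) =
        e' (algebraMap (FractionRing P) L₀ (algebraMap P (FractionRing P) p)) := rfl
    rw [this, e'.commutes, ← IsScalarTower.algebraMap_apply]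
  haveI : Module.Finite (FractionRing P) L₀ := Module.Finite.equiv e'.symm.toLinearEquiv
  have h₀ := hP L₀ inferInstance
  have h : Module.Finite P (integralClosure P L) := finite_integralClosure_of_algEquiv e h₀
  -- transfer generators
  have hfg : (Subalgebra.toSubmodule (integralClosure P L)).FG := Module.Finite.iff_fg.mp h
  obtain ⟨T, hT⟩ := hfg
  have hmem : ∀ x : L, x ∈ integralClosure A L ↔ x ∈ integralClosure P L := by
    intro x
    constructor
    · intro hx
      exact isIntegral_trans (R := P) (A := A) x hx
    · intro hx
      exact IsIntegral.tower_top (A := A) hx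
  have hspan : Submodule.span A (T : Set L) = Subalgebra.toSubmodule (integralClosure A L) := by
    apply le_antisymm
    · rw [Submodule.span_le]
      intro y hy
      have : y ∈ Subalgebra.toSubmodule (integralClosure P L) := by
        rw [← hT]; exact Submodule.subset_span hy
      exact (hmem y).mpr this
    · intro x hx
      have hx' : x ∈ Subalgebra.toSubmodule (integralClosure P L) := (hmem x).mp hx
      rw [← hT] at hx'
      exact Submodule.span_le_restrictScalars P A (T : Set L) hx'
  exact (Module.Finite.iff_fg (N := Subalgebra.toSubmodule (integralClosure A L))).mpr ⟨T, hspan⟩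

end Groth.Agent.H66.FTFieldN2
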