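import Mathlib.FieldTheory.Finite.Polynomial
import Mathlib.RingTheory.Ideal.Quotient.Operations

set_option autoImplicit false
universe u

namespace Groth.Agent.H66

open MvPolynomial

/-- In a commutative ring, if `x ^ q = x` with `2 ≤ q`, every power of `x` equals a power of
exponent at most `q - 1`. -/
theorem exists_small_pow {A : Type u} [CommRing A] {q : ℕ} (hq : 2 ≤ q) (x : A) (hx : x ^ q = x)
    (k : ℕ) : ∃ k' : ℕ, k' ≤ q - 1 ∧ x ^ k = x ^ k' := by
  induction k using Nat.strong_induction_on with
  | _ k ih =>
    by_cases hk : k ≤ q - 1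
    · exact ⟨k, hk, rfl⟩
    · have hkq : q ≤ k := by omega
      obtain ⟨k', hk', hkk'⟩ := ih (k - q + 1) (by omega)
      refine ⟨k', hk', ?_⟩
      rw [← hkk']
      calc x ^ k = x ^ (k - q) * x ^ q := by rw [← pow_add]; congr 1; omega
        _ = x ^ (k - q + 1) := by rw [hx, pow_succ]

/-- vanishing on all points forces zero for restricted degree, variables indexed by `Fin n` -/
theorem eq_zero_of_eval_eq_zero_fin (K : Type u) [Field K] [Fintype K] (n : ℕ)
    (p : MvPolynomial (Fin n) K) (h : ∀ v : Fin n → K, eval v p = 0)
    (hp : p ∈ restrictDegree (Fin n) K (Fintype.card K - 1)) : p = 0 := by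
  classical
  let e : Fin n → ULift.{u} (Fin n) := ULift.up
  have he : Function.Injective e := ULift.up_injective
  apply rename_injective e he
  rw [map_zero]
  apply MvPolynomial.eq_zero_of_eval_eq_zero (ULift.{u} (Fin n)) K
  · intro v
    rw [eval_rename]
    exact h _
  · rw [mem_restrictDegree] at hp ⊢
    intro s hs i
    rw [support_rename_of_injective he, Finset.mem_image] at hs
    obtain ⟨s', hs', rfl⟩ := hs
    obtain ⟨j⟩ := i
    have : (Finsupp.mapDomain e s') (e j) = s' j := Finsupp.mapDomain_apply he s' j
    rw [show (ULift.up j : ULift.{u} (Fin n)) = e j from rfl, this]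
    exact hp s' hs' j

theorem vanish_iff_mem_span (K : Type u) [Field K] [Fintype K]
    (n : ℕ) (p : MvPolynomial (Fin n) K) :
    (∀ a : Fin n → K, eval a p = 0) ↔
      p ∈ Ideal.span (Set.range fun i : Fin n =>
        (X i ^ Fintype.card K - X i : MvPolynomial (Fin n) K)) := by
  classical
  set q := Fintype.card K with hq
  have hq2 : 2 ≤ q := Fintype.one_lt_card
  set I : Ideal (MvPolynomial (Fin n) K) := Ideal.span (Set.range fun i : Fin n =>
        (X i ^ q - X i : MvPolynomial (Fin n) K)) with hI
  have hIeval : ∀ f ∈ I, ∀ a : Fin n → K, eval a f = 0 := by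
    intro f hf a
    have hle : I ≤ RingHom.ker (eval a) := by
      rw [hI, Ideal.span_le]
      rintro _ ⟨i, rfl⟩
      rw [SetLike.mem_coe, RingHom.mem_ker, map_sub, map_pow, eval_X, hq, FiniteField.pow_card,
        sub_self]
    exact hle hf
  constructor
  · intro hp
    -- reduction modulo I to restricted degree
    have hred : ∀ f : MvPolynomial (Fin n) K,
        ∃ r ∈ restrictDegree (Fin n) K (q - 1), f - r ∈ I := by
      intro f
      induction f using MvPolynomial.induction_on' with
      | monomial s a =>
        have hx : ∀ i : Fin n, (Ideal.Quotient.mk I (X i)) ^ q = Ideal.Quotient.mk I (X i) := by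
          intro i
          rw [← map_pow, ← sub_eq_zero, ← map_sub, Ideal.Quotient.eq_zero_iff_mem]
          exact Ideal.subset_span ⟨i, rfl⟩
        choose s' hs' hss' using fun i => exists_small_pow hq2 _ (hx i) (s i)
        let t : Fin n →₀ ℕ := Finsupp.equivFunOnFinite.symm s'
        refine ⟨monomial t a, ?_, ?_⟩
        · rw [mem_restrictDegree]
          intro u hu i
          have : u = t := by
            by_contra hne
            rw [mem_support_iff, coeff_monomial, if_neg (Ne.symm hne)] at hu
            exact hu rfl
          rw [this]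
          exact hs' i
        · rw [← Ideal.Quotient.eq_zero_iff_mem, map_sub, sub_eq_zero, monomial_eq, monomial_eq,
            map_mul, map_mul, Finsupp.prod_fintype _ _ (fun i => pow_zero _),
            Finsupp.prod_fintype _ _ (fun i => pow_zero _), map_prod, map_prod]
          congr 1
          refine Finset.prod_congr rfl fun i _ => ?_
          rw [map_pow, map_pow, hss' i]
          rfl
      | add f g hf hg =>
        obtain ⟨r₁, hr₁, h₁⟩ := hf
        obtain ⟨r₂, hr₂, h₂⟩ := hg
        refine ⟨r₁ + r₂, Submodule.add_mem _ hr₁ hr₂, ?_⟩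
        have : f + g - (r₁ + r₂) = (f - r₁) + (g - r₂) := by ring
        rw [this]
        exact I.add_mem h₁ h₂
    obtain ⟨r, hr, hpr⟩ := hred p
    have hr0 : r = 0 := by
      apply eq_zero_of_eval_eq_zero_fin K n r _ hr
      intro v
      have h1 := hIeval _ hpr v
      rw [map_sub, hp v, zero_sub, neg_eq_zero] at h1
      exact h1
    rw [hr0, sub_zero] at hpr
    exact hpr
  · intro hp a
    exact hIeval p hp a

end Groth.Agent.H66
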