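import Mathlib

/-!
# `SL_n` is étale-locally contained in the commutator subgroup of `GL_n`
-/

set_option autoImplicit false
set_option linter.unusedSectionVars false
universe u

open scoped commutatorElement
open Matrix

namespace Groth.Agent.H66.SLComm

section basic

variable {ι : Type*} [Fintype ι] [DecidableEq ι] {B : Type*} [CommRing B]

/-- Invertible diagonal matrices. -/
def diagGL : (ι → Bˣ) →* (Matrix ι ι B)ˣ where
  toFun d := ⟨Matrix.diagonal (fun i => (d i : B)), Matrix.diagonal (fun i => ((d i)⁻¹ : Bˣ)),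
    by rw [Matrix.diagonal_mul_diagonal]; simp, by rw [Matrix.diagonal_mul_diagonal]; simp⟩
  map_one' := by
    apply Units.ext
    show Matrix.diagonal (fun i => (((1 : ι → Bˣ) i : Bˣ) : B)) = 1
    simp
  map_mul' a b := by
    apply Units.ext
    show Matrix.diagonal (fun i => (((a * b) i : Bˣ) : B)) =
      Matrix.diagonal (fun i => (a i : B)) * Matrix.diagonal (fun i => (b i : B))
    rw [Matrix.diagonal_mul_diagonal]
    simp

theorem diagGL_val (d : ι → Bˣ) :
    ((diagGL d : (Matrix ι ι B)ˣ) : Matrix ι ι B) = Matrix.diagonal (fun i => (d i : B)) := rfl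

/-- The diagonal matrix with a single entry `e` at position `i`. -/
def delta (i : ι) : Bˣ →* (Matrix ι ι B)ˣ :=
  diagGL.comp (MonoidHom.mulSingle (fun _ : ι => Bˣ) i)

theorem delta_val (i : ι) (e : Bˣ) :
    ((delta i e : (Matrix ι ι B)ˣ) : Matrix ι ι B) =
      Matrix.diagonal (fun j => ((Pi.mulSingle i e : ι → Bˣ) j : B)) := rfl

/-- The permutation matrices as units. -/
noncomputable def permGL : Equiv.Perm ι →* (Matrix ι ι B)ˣ :=
  (Matrix.permMatrixHom (n := ι) (R := B)).toHomUnits

theorem permGL_conj_diagGL (σ : Equiv.Perm ι) (d : ι → Bˣ) :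
    (permGL σ : (Matrix ι ι B)ˣ) * diagGL d * (permGL σ)⁻¹ =
      diagGL (fun i => d (σ.symm i)) := by
  apply Units.ext
  rw [← map_inv, Units.val_mul, Units.val_mul, diagGL_val, diagGL_val]
  show (σ⁻¹).permMatrix B * _ * (σ⁻¹⁻¹).permMatrix B = _
  rw [inv_inv, Equiv.Perm.permMatrix, Equiv.Perm.permMatrix, PEquiv.toMatrix_toPEquiv_mul,
    PEquiv.mul_toMatrix_toPEquiv, Matrix.submatrix_submatrix]
  show (Matrix.diagonal (fun i => (d i : B))).submatrix σ.symm σ.symm = _
  rw [Matrix.submatrix_diagonal_equiv]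
  rfl

/-- All the `delta i e` have the same class in the abelianization. -/
theorem of_delta_eq (i j : ι) (e : Bˣ) :
    (Abelianization.of (delta i e) : Abelianization (Matrix ι ι B)ˣ) =
      Abelianization.of (delta j e) := by
  have h1 := permGL_conj_diagGL (B := B) (Equiv.swap i j) (Pi.mulSingle i e)
  have h2 : (fun a => (Pi.mulSingle i e : ι → Bˣ) ((Equiv.swap i j).symm a)) =
      Pi.mulSingle j e := by
    funext a
    rw [Equiv.symm_swap]
    by_cases ha : a = j
    · subst ha
      rw [Equiv.swap_apply_right, Pi.mulSingle_eq_same, Pi.mulSingle_eq_same]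
    · rw [Pi.mulSingle_eq_of_ne ha]
      by_cases ha' : a = i
      · subst ha'
        rw [Equiv.swap_apply_left]
        by_cases h3 : j = a
        · exact absurd h3.symm ha
        · rw [Pi.mulSingle_eq_of_ne h3]
      · rw [Equiv.swap_apply_of_ne_of_ne ha' ha, Pi.mulSingle_eq_of_ne ha']
  rw [h2] at h1
  show Abelianization.of (diagGL (Pi.mulSingle i e)) =
    Abelianization.of (diagGL (Pi.mulSingle j e))
  rw [← h1, map_mul, map_mul, map_inv, mul_comm, inv_mul_cancel_left]

/-- The determinant of `delta i e`. -/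
theorem det_delta (i : ι) (e : Bˣ) :
    Matrix.GeneralLinearGroup.det (delta i e : (Matrix ι ι B)ˣ) = e := by
  apply Units.ext
  rw [Matrix.GeneralLinearGroup.val_det_apply, delta_val, Matrix.det_diagonal]
  rw [Finset.prod_eq_single i]
  · simp
  · intro j _ hj
    simp [Pi.mulSingle_eq_of_ne hj]
  · intro h
    exact absurd (Finset.mem_univ i) h

theorem map_delta {B' : Type*} [CommRing B'] (φ : B →+* B') (i : ι) (e : Bˣ) :
    Matrix.GeneralLinearGroup.map φ (delta i e : (Matrix ι ι B)ˣ) =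
      delta i (Units.map (φ : B →* B') e) := by
  apply Units.ext
  ext a b
  show φ ((delta i e : (Matrix ι ι B)ˣ).val a b) = _
  rw [delta_val, delta_val]
  by_cases hab : a = b
  · subst hab
    rw [Matrix.diagonal_apply_eq, Matrix.diagonal_apply_eq]
    by_cases hai : a = i
    · subst hai
      simp
    · simp [Pi.mulSingle_eq_of_ne hai]
  · rw [Matrix.diagonal_apply_ne _ hab, Matrix.diagonal_apply_ne _ hab, map_zero]

/-- `g` is a diagonal matrix `delta i e` up to commutators. -/
def Good (g : (Matrix ι ι B)ˣ) : Prop :=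
  ∀ i : ι, ∃ e : Bˣ, (Abelianization.of g : Abelianization (Matrix ι ι B)ˣ) =
    Abelianization.of (delta i e)

theorem Good.of_eq {g g' : (Matrix ι ι B)ˣ}
    (h : (Abelianization.of g : Abelianization (Matrix ι ι B)ˣ) = Abelianization.of g')
    (hg : Good g') : Good g := by
  intro i
  obtain ⟨e, he⟩ := hg i
  exact ⟨e, h.trans he⟩

theorem Good.map {B' : Type*} [CommRing B'] (φ : B →+* B') {g : (Matrix ι ι B)ˣ}
    (hg : Good g) : Good (Matrix.GeneralLinearGroup.map φ g) := by
  intro i
  obtain ⟨e, he⟩ := hg i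
  refine ⟨Units.map (φ : B →* B') e, ?_⟩
  have := congrArg (Abelianization.map (Matrix.GeneralLinearGroup.map (n := ι) φ)) he
  rw [Abelianization.map_of, Abelianization.map_of, map_delta] at this
  exact this

theorem Good.mem_commutator [Nonempty ι] {g : (Matrix ι ι B)ˣ} (hg : Good g)
    (hdet : (g : Matrix ι ι B).det = 1) : g ∈ commutator (Matrix ι ι B)ˣ := by
  obtain ⟨i⟩ := ‹Nonempty ι›
  obtain ⟨e, he⟩ := hg i
  let detAb : Abelianization (Matrix ι ι B)ˣ →* Bˣ :=
    Abelianization.lift (Matrix.GeneralLinearGroup.det (n := ι) (R := B))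
  have h1 := congrArg detAb he
  simp only [detAb, Abelianization.lift_apply_of] at h1
  rw [det_delta] at h1
  have h2 : Matrix.GeneralLinearGroup.det g = 1 := by
    apply Units.ext
    rw [Matrix.GeneralLinearGroup.val_det_apply, hdet, Units.val_one]
  rw [h2] at h1
  rw [← h1, map_one, map_one] at he
  rw [← Abelianization.ker_of]
  exact he

end basic

section blocks

variable {α β : Type*} [Fintype α] [DecidableEq α] [Fintype β] [DecidableEq β]
  {B : Type*} [CommRing B]

/-- The ring has a unit `u` with `u - 1` a unit. -/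
def Star (B : Type*) [CommRing B] : Prop := ∃ u : Bˣ, IsUnit ((u : B) - 1)

theorem Star.map {B' : Type*} [CommRing B'] (φ : B →+* B') (h : Star B) : Star B' := by
  obtain ⟨u, hu⟩ := h
  refine ⟨Units.map (φ : B →* B') u, ?_⟩
  have := hu.map φ
  simpa using this

/-- Upper unipotent block matrices. -/
def upperU (v : Matrix α β B) : (Matrix (α ⊕ β) (α ⊕ β) B)ˣ :=
  ⟨fromBlocks 1 v 0 1, fromBlocks 1 (-v) 0 1,
    by rw [fromBlocks_multiply]; simp [fromBlocks_one],
    by rw [fromBlocks_multiply]; simp [fromBlocks_one]⟩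

/-- Lower unipotent block matrices. -/
def lowerU (w : Matrix β α B) : (Matrix (α ⊕ β) (α ⊕ β) B)ˣ :=
  ⟨fromBlocks 1 0 w 1, fromBlocks 1 0 (-w) 1,
    by rw [fromBlocks_multiply]; simp [fromBlocks_one],
    by rw [fromBlocks_multiply]; simp [fromBlocks_one]⟩

/-- Block embedding in the upper left corner. -/
def embL : (Matrix α α B)ˣ →* (Matrix (α ⊕ β) (α ⊕ β) B)ˣ where
  toFun S := ⟨fromBlocks (S : Matrix α α B) 0 0 1, fromBlocks ((S⁻¹ : (Matrix α α B)ˣ) : Matrix α α B) 0 0 1,
    by rw [fromBlocks_multiply]; simp [fromBlocks_one],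
    by rw [fromBlocks_multiply]; simp [fromBlocks_one]⟩
  map_one' := Units.ext (by simp [fromBlocks_one])
  map_mul' S T := Units.ext (by
    show fromBlocks ((S * T : (Matrix α α B)ˣ) : Matrix α α B) 0 0 1 =
      fromBlocks (S : Matrix α α B) 0 0 1 * fromBlocks (T : Matrix α α B) 0 0 1
    rw [fromBlocks_multiply]; simp)

/-- Block embedding in the lower right corner. -/
def embR : (Matrix β β B)ˣ →* (Matrix (α ⊕ β) (α ⊕ β) B)ˣ where
  toFun T := ⟨fromBlocks 1 0 0 (T : Matrix β β B), fromBlocks 1 0 0 ((T⁻¹ : (Matrix β β B)ˣ) : Matrix β β B),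
    by rw [fromBlocks_multiply]; simp [fromBlocks_one],
    by rw [fromBlocks_multiply]; simp [fromBlocks_one]⟩
  map_one' := Units.ext (by simp [fromBlocks_one])
  map_mul' S T := Units.ext (by
    show fromBlocks 1 0 0 ((S * T : (Matrix β β B)ˣ) : Matrix β β B) =
      fromBlocks 1 0 0 (S : Matrix β β B) * fromBlocks 1 0 0 (T : Matrix β β B)
    rw [fromBlocks_multiply]; simp)

/-- Scalar matrices as units. -/
def sc (u : Bˣ) : (Matrix α α B)ˣ :=
  ⟨(u : B) • (1 : Matrix α α B), ((u⁻¹ : Bˣ) : B) • (1 : Matrix α α B),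
    by rw [smul_mul_smul_comm, Units.mul_inv, one_smul, mul_one],
    by rw [smul_mul_smul_comm, Units.inv_mul, one_smul, mul_one]⟩

theorem upperU_eq_commutator (u : Bˣ) (w : Matrix α β B) :
    upperU (((u : B) - 1) • w) =
      ⁅(embL (sc u) : (Matrix (α ⊕ β) (α ⊕ β) B)ˣ), upperU w⁆ := by
  apply Units.ext
  rw [commutatorElement_def, Units.val_mul, Units.val_mul, Units.val_mul]
  show fromBlocks 1 (((u : B) - 1) • w) 0 1 =
    fromBlocks ((u : B) • (1 : Matrix α α B)) 0 0 1 * fromBlocks 1 w 0 1 *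
      fromBlocks (((u⁻¹ : Bˣ) : B) • (1 : Matrix α α B)) 0 0 1 * fromBlocks 1 (-w) 0 1
  rw [fromBlocks_multiply, fromBlocks_multiply, fromBlocks_multiply]
  congr 1
  · simp [smul_smul]
  · simp [smul_smul, sub_eq_add_neg]
    rw [add_smul, neg_smul, one_smul, add_comm]
  · simp
  · simp

theorem lowerU_eq_commutator (u : Bˣ) (w : Matrix β α B) :
    lowerU (((u : B) - 1) • w) =
      ⁅(embR (sc u) : (Matrix (α ⊕ β) (α ⊕ β) B)ˣ), lowerU w⁆ := by
  apply Units.ext
  rw [commutatorElement_def, Units.val_mul, Units.val_mul, Units.val_mul]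
  show fromBlocks 1 0 (((u : B) - 1) • w) 1 =
    fromBlocks 1 0 0 ((u : B) • (1 : Matrix β β B)) * fromBlocks 1 0 w 1 *
      fromBlocks 1 0 0 (((u⁻¹ : Bˣ) : B) • (1 : Matrix β β B)) * fromBlocks 1 0 (-w) 1
  rw [fromBlocks_multiply, fromBlocks_multiply, fromBlocks_multiply]
  congr 1
  · simp
  · simp
  · simp [smul_smul, sub_eq_add_neg]
    rw [add_smul, neg_smul, one_smul]
  · simp [smul_smul]

theorem upperU_mem_commutator (hs : Star B) (v : Matrix α β B) :
    upperU v ∈ commutator (Matrix (α ⊕ β) (α ⊕ β) B)ˣ := by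
  obtain ⟨u, hu⟩ := hs
  have hc : ((u : B) - 1) * ((hu.unit⁻¹ : Bˣ) : B) = 1 := hu.mul_val_inv
  have h1 : v = ((u : B) - 1) • ((((hu.unit⁻¹ : Bˣ) : B)) • v) := by
    rw [smul_smul, hc, one_smul]
  rw [h1, upperU_eq_commutator, commutator_eq_closure]
  exact Subgroup.subset_closure ⟨_, _, rfl⟩

theorem lowerU_mem_commutator (hs : Star B) (w : Matrix β α B) :
    lowerU w ∈ commutator (Matrix (α ⊕ β) (α ⊕ β) B)ˣ := by
  obtain ⟨u, hu⟩ := hs
  have hc : ((u : B) - 1) * ((hu.unit⁻¹ : Bˣ) : B) = 1 := hu.mul_val_inv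
  have h1 : w = ((u : B) - 1) • ((((hu.unit⁻¹ : Bˣ) : B)) • w) := by
    rw [smul_smul, hc, one_smul]
  rw [h1, lowerU_eq_commutator, commutator_eq_closure]
  exact Subgroup.subset_closure ⟨_, _, rfl⟩

theorem of_upperU (hs : Star B) (v : Matrix α β B) :
    (Abelianization.of (upperU v) : Abelianization (Matrix (α ⊕ β) (α ⊕ β) B)ˣ) = 1 := by
  have := upperU_mem_commutator hs v
  rwa [← Abelianization.ker_of] at this

theorem of_lowerU (hs : Star B) (w : Matrix β α B) :
    (Abelianization.of (lowerU w) : Abelianization (Matrix (α ⊕ β) (α ⊕ β) B)ˣ) = 1 := by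
  have := lowerU_mem_commutator hs w
  rwa [← Abelianization.ker_of] at this

theorem embL_delta (a : α) (e : Bˣ) :
    (embL (delta a e) : (Matrix (α ⊕ β) (α ⊕ β) B)ˣ) = delta (Sum.inl a) e := by
  apply Units.ext
  show fromBlocks ((delta a e : (Matrix α α B)ˣ) : Matrix α α B) 0 0 1 = _
  rw [delta_val, delta_val]
  ext i j
  rcases i with i | i <;> rcases j with j | j
  · by_cases hij : i = j
    · subst hij
      by_cases hia : i = a
      · subst hia
        simp
      · simp [Pi.mulSingle_eq_of_ne hia, Pi.mulSingle_eq_of_ne (show Sum.inl i ≠ Sum.inl a by simpa using hia)]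
    · simp [hij]
  · simp
  · simp
  · by_cases hij : i = j
    · subst hij
      simp [Pi.mulSingle_eq_of_ne (show (Sum.inr i : α ⊕ β) ≠ Sum.inl a by simp)]
    · simp [hij]

theorem map_embL {B' : Type*} [CommRing B'] (φ : B →+* B') (S : (Matrix α α B)ˣ) :
    Matrix.GeneralLinearGroup.map φ (embL S : (Matrix (α ⊕ β) (α ⊕ β) B)ˣ) =
      embL (Matrix.GeneralLinearGroup.map φ S) := by
  apply Units.ext
  ext i j
  show φ ((fromBlocks (S : Matrix α α B) 0 0 1 : Matrix (α ⊕ β) (α ⊕ β) B) i j) =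
    (fromBlocks ((Matrix.GeneralLinearGroup.map φ S : (Matrix α α B')ˣ) : Matrix α α B') 0 0 1 :
      Matrix (α ⊕ β) (α ⊕ β) B') i j
  rcases i with i | i <;> rcases j with j | j
  · rfl
  · simp
  · simp
  · simp [Matrix.one_apply]

theorem embL_eq_one [IsEmpty α] (S : (Matrix α α B)ˣ) :
    (embL S : (Matrix (α ⊕ β) (α ⊕ β) B)ˣ) = 1 := by
  have : S = 1 := Subsingleton.elim _ _
  rw [this, map_one]

end blocks

section induction

/-- Étale-local normal form for invertible matrices. -/
def Pstep (ι : Type) [Fintype ι] [DecidableEq ι] : Prop :=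
  ∀ (B : Type u) [CommRing B], Star B → ∀ (q : Ideal B) [q.IsPrime] (g : (Matrix ι ι B)ˣ),
    ∃ (B' : Type u) (_ : CommRing B') (φ : B →+* B'), φ.Etale ∧
      (∃ q' : Ideal B', q'.IsPrime ∧ q'.comap φ = q) ∧
      Good (Matrix.GeneralLinearGroup.map φ g)

theorem pstep_of_isEmpty (ι : Type) [Fintype ι] [DecidableEq ι] [IsEmpty ι] : Pstep.{u} ι := by
  intro B _ _ q _ g
  refine ⟨B, inferInstance, RingHom.id B, RingHom.Etale.of_bijective Function.bijective_id,
    ⟨q, inferInstance, Ideal.comap_id q⟩, ?_⟩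
  intro i
  exact isEmptyElim i

theorem pstep_sum (α : Type) [Fintype α] [DecidableEq α] (ih : Pstep.{u} α) :
    Pstep.{u} (α ⊕ Unit) := by
  intro B _ hs q hqp g
  classical
  set M : Matrix (α ⊕ Unit) (α ⊕ Unit) B := (g : Matrix (α ⊕ Unit) (α ⊕ Unit) B) with hM
  -- some entry of the last column is not in `q`
  have hdet : M.det ∉ q := by
    intro h
    have hu : IsUnit M.det := (Matrix.isUnit_iff_isUnit_det M).mp g.isUnit
    exact hqp.ne_top (Ideal.eq_top_of_isUnit_mem _ h hu)
  have hcol : ∃ i, M i (Sum.inr ()) ∉ q := by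
    by_contra hne
    push Not at hne
    apply hdet
    rw [← Ideal.Quotient.eq_zero_iff_mem, RingHom.map_det]
    apply Matrix.det_eq_zero_of_column_eq_zero (Sum.inr ())
    intro i
    show Ideal.Quotient.mk q (M i (Sum.inr ())) = 0
    rw [Ideal.Quotient.eq_zero_iff_mem]
    exact hne i
  obtain ⟨w0, hw0⟩ : ∃ w0 : Matrix Unit α B,
      (w0 * M.toBlocks₁₂ + M.toBlocks₂₂) () () ∉ q := by
    by_cases hd : M (Sum.inr ()) (Sum.inr ()) ∈ q
    · obtain ⟨i, hi⟩ := hcol
      rcases i with a | ⟨⟩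
      · refine ⟨Matrix.of fun _ a' => if a' = a then 1 else 0, ?_⟩
        have h1 : ((Matrix.of fun (_ : Unit) (a' : α) => if a' = a then (1 : B) else 0) *
            M.toBlocks₁₂ + M.toBlocks₂₂) () () =
            M (Sum.inl a) (Sum.inr ()) + M (Sum.inr ()) (Sum.inr ()) := by
          simp [Matrix.mul_apply, Matrix.toBlocks₁₂, Matrix.toBlocks₂₂]
        rw [h1]
        intro h
        exact hi ((Ideal.add_mem_iff_left q hd).mp h)
      · exact absurd hd hi
    · refine ⟨0, ?_⟩
      simpa [Matrix.toBlocks₂₂] using hd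
  set g0 : (Matrix (α ⊕ Unit) (α ⊕ Unit) B)ˣ := lowerU w0 * g with hg0
  have hcl0 : (Abelianization.of g : Abelianization (Matrix (α ⊕ Unit) (α ⊕ Unit) B)ˣ) =
      Abelianization.of g0 := by
    rw [hg0, map_mul, of_lowerU hs, one_mul]
  have hM0 : (g0 : Matrix (α ⊕ Unit) (α ⊕ Unit) B) =
      fromBlocks M.toBlocks₁₁ M.toBlocks₁₂ (w0 * M.toBlocks₁₁ + M.toBlocks₂₁)
        (w0 * M.toBlocks₁₂ + M.toBlocks₂₂) := by
    rw [hg0, Units.val_mul]
    show fromBlocks 1 0 w0 1 * M = _
    conv_lhs => rw [← fromBlocks_toBlocks M]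
    rw [fromBlocks_multiply]
    simp
  set d : B := (w0 * M.toBlocks₁₂ + M.toBlocks₂₂) () () with hd
  -- localize at `d`
  let B1 := Localization.Away d
  let φ1 : B →+* B1 := algebraMap B B1
  have hφ1 : φ1.Etale := by
    rw [RingHom.etale_algebraMap]
    exact Algebra.Etale.of_isLocalizationAway d
  have hdisj : Disjoint (Submonoid.powers d : Set B) (q : Set B) := by
    rw [Set.disjoint_left]
    rintro x ⟨n, rfl⟩ hx
    exact hw0 (hqp.mem_of_pow_mem n hx)
  let q1 : Ideal B1 := q.map φ1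
  have hq1 : q1.IsPrime :=
    IsLocalization.isPrime_of_isPrime_disjoint (Submonoid.powers d) B1 q hqp hdisj
  have hq1c : q1.comap φ1 = q :=
    IsLocalization.under_map_of_isPrime_disjoint (Submonoid.powers d) B1 hqp hdisj
  have hs1 : Star B1 := hs.map φ1
  have hdunit : IsUnit (φ1 d) := IsLocalization.Away.algebraMap_isUnit d
  set g1 : (Matrix (α ⊕ Unit) (α ⊕ Unit) B1)ˣ := Matrix.GeneralLinearGroup.map φ1 g0 with hg1
  set M1 : Matrix (α ⊕ Unit) (α ⊕ Unit) B1 := (g1 : Matrix (α ⊕ Unit) (α ⊕ Unit) B1) with hM1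
  have hM1entry : ∀ i j, M1 i j = φ1 ((g0 : Matrix (α ⊕ Unit) (α ⊕ Unit) B) i j) :=
    fun i j => rfl
  set S1 := M1.toBlocks₁₁ with hS1
  set v1 := M1.toBlocks₁₂ with hv1
  set w1 := M1.toBlocks₂₁ with hw1
  set D1 := M1.toBlocks₂₂ with hD1
  have hD1e : D1 () () = φ1 d := by
    show M1 (Sum.inr ()) (Sum.inr ()) = _
    rw [hM1entry, hM0]
    rfl
  have hD1u : IsUnit D1 := by
    rw [Matrix.isUnit_iff_isUnit_det, Matrix.det_unique]
    show IsUnit (D1 () ())
    rw [hD1e]
    exact hdunit
  letI : Invertible D1 := hD1u.invertible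
  have hfb : fromBlocks S1 v1 w1 D1 = M1 := fromBlocks_toBlocks M1
  have hschur := Matrix.fromBlocks_eq_of_invertible₂₂ S1 v1 w1 D1
  rw [hfb] at hschur
  have hS'u : IsUnit (S1 - v1 * ⅟D1 * w1) := by
    have h1 : IsUnit (fromBlocks S1 v1 w1 D1) := by
      rw [hfb]
      exact g1.isUnit
    exact Matrix.isUnit_fromBlocks_iff_of_invertible₂₂.mp h1
  let S'u : (Matrix α α B1)ˣ := hS'u.unit
  let d1u : B1ˣ := hdunit.unit
  have hg1eq : g1 = upperU (v1 * ⅟D1) * (embL S'u * delta (Sum.inr ()) d1u) *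
      lowerU (⅟D1 * w1) := by
    apply Units.ext
    rw [Units.val_mul, Units.val_mul, Units.val_mul]
    have hbd : ((embL S'u : (Matrix (α ⊕ Unit) (α ⊕ Unit) B1)ˣ) :
        Matrix (α ⊕ Unit) (α ⊕ Unit) B1) *
        ((delta (Sum.inr ()) d1u : (Matrix (α ⊕ Unit) (α ⊕ Unit) B1)ˣ) :
          Matrix (α ⊕ Unit) (α ⊕ Unit) B1) =
        fromBlocks (S1 - v1 * ⅟D1 * w1) 0 0 D1 := by
      show fromBlocks (S1 - v1 * ⅟D1 * w1) 0 0 1 * _ = _
      rw [delta_val]
      have h2 : Matrix.diagonal (fun j => ((Pi.mulSingle (Sum.inr ()) d1u : α ⊕ Unit → B1ˣ) j : B1)) =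
          fromBlocks 1 0 0 D1 := by
        ext i j
        rcases i with i | ⟨⟩ <;> rcases j with j | ⟨⟩
        · by_cases hij : i = j
          · subst hij
            simp [Pi.mulSingle_eq_of_ne (show (Sum.inl i : α ⊕ Unit) ≠ Sum.inr () by simp)]
          · simp [hij, Matrix.one_apply_ne hij]
        · simp
        · simp
        · simp only [Matrix.diagonal_apply_eq, Pi.mulSingle_eq_same, fromBlocks_apply₂₂]
          rw [hD1e]
          rfl
      rw [h2, fromBlocks_multiply]
      simp
    rw [hbd]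
    exact hschur
  have hcl1 : (Abelianization.of g1 : Abelianization (Matrix (α ⊕ Unit) (α ⊕ Unit) B1)ˣ) =
      Abelianization.of (embL S'u) * Abelianization.of (delta (Sum.inr ()) d1u) := by
    rw [hg1eq, map_mul, map_mul, map_mul, of_upperU hs1, of_lowerU hs1, one_mul, mul_one]
  -- induction hypothesis
  obtain ⟨B2, _, φ2, hφ2, ⟨q2, hq2, hq2c⟩, hgood⟩ := ih B1 hs1 q1 S'u
  refine ⟨B2, inferInstance, φ2.comp φ1,
    RingHom.Etale.stableUnderComposition _ _ hφ1 hφ2, ⟨q2, hq2, ?_⟩, ?_⟩
  · rw [← Ideal.comap_comap, hq2c, hq1c]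
  · have h0 : (Abelianization.of (Matrix.GeneralLinearGroup.map (φ2.comp φ1) g) :
        Abelianization (Matrix (α ⊕ Unit) (α ⊕ Unit) B2)ˣ) =
        Abelianization.of (Matrix.GeneralLinearGroup.map φ2 g1) := by
      have h := congrArg (Abelianization.map
        ((Matrix.GeneralLinearGroup.map (n := α ⊕ Unit) φ2).comp
          (Matrix.GeneralLinearGroup.map (n := α ⊕ Unit) φ1))) hcl0
      rw [Abelianization.map_of, Abelianization.map_of] at h
      exact h
    apply Good.of_eq h0
    have h1 := congrArg (Abelianization.map (Matrix.GeneralLinearGroup.map (n := α ⊕ Unit) φ2)) hcl1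
    rw [map_mul, Abelianization.map_of, Abelianization.map_of, Abelianization.map_of, map_embL,
      map_delta] at h1
    have h2 : ∃ e : B2ˣ, (Abelianization.of (Matrix.GeneralLinearGroup.map φ2 g1) :
        Abelianization (Matrix (α ⊕ Unit) (α ⊕ Unit) B2)ˣ) =
        Abelianization.of (delta (Sum.inr ()) e) := by
      rcases isEmpty_or_nonempty α with hα | ⟨⟨a⟩⟩
      · refine ⟨Units.map (φ2 : B1 →* B2) d1u, ?_⟩
        rw [h1, embL_eq_one, map_one, one_mul]
      · obtain ⟨e, he⟩ := hgood a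
        refine ⟨e * Units.map (φ2 : B1 →* B2) d1u, ?_⟩
        rw [h1, map_mul (delta (Sum.inr ())), map_mul Abelianization.of]
        congr 1
        have h3 := congrArg (Abelianization.map (embL (α := α) (β := Unit) (B := B2))) he
        rw [Abelianization.map_of, Abelianization.map_of, embL_delta] at h3
        rw [h3]
        exact of_delta_eq _ _ e
    obtain ⟨e, he⟩ := h2
    intro i
    exact ⟨e, he.trans (of_delta_eq _ _ e)⟩

end induction

section reindexing

variable {ι κ : Type*} [Fintype ι] [DecidableEq ι] [Fintype κ] [DecidableEq κ]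
  {B : Type*} [CommRing B]

/-- Reindexing invertible matrices. -/
def reGL (e : ι ≃ κ) : (Matrix ι ι B)ˣ ≃* (Matrix κ κ B)ˣ :=
  Units.mapEquiv (Matrix.reindexRingEquiv B e).toMulEquiv

theorem reGL_val (e : ι ≃ κ) (g : (Matrix ι ι B)ˣ) :
    ((reGL e g : (Matrix κ κ B)ˣ) : Matrix κ κ B) =
      (g : Matrix ι ι B).submatrix e.symm e.symm := rfl

theorem reGL_delta (e : ι ≃ κ) (i : ι) (x : Bˣ) :
    reGL e (delta i x : (Matrix ι ι B)ˣ) = delta (e i) x := by
  apply Units.ext
  rw [reGL_val, delta_val, delta_val, Matrix.submatrix_diagonal_equiv]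
  congr 1
  funext k
  show ((Pi.mulSingle i x : ι → Bˣ) (e.symm k) : B) = _
  by_cases hk : k = e i
  · subst hk
    simp
  · have : e.symm k ≠ i := fun h => hk (by rw [← h, e.apply_symm_apply])
    rw [Pi.mulSingle_eq_of_ne this, Pi.mulSingle_eq_of_ne hk]

theorem map_reGL {B' : Type*} [CommRing B'] (φ : B →+* B') (e : ι ≃ κ) (g : (Matrix ι ι B)ˣ) :
    Matrix.GeneralLinearGroup.map φ (reGL e g) = reGL e (Matrix.GeneralLinearGroup.map φ g) := by
  apply Units.ext
  ext a b
  rfl

theorem good_reGL (e : ι ≃ κ) {g : (Matrix ι ι B)ˣ} (hg : Good g) : Good (reGL e g) := by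
  intro k
  obtain ⟨x, hx⟩ := hg (e.symm k)
  refine ⟨x, ?_⟩
  have h := congrArg (Abelianization.map (reGL (B := B) e).toMonoidHom) hx
  rw [Abelianization.map_of, Abelianization.map_of] at h
  show Abelianization.of (reGL e g) = _
  have h2 : (reGL (B := B) e).toMonoidHom (delta (e.symm k) x) = delta k x := by
    show reGL e (delta (e.symm k) x) = _
    rw [reGL_delta, e.apply_symm_apply]
  rw [h2] at h
  exact h

end reindexing

section final

theorem pstep_equiv {ι κ : Type} [Fintype ι] [DecidableEq ι] [Fintype κ] [DecidableEq κ]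
    (e : ι ≃ κ) (h : Pstep.{u} ι) : Pstep.{u} κ := by
  intro B _ hs q _ g
  obtain ⟨B', _, φ, hφ, hq, hgood⟩ := h B hs q ((reGL e).symm g)
  refine ⟨B', inferInstance, φ, hφ, hq, ?_⟩
  have h1 := good_reGL e hgood
  rw [← map_reGL, MulEquiv.apply_symm_apply] at h1
  exact h1

theorem pstep_fin (n : ℕ) : Pstep.{u} (Fin n) := by
  induction n with
  | zero => exact pstep_of_isEmpty (Fin 0)
  | succ m ih =>
    exact pstep_equiv (Fintype.equivFinOfCardEq (by simp)) (pstep_sum (Fin m) ih)

open Polynomial in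
/-- Every ring has, étale-locally around a given prime, a unit `u` with `u - 1` a unit. -/
theorem exists_star (A : Type u) [CommRing A] (p : Ideal A) [hp : p.IsPrime] :
    ∃ (A1 : Type u) (_ : CommRing A1) (φ : A →+* A1), φ.Etale ∧
      (∃ q : Ideal A1, q.IsPrime ∧ q.comap φ = p) ∧ Star A1 := by
  classical
  obtain ⟨ε, hε2, hc⟩ : ∃ ε : A, ε * ε = 1 ∧ (1 - 4 * ε) ∉ p := by
    by_cases h5 : (5 : A) ∈ p
    · refine ⟨1, one_mul 1, ?_⟩
      intro h3
      have h3' : (3 : A) ∈ p := by
        have : (3 : A) = -(1 - 4 * 1) := by ring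
        rw [this]
        exact p.neg_mem h3
      have h1 : (1 : A) ∈ p := by
        have : (1 : A) = 2 * 3 - 5 := by ring
        rw [this]
        exact p.sub_mem (p.mul_mem_left 2 h3') h5
      exact hp.ne_top ((Ideal.eq_top_iff_one p).mpr h1)
    · refine ⟨-1, by ring, ?_⟩
      have : (1 - 4 * (-1) : A) = 5 := by ring
      rw [this]
      exact h5
  let f : A[X] := X ^ 2 + (-X + C ε)
  have hfmonic : f.Monic := by
    apply Polynomial.monic_X_pow_add
    calc (-X + C ε : A[X]).degree ≤ max (-X : A[X]).degree (C ε : A[X]).degree :=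
          Polynomial.degree_add_le _ _
      _ ≤ 1 := by
          apply max_le
          · rw [Polynomial.degree_neg]
            exact Polynomial.degree_X_le
          · exact (Polynomial.degree_C_le).trans (by norm_num)
      _ < ((2 : ℕ) : WithBot ℕ) := by norm_num
  have hderiv : derivative f = C 2 * X - 1 := by
    simp only [f, derivative_add, derivative_X_pow, derivative_neg, derivative_X, derivative_C,
      add_zero]
    norm_num
    ring
  let P : StandardEtalePair A :=
    { f := f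
      monic_f := hfmonic
      g := C (1 - 4 * ε)
      cond := ⟨derivative f, C (-4), 1, by
        rw [hderiv, pow_one]
        simp only [f, map_sub, map_mul, map_one, map_neg]
        have : (C (4 : A) : A[X]) = 4 := by
          rw [show (4 : A) = ((4 : ℕ) : A) by norm_num, Polynomial.C_eq_natCast]
          norm_num
        have h2 : (C (2 : A) : A[X]) = 2 := by
          rw [show (2 : A) = ((2 : ℕ) : A) by norm_num, Polynomial.C_eq_natCast]
          norm_num
        rw [this, h2]
        ring⟩ }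
  have hf : P.f = f := rfl
  have hg : P.g = C (1 - 4 * ε) := rfl
  refine ⟨P.Ring, inferInstance, algebraMap A P.Ring,
    RingHom.etale_algebraMap.mpr inferInstance, ?_, ?_⟩
  · -- a prime over `p`
    let Ω := AlgebraicClosure p.ResidueField
    have hker : RingHom.ker (algebraMap A Ω) = p := by
      ext x
      rw [RingHom.mem_ker, IsScalarTower.algebraMap_apply A p.ResidueField Ω,
        map_eq_zero_iff _ (algebraMap p.ResidueField Ω).injective,
        ← RingHom.mem_ker, Ideal.ker_algebraMap_residueField]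
    have hdeg : (f.map (algebraMap A Ω)).degree ≠ 0 := by
      have hlt : (-X + C ε : A[X]).degree < ((2 : ℕ) : WithBot ℕ) := by
        calc (-X + C ε : A[X]).degree ≤ max (-X : A[X]).degree (C ε : A[X]).degree :=
              Polynomial.degree_add_le _ _
          _ ≤ 1 := by
              apply max_le
              · rw [Polynomial.degree_neg]
                exact Polynomial.degree_X_le
              · exact (Polynomial.degree_C_le).trans (by norm_num)
          _ < ((2 : ℕ) : WithBot ℕ) := by norm_num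
      have hnt : Nontrivial A :=
        ⟨⟨0, 1, fun h => hp.ne_top ((Ideal.eq_top_iff_one p).mpr (h ▸ p.zero_mem))⟩⟩
      rw [hfmonic.degree_map (algebraMap A Ω)]
      show (X ^ 2 + (-X + C ε) : A[X]).degree ≠ 0
      rw [Polynomial.degree_add_eq_left_of_degree_lt
        (by rw [Polynomial.degree_X_pow]; exact hlt), Polynomial.degree_X_pow]
      norm_num
    obtain ⟨x0, hx0⟩ := IsAlgClosed.exists_root (f.map (algebraMap A Ω)) hdeg
    have hmap : P.HasMap x0 := by
      refine ⟨?_, ?_⟩
      · rw [hf, Polynomial.aeval_def, Polynomial.eval₂_eq_eval_map]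
        exact hx0
      · rw [hg, Polynomial.aeval_C]
        apply IsUnit.mk0
        intro h0
        apply hc
        rw [← hker, RingHom.mem_ker]
        exact h0
    let ψ : P.Ring →ₐ[A] Ω := P.lift x0 hmap
    refine ⟨RingHom.ker ψ.toRingHom, RingHom.ker_isPrime _, ?_⟩
    rw [RingHom.comap_ker, AlgHom.toRingHom_eq_coe, AlgHom.comp_algebraMap, hker]
  · -- the unit
    have hX : Polynomial.aeval P.X f = 0 := P.hasMap_X.1
    set x : P.Ring := P.X with hx
    set ε' : P.Ring := algebraMap A P.Ring ε with hε'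
    have hε'2 : ε' * ε' = 1 := by rw [hε', ← map_mul, hε2, map_one]
    have hrel : x ^ 2 + (-x + ε') = 0 := by
      have := hX
      simp only [f, map_add, map_pow, Polynomial.aeval_X, map_neg, Polynomial.aeval_C] at this
      exact this
    have hprod : x * ((x - 1) * (-ε')) = 1 := by
      have h1 : x * (x - 1) = -ε' := by linear_combination hrel
      calc x * ((x - 1) * (-ε')) = (x * (x - 1)) * (-ε') := by ring
        _ = (-ε') * (-ε') := by rw [h1]
        _ = 1 := by rw [neg_mul_neg, hε'2]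
    refine ⟨Units.mkOfMulEqOne x ((x - 1) * (-ε')) hprod, ?_⟩
    show IsUnit (x - 1)
    apply IsUnit.of_mul_eq_one (x * (-ε'))
    calc (x - 1) * (x * (-ε')) = x * ((x - 1) * (-ε')) := by ring
      _ = 1 := hprod

/-- `SL_n(A)` is étale-locally contained in the commutator subgroup of `GL_n`. -/
theorem main (A : Type u) [CommRing A] (n : ℕ)
    (s : Matrix.SpecialLinearGroup (Fin n) A) (p : PrimeSpectrum A) :
    ∃ (A' : Type u) (_ : CommRing A') (_ : Algebra A A'), Algebra.Etale A A' ∧
      (∃ q : PrimeSpectrum A', q.asIdeal.comap (algebraMap A A') = p.asIdeal) ∧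
      (Matrix.GeneralLinearGroup.map (algebraMap A A')) (Matrix.SpecialLinearGroup.toGL s) ∈
        commutator (Matrix.GeneralLinearGroup (Fin n) A') := by
  have hp : p.asIdeal.IsPrime := p.isPrime
  obtain ⟨A1, _, φ1, hφ1, ⟨q1, hq1, hq1c⟩, hs1⟩ := exists_star A p.asIdeal
  obtain ⟨A2, _, φ2, hφ2, ⟨q2, hq2, hq2c⟩, hgood⟩ :=
    pstep_fin.{u} n A1 hs1 q1 (Matrix.GeneralLinearGroup.map φ1 (Matrix.SpecialLinearGroup.toGL s))
  let φ : A →+* A2 := φ2.comp φ1
  have hφ : φ.Etale := RingHom.Etale.stableUnderComposition _ _ hφ1 hφ2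
  letI : Algebra A A2 := φ.toAlgebra
  refine ⟨A2, inferInstance, inferInstance, hφ, ⟨⟨q2, hq2⟩, ?_⟩, ?_⟩
  · show q2.comap φ = p.asIdeal
    rw [← Ideal.comap_comap, hq2c, hq1c]
  · show Matrix.GeneralLinearGroup.map φ (Matrix.SpecialLinearGroup.toGL s) ∈ _
    rcases Nat.eq_zero_or_pos n with hn | hn
    · subst hn
      have : Matrix.GeneralLinearGroup.map φ (Matrix.SpecialLinearGroup.toGL s) = 1 :=
        Subsingleton.elim _ _
      rw [this]
      exact one_mem _
    · have : Nonempty (Fin n) := ⟨⟨0, hn⟩⟩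
      have hgood' : Good (Matrix.GeneralLinearGroup.map φ (Matrix.SpecialLinearGroup.toGL s)) :=
        hgood
      apply hgood'.mem_commutator
      show ((Matrix.SpecialLinearGroup.toGL s : (Matrix (Fin n) (Fin n) A)ˣ).val.map φ).det = 1
      rw [← RingHom.mapMatrix_apply, ← RingHom.map_det]
      have : (Matrix.SpecialLinearGroup.toGL s : (Matrix (Fin n) (Fin n) A)ˣ).val.det = 1 := s.2
      rw [this, map_one]

end final

end Groth.Agent.H66.SLComm
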