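import Mathlib
import Groth.Agent.H66.SLComm

/-!
# Natural characters of products of general linear groups
-/

set_option autoImplicit false
set_option linter.unusedSectionVars false
universe u

open scoped commutatorElement
open Matrix

namespace Groth.Agent.H66.GLChar

open Groth.Agent.H66.SLComm

section generalities

/-- A homomorphism from a finite product of groups to a commutative group is the product of its
restrictions to the factors. -/
theorem hom_pi_eq_prod {ι : Type*} [Fintype ι] [DecidableEq ι] {G : ι → Type*}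
    [∀ i, Group (G i)] {A : Type*} [CommGroup A] (f : (∀ i, G i) →* A) (s : ∀ i, G i) :
    f s = ∏ i, f (Pi.mulSingle i (s i)) := by
  classical
  have key : ∀ T : Finset ι, f (fun i => if i ∈ T then s i else 1) =
      ∏ i ∈ T, f (Pi.mulSingle i (s i)) := by
    intro T
    induction T using Finset.induction_on with
    | empty =>
      simp only [Finset.notMem_empty, if_false, Finset.prod_empty]
      exact map_one f
    | insert j T hj ih =>
      rw [Finset.prod_insert hj, ← ih, ← map_mul]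
      congr 1
      funext i
      by_cases hij : i = j
      · subst hij
        simp [hj]
      · simp [Pi.mulSingle_eq_of_ne hij, hij]
  have := key Finset.univ
  simpa using this

/-- An element which dies in a flat neighbourhood of every prime is zero. -/
theorem eq_zero_of_flat_local {B : Type u} [CommRing B] (x : B)
    (h : ∀ p : Ideal B, p.IsPrime → ∃ (B' : Type u) (_ : CommRing B') (φ : B →+* B'),
      φ.Flat ∧ (∃ q' : Ideal B', q'.IsPrime ∧ q'.comap φ = p) ∧ φ x = 0) : x = 0 := by
  by_contra hx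
  set I : Ideal B := (Submodule.span B ({x} : Set B)).annihilator with hI
  have hI1 : I ≠ ⊤ := by
    intro htop
    have h1 : (1 : B) ∈ I := by rw [htop]; trivial
    rw [hI, Submodule.mem_annihilator_span_singleton, one_smul] at h1
    exact hx h1
  obtain ⟨M, hM, hIM⟩ := Ideal.exists_le_maximal I hI1
  obtain ⟨B', _, φ, hflat, ⟨q', hq', hq'c⟩, hφx⟩ := h M hM.isPrime
  letI : Algebra B B' := φ.toAlgebra
  have hflat' : Module.Flat B B' := hflat
  obtain ⟨k, a, z, hz, ha⟩ := Module.Flat.isTrivialRelation_of_sum_smul_eq_zero (R := B) (M := B')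
    (f := fun _ : Fin 1 => x) (x := fun _ : Fin 1 => (1 : B')) (by
      simp only [Finset.univ_unique, Finset.sum_singleton]
      rw [Algebra.smul_def, mul_one]
      exact hφx)
  have h1 : (1 : B') ∈ q' := by
    have hz0 : (1 : B') = ∑ j, a 0 j • z j := hz 0
    rw [hz0]
    apply Ideal.sum_mem
    intro j _
    rw [Algebra.smul_def]
    apply Ideal.mul_mem_right
    have h2 : a 0 j ∈ M := by
      apply hIM
      rw [hI, Submodule.mem_annihilator_span_singleton, smul_eq_mul, mul_comm]
      have := ha j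
      simpa using this
    rw [← hq'c] at h2
    exact h2
  exact hq'.ne_top ((Ideal.eq_top_iff_one q').mpr h1)

end generalities

section kernel

variable {r : ℕ} {n : Fin r → ℕ}

/-- Simultaneous étale-local normal form for a finite family of invertible matrices. -/
theorem multi_good (B : Type u) [CommRing B] (hs : SLComm.Star B) (p : Ideal B) [p.IsPrime]
    (s : ∀ i, (Matrix (Fin (n i)) (Fin (n i)) B)ˣ) (T : Finset (Fin r)) :
    ∃ (B' : Type u) (_ : CommRing B') (φ : B →+* B'), φ.Etale ∧
      (∃ q' : Ideal B', q'.IsPrime ∧ q'.comap φ = p) ∧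
      ∀ i ∈ T, Good (Matrix.GeneralLinearGroup.map φ (s i)) := by
  classical
  induction T using Finset.induction_on with
  | empty =>
    exact ⟨B, inferInstance, RingHom.id B, RingHom.Etale.of_bijective Function.bijective_id,
      ⟨p, inferInstance, Ideal.comap_id p⟩, fun i hi => absurd hi (Finset.notMem_empty i)⟩
  | insert j T hj ih =>
    obtain ⟨B1, _, φ1, hφ1, ⟨q1, hq1, hq1c⟩, hgood1⟩ := ih
    obtain ⟨B2, _, φ2, hφ2, ⟨q2, hq2, hq2c⟩, hgood2⟩ :=
      pstep_fin.{u} (n j) B1 (hs.map φ1) q1 (Matrix.GeneralLinearGroup.map φ1 (s j))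
    refine ⟨B2, inferInstance, φ2.comp φ1,
      RingHom.Etale.stableUnderComposition _ _ hφ1 hφ2, ⟨q2, hq2, ?_⟩, ?_⟩
    · rw [← Ideal.comap_comap, hq2c, hq1c]
    · intro i hi
      rcases Finset.mem_insert.mp hi with rfl | hiT
      · exact hgood2
      · exact (hgood1 i hiT).map φ2

/-- A finite family of matrices of determinant one lies étale-locally in the commutator
subgroups. -/
theorem multi_commutator (B : Type u) [CommRing B] (p : Ideal B) [p.IsPrime]
    (hn : ∀ i, 0 < n i)
    (s : ∀ i, (Matrix (Fin (n i)) (Fin (n i)) B)ˣ)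
    (hdet : ∀ i, (s i).val.det = 1) :
    ∃ (B' : Type u) (_ : CommRing B') (φ : B →+* B'), φ.Etale ∧
      (∃ q' : Ideal B', q'.IsPrime ∧ q'.comap φ = p) ∧
      ∀ i, Matrix.GeneralLinearGroup.map φ (s i) ∈
        commutator (Matrix (Fin (n i)) (Fin (n i)) B')ˣ := by
  obtain ⟨B0, _, φ0, hφ0, ⟨q0, hq0, hq0c⟩, hs0⟩ := exists_star B p
  obtain ⟨B1, _, φ1, hφ1, ⟨q1, hq1, hq1c⟩, hgood⟩ :=
    multi_good B0 hs0 q0 (fun i => Matrix.GeneralLinearGroup.map φ0 (s i)) Finset.univ
  refine ⟨B1, inferInstance, φ1.comp φ0,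
    RingHom.Etale.stableUnderComposition _ _ hφ0 hφ1, ⟨q1, hq1, ?_⟩, ?_⟩
  · rw [← Ideal.comap_comap, hq1c, hq0c]
  · intro i
    have : Nonempty (Fin (n i)) := ⟨⟨0, hn i⟩⟩
    have hg : Good (Matrix.GeneralLinearGroup.map (φ1.comp φ0) (s i)) :=
      hgood i (Finset.mem_univ i)
    apply hg.mem_commutator
    show ((s i).val.map (φ1.comp φ0)).det = 1
    rw [← RingHom.mapMatrix_apply, ← RingHom.map_det, hdet i, map_one]

end kernel

section Gm

open LaurentPolynomial

/-- Idempotents of a ring with connected spectrum are trivial. -/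
theorem idem_trivial {R : Type*} [CommRing R] [ConnectedSpace (PrimeSpectrum R)] {e : R}
    (he : IsIdempotentElem e) : e = 0 ∨ e = 1 := by
  have hclopen : IsClopen (PrimeSpectrum.basicOpen e : Set (PrimeSpectrum R)) :=
    PrimeSpectrum.isClopen_iff.mpr ⟨e, he, rfl⟩
  rcases _root_.isClopen_iff.mp hclopen with h | h
  · left
    apply PrimeSpectrum.basicOpen_injOn_isIdempotentElem he IsIdempotentElem.zero
    apply TopologicalSpace.Opens.ext
    rw [h, PrimeSpectrum.basicOpen_zero]
    rfl
  · right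
    apply PrimeSpectrum.basicOpen_injOn_isIdempotentElem he IsIdempotentElem.one
    apply TopologicalSpace.Opens.ext
    rw [h, PrimeSpectrum.basicOpen_one]
    rfl

variable (R : Type u) [CommRing R]

/-- `T a` as a unit of the Laurent polynomial ring. -/
noncomputable def tU (a : ℤ) : (R[T;T⁻¹])ˣ :=
  ⟨T a, T (-a), by rw [← T_add, add_neg_cancel, T_zero],
    by rw [← T_add, neg_add_cancel, T_zero]⟩

theorem tU_val (a : ℤ) : ((tU R a : (R[T;T⁻¹])ˣ) : R[T;T⁻¹]) = T a := rfl

theorem tU_zpow (a : ℤ) : (tU R 1) ^ a = tU R a := by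
  let F : Multiplicative ℤ →* (R[T;T⁻¹])ˣ :=
    { toFun := fun a => tU R a.toAdd
      map_one' := Units.ext T_zero
      map_mul' := fun a b => Units.ext (T_add _ _) }
  have h1 : F (Multiplicative.ofAdd a) = F (Multiplicative.ofAdd 1) ^ a := by
    rw [← map_zpow, ← ofAdd_zsmul, smul_eq_mul, mul_one]
  exact h1.symm

variable {R}

/-- Evaluation of Laurent polynomials at a unit, as an algebra homomorphism. -/
noncomputable def evB {B : Type*} [CommRing B] [Algebra R B] (e : Bˣ) : R[T;T⁻¹] →ₐ[R] B :=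
  { LaurentPolynomial.eval₂ (algebraMap R B) e with
    commutes' := fun r => by
      show LaurentPolynomial.eval₂ (algebraMap R B) e (algebraMap R R[T;T⁻¹] r) = _
      rw [← LaurentPolynomial.C_eq_algebraMap, LaurentPolynomial.eval₂_C] }

theorem evB_T {B : Type*} [CommRing B] [Algebra R B] (e : Bˣ) (a : ℤ) :
    evB e (T a : R[T;T⁻¹]) = ((e ^ a : Bˣ) : B) :=
  LaurentPolynomial.eval₂_T (algebraMap R B) e a

theorem evB_C {B : Type*} [CommRing B] [Algebra R B] (e : Bˣ) (c : R) :
    evB e (C c : R[T;T⁻¹]) = algebraMap R B c :=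
  LaurentPolynomial.eval₂_C (algebraMap R B) e c

theorem units_map_evB {B : Type*} [CommRing B] [Algebra R B] (e : Bˣ) :
    Units.map ((evB e : R[T;T⁻¹] →ₐ[R] B).toRingHom : R[T;T⁻¹] →* B) (tU R 1) = e := by
  apply Units.ext
  show evB e (T 1 : R[T;T⁻¹]) = e
  rw [evB_T, zpow_one]

theorem expand (f : R[T;T⁻¹]) : f = ∑ a ∈ f.coeff.support, C (f.coeff a) * T a := by
  conv_lhs => rw [← AddMonoidAlgebra.sum_coeff_single f]
  rw [Finsupp.sum]
  refine Finset.sum_congr rfl fun a _ => ?_
  rw [LaurentPolynomial.single_eq_C_mul_T]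

theorem evB_expand {B : Type*} [CommRing B] [Algebra R B] (e : Bˣ) (f : R[T;T⁻¹]) :
    evB e f = ∑ a ∈ f.coeff.support, algebraMap R B (f.coeff a) * ((e ^ a : Bˣ) : B) := by
  conv_lhs => rw [expand f]
  rw [map_sum]
  refine Finset.sum_congr rfl fun a _ => ?_
  rw [map_mul, evB_C, evB_T]

theorem coeff_sum_C_mul_T {S : Type*} [CommRing S] (s : Finset ℤ) (x : ℤ → S) (a₀ : ℤ) :
    (∑ a ∈ s, (C (x a) * T a : S[T;T⁻¹])).coeff a₀ = if a₀ ∈ s then x a₀ else 0 := by
  classical
  rw [AddMonoidAlgebra.coeff_sum, Finsupp.finset_sum_apply]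
  have : ∀ a ∈ s, (C (x a) * T a : S[T;T⁻¹]).coeff a₀ = if a₀ = a then x a else 0 := by
    intro a _
    rw [← LaurentPolynomial.single_eq_C_mul_T, AddMonoidAlgebra.coeff_single,
      Finsupp.single_apply]
    by_cases h : a = a₀
    · subst h; simp
    · rw [if_neg h, if_neg (Ne.symm h)]
  rw [Finset.sum_congr rfl this, Finset.sum_ite_eq]

/-- Natural characters of the multiplicative group over a connected base are powers. -/
theorem char_Gm [ConnectedSpace (PrimeSpectrum R)]
    (β : ∀ (B : Type u) [CommRing B] [Algebra R B], Bˣ →* Bˣ)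
    (hβ : ∀ (B C : Type u) [CommRing B] [Algebra R B] [CommRing C] [Algebra R C] (φ : B →ₐ[R] C)
      (e : Bˣ), β C (Units.map (φ.toRingHom : B →* C) e) = Units.map (φ.toRingHom : B →* C) (β B e)) :
    ∃ a : ℤ, ∀ (B : Type u) [CommRing B] [Algebra R B] (e : Bˣ), β B e = e ^ a := by
  classical
  have hnt : Nontrivial R := PrimeSpectrum.nonempty_iff_nontrivial.mp inferInstance
  set χu : (R[T;T⁻¹])ˣ := β (R[T;T⁻¹]) (tU R 1) with hχu
  set χ : R[T;T⁻¹] := (χu : R[T;T⁻¹]) with hχ
  -- Yoneda
  have hyon : ∀ (B : Type u) [CommRing B] [Algebra R B] (e : Bˣ),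
      β B e = Units.map ((evB e : R[T;T⁻¹] →ₐ[R] B).toRingHom : R[T;T⁻¹] →* B) χu := by
    intro B _ _ e
    rw [hχu, ← hβ, units_map_evB]
  have hyonval : ∀ (B : Type u) [CommRing B] [Algebra R B] (e : Bˣ),
      ((β B e : Bˣ) : B) = evB e χ := by
    intro B _ _ e
    rw [hyon B e]
    rfl
  -- coefficients
  set c : ℤ → R := fun a => χ.coeff a with hc
  -- sum of coefficients
  have hsum : ∑ a ∈ χ.coeff.support, c a = 1 := by
    have h1 := hyonval R (1 : Rˣ)
    rw [map_one, Units.val_one, evB_expand] at h1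
    rw [h1]
    refine Finset.sum_congr rfl fun a _ => ?_
    simp [hc]
  -- the group-like relation
  have hrel : ∀ a₀ b : ℤ, c b * c a₀ = if a₀ = b then c a₀ else 0 := by
    let L := R[T;T⁻¹]
    let τ : (L[T;T⁻¹])ˣ := Units.map ((C : L →+* L[T;T⁻¹]) : L →* L[T;T⁻¹]) (tU R 1)
    let σ : (L[T;T⁻¹])ˣ := tU L 1
    have hτ : ∀ a : ℤ, ((τ ^ a : (L[T;T⁻¹])ˣ) : L[T;T⁻¹]) = C (T a : L) := by
      intro a
      rw [← map_zpow, tU_zpow]
      rfl
    have hσ : ∀ a : ℤ, ((σ ^ a : (L[T;T⁻¹])ˣ) : L[T;T⁻¹]) = T a := by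
      intro a
      rw [tU_zpow]
      rfl
    have halg : ∀ x : R, algebraMap R (L[T;T⁻¹]) x = C (C x : L) := by
      intro x
      rfl
    have hmul := map_mul (β (L[T;T⁻¹])) τ σ
    have hmulval : evB (τ * σ) χ = evB τ χ * evB σ χ := by
      rw [← hyonval, ← hyonval, ← hyonval, hmul, Units.val_mul]
    rw [evB_expand, evB_expand τ, evB_expand σ] at hmulval
    have hL : ∑ a ∈ χ.coeff.support, algebraMap R (L[T;T⁻¹]) (χ.coeff a) *
        (((τ * σ) ^ a : (L[T;T⁻¹])ˣ) : L[T;T⁻¹]) =
        ∑ a ∈ χ.coeff.support, (C (C (c a) * T a : L) * T a : L[T;T⁻¹]) := by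
      refine Finset.sum_congr rfl fun a _ => ?_
      rw [mul_zpow τ σ a, Units.val_mul, hτ, hσ, halg, map_mul, mul_assoc]
    have hR1 : ∑ a ∈ χ.coeff.support, algebraMap R (L[T;T⁻¹]) (χ.coeff a) *
        ((τ ^ a : (L[T;T⁻¹])ˣ) : L[T;T⁻¹]) = C χ := by
      conv_rhs => rw [expand χ]
      rw [map_sum]
      refine Finset.sum_congr rfl fun a _ => ?_
      rw [hτ, halg, map_mul]
    have hR2 : C χ * ∑ a ∈ χ.coeff.support, algebraMap R (L[T;T⁻¹]) (χ.coeff a) *
        ((σ ^ a : (L[T;T⁻¹])ˣ) : L[T;T⁻¹]) =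
        ∑ a ∈ χ.coeff.support, (C (χ * C (c a) : L) * T a : L[T;T⁻¹]) := by
      rw [Finset.mul_sum]
      refine Finset.sum_congr rfl fun a _ => ?_
      rw [hσ, halg, map_mul, mul_assoc]
    rw [hL, hR1, hR2] at hmulval
    intro a₀ b
    have h1 := congrArg (fun f : L[T;T⁻¹] => f.coeff a₀) hmulval
    simp only [coeff_sum_C_mul_T] at h1
    have h2 : (C (c a₀) * T a₀ : L) = χ * C (c a₀) := by
      by_cases ha : a₀ ∈ χ.coeff.support
      · rw [if_pos ha, if_pos ha] at h1
        exact h1
      · have h0 : c a₀ = 0 := Finsupp.notMem_support_iff.mp ha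
        rw [h0, map_zero, zero_mul, mul_zero]
    have h3 : (C (c a₀) * T a₀ : L).coeff b = (χ * C (c a₀) : L).coeff b := by rw [h2]
    rw [← LaurentPolynomial.single_eq_C_mul_T, AddMonoidAlgebra.coeff_single,
      Finsupp.single_apply, ← LaurentPolynomial.single_eq_C,
      AddMonoidAlgebra.coeff_mul_single_zero] at h3
    exact h3.symm
  -- idempotents
  have hidem : ∀ a, c a = 0 ∨ c a = 1 := by
    intro a
    apply idem_trivial
    have := hrel a a
    rw [if_pos rfl] at this
    exact this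
  obtain ⟨a₀, ha₀⟩ : ∃ a₀, c a₀ = 1 := by
    by_contra hne
    push Not at hne
    have : ∑ a ∈ χ.coeff.support, c a = 0 :=
      Finset.sum_eq_zero fun a _ => (hidem a).resolve_right (hne a)
    rw [this] at hsum
    exact zero_ne_one hsum
  have hother : ∀ b, b ≠ a₀ → c b = 0 := by
    intro b hb
    have := hrel a₀ b
    rw [ha₀, mul_one, if_neg (Ne.symm hb)] at this
    exact this
  have hχT : χ = T a₀ := by
    apply LaurentPolynomial.ext
    intro b
    rw [LaurentPolynomial.T_apply]
    by_cases hb : a₀ = b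
    · subst hb
      rw [if_pos rfl]
      exact ha₀
    · rw [if_neg hb]
      exact hother b (Ne.symm hb)
  have hχu' : χu = tU R 1 ^ a₀ := by
    rw [tU_zpow]
    exact Units.ext hχT
  refine ⟨a₀, fun B _ _ e => ?_⟩
  rw [hyon B e, hχu', map_zpow, units_map_evB]

end Gm

section main

open LaurentPolynomial

variable (R : Type u) [CommRing R] (r : ℕ) (n : Fin r → ℕ) (hn : ∀ i, 0 < n i)
  (α : ∀ (B : Type u) [CommRing B] [Algebra R B],
    (∀ i, Matrix.GeneralLinearGroup (Fin (n i)) B) →* Bˣ)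
  (hα : ∀ (B C : Type u) [CommRing B] [Algebra R B] [CommRing C] [Algebra R C] (φ : B →ₐ[R] C)
    (s : ∀ i, Matrix.GeneralLinearGroup (Fin (n i)) B),
    α C (fun i => Matrix.GeneralLinearGroup.map φ.toRingHom (s i)) =
      Units.map (φ.toRingHom : B →* C) (α B s))

include hn hα in
/-- A natural character kills tuples of matrices of determinant one. -/
theorem alpha_eq_one (B : Type u) [CommRing B] [Algebra R B]
    (s : ∀ i, Matrix.GeneralLinearGroup (Fin (n i)) B)
    (hdet : ∀ i, (s i).val.det = 1) : α B s = 1 := by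
  classical
  apply Units.ext
  rw [Units.val_one, ← sub_eq_zero]
  apply eq_zero_of_flat_local
  intro p hp
  obtain ⟨B', _, φ, hφ, hq, hcomm⟩ := multi_commutator B p hn s hdet
  refine ⟨B', inferInstance, φ, (RingHom.Etale.iff_flat_and_formallyUnramified.mp hφ).1, hq, ?_⟩
  letI : Algebra R B' := (φ.comp (algebraMap R B)).toAlgebra
  let φA : B →ₐ[R] B' := { φ with commutes' := fun _ => rfl }
  have h1 := hα B B' φA s
  have h2 : α B' (fun i => Matrix.GeneralLinearGroup.map φA.toRingHom (s i)) = 1 := by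
    rw [hom_pi_eq_prod (α B')]
    apply Finset.prod_eq_one
    intro i _
    have hmem : Matrix.GeneralLinearGroup.map φ (s i) ∈
        commutator (Matrix (Fin (n i)) (Fin (n i)) B')ˣ := hcomm i
    have := Abelianization.commutator_subset_ker ((α B').comp
      (MonoidHom.mulSingle (fun i => Matrix.GeneralLinearGroup (Fin (n i)) B') i)) hmem
    exact this
  rw [h2] at h1
  have h3 : φ ((α B s : Bˣ) : B) = 1 := by
    have := congrArg Units.val h1
    exact this.symm
  rw [map_sub, h3, map_one, sub_self]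

include hn hα in
/-- Natural characters of a product of general linear groups over a connected base are products of
powers of determinants. -/
theorem main [ConnectedSpace (PrimeSpectrum R)] :
    ∃! m : Fin r → ℤ, ∀ (B : Type u) [CommRing B] [Algebra R B]
      (s : ∀ i, Matrix.GeneralLinearGroup (Fin (n i)) B),
      α B s = ∏ i, Matrix.GeneralLinearGroup.det (s i) ^ (m i) := by
  classical
  have hnt : Nontrivial R := PrimeSpectrum.nonempty_iff_nontrivial.mp inferInstance
  let i0 : ∀ i, Fin (n i) := fun i => ⟨0, hn i⟩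
  let β : Fin r → ∀ (B : Type u) [CommRing B] [Algebra R B], Bˣ →* Bˣ := fun i B _ _ =>
    (α B).comp ((MonoidHom.mulSingle (fun k => Matrix.GeneralLinearGroup (Fin (n k)) B) i).comp
      (delta (i0 i)))
  have hβ : ∀ i, ∀ (B C : Type u) [CommRing B] [Algebra R B] [CommRing C] [Algebra R C]
      (φ : B →ₐ[R] C) (e : Bˣ),
      β i C (Units.map (φ.toRingHom : B →* C) e) =
        Units.map (φ.toRingHom : B →* C) (β i B e) := by
    intro i B C _ _ _ _ φ e
    show α C (Pi.mulSingle i (delta (i0 i) (Units.map (φ.toRingHom : B →* C) e))) =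
      Units.map (φ.toRingHom : B →* C) (α B (Pi.mulSingle i (delta (i0 i) e)))
    rw [← hα B C φ]
    congr 1
    funext k
    by_cases hk : k = i
    · subst hk
      rw [Pi.mulSingle_eq_same, Pi.mulSingle_eq_same, map_delta]
    · rw [Pi.mulSingle_eq_of_ne hk, Pi.mulSingle_eq_of_ne hk, map_one]
  choose m hm using fun i => char_Gm (β i) (hβ i)
  have hform : ∀ (B : Type u) [CommRing B] [Algebra R B]
      (s : ∀ i, Matrix.GeneralLinearGroup (Fin (n i)) B),
      α B s = ∏ i, Matrix.GeneralLinearGroup.det (s i) ^ (m i) := by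
    intro B _ _ s
    let D : ∀ i, Matrix.GeneralLinearGroup (Fin (n i)) B :=
      fun i => delta (i0 i) (Matrix.GeneralLinearGroup.det (s i))
    let s' : ∀ i, Matrix.GeneralLinearGroup (Fin (n i)) B := fun i => s i * (D i)⁻¹
    have hs : s = s' * D := by
      funext i
      show s i = s i * (D i)⁻¹ * D i
      rw [inv_mul_cancel_right]
    have hs'det : ∀ i, (s' i).val.det = 1 := by
      intro i
      have h1 : Matrix.GeneralLinearGroup.det (s' i) = 1 := by
        show Matrix.GeneralLinearGroup.det (s i * (D i)⁻¹) = 1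
        rw [map_mul, map_inv]
        show _ * (Matrix.GeneralLinearGroup.det
          (delta (i0 i) (Matrix.GeneralLinearGroup.det (s i))))⁻¹ = 1
        rw [det_delta, mul_inv_cancel]
      have h2 := congrArg Units.val h1
      rw [Matrix.GeneralLinearGroup.val_det_apply, Units.val_one] at h2
      exact h2
    have h1 : α B s = α B D := by
      conv_lhs => rw [hs]
      rw [map_mul, alpha_eq_one R r n hn α hα B s' hs'det, one_mul]
    rw [h1, hom_pi_eq_prod (α B) D]
    refine Finset.prod_congr rfl fun i _ => ?_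
    exact hm i B (Matrix.GeneralLinearGroup.det (s i))
  refine ⟨m, hform, ?_⟩
  intro m' hm'
  funext i
  have hprod : ∀ mm : Fin r → ℤ,
      ∏ k, Matrix.GeneralLinearGroup.det
        ((Pi.mulSingle i (delta (i0 i) (tU R 1)) :
          ∀ k, Matrix.GeneralLinearGroup (Fin (n k)) R[T;T⁻¹]) k) ^ mm k = tU R 1 ^ mm i := by
    intro mm
    rw [Finset.prod_eq_single i]
    · rw [Pi.mulSingle_eq_same, det_delta]
    · intro k _ hk
      rw [Pi.mulSingle_eq_of_ne hk, map_one, _root_.one_zpow]
    · intro h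
      exact absurd (Finset.mem_univ i) h
  have h1 := hform R[T;T⁻¹] (Pi.mulSingle i (delta (i0 i) (tU R 1)))
  have h2 := hm' R[T;T⁻¹] (Pi.mulSingle i (delta (i0 i) (tU R 1)))
  rw [hprod] at h1 h2
  have h3 : tU R 1 ^ m' i = tU R 1 ^ m i := h2.symm.trans h1
  rw [tU_zpow, tU_zpow] at h3
  have h4 : ((tU R (m' i) : (R[T;T⁻¹])ˣ) : R[T;T⁻¹]).coeff (m i) =
      ((tU R (m i) : (R[T;T⁻¹])ˣ) : R[T;T⁻¹]).coeff (m i) := by rw [h3]
  rw [tU_val, tU_val, LaurentPolynomial.T_apply, LaurentPolynomial.T_apply, if_pos rfl] at h4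
  by_contra hne
  rw [if_neg hne] at h4
  exact zero_ne_one h4

end main

end Groth.Agent.H66.GLChar
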