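import Mathlib

set_option autoImplicit false

/-!
# An explicit Koszul complex on `Finset (Fin k) → M`

`T = (Finset (Fin k) → M)`; the component at `S` is the coefficient of `e_S`.
`aOp j` is contraction with `e_j^*`, `cOp j` is wedge with `e_j`; `dK x = ∑ j, x j • aOp j`.
We prove `dK ∘ dK = 0` and the homotopy formula `dK ∘ cOp j + cOp j ∘ dK = x j`.
-/

namespace Groth.Agent.H66.KoszulAlg

variable {k : ℕ}

/-- the Koszul sign -/
def sgn (j : Fin k) (S : Finset (Fin k)) : ℤ := (-1) ^ (S.filter (· < j)).card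

theorem sgn_mul_self (j : Fin k) (S : Finset (Fin k)) : sgn j S * sgn j S = 1 := by
  unfold sgn
  rw [← pow_add, ← two_mul, pow_mul]
  simp

theorem sgn_insert {i j : Fin k} {S : Finset (Fin k)} (hi : i ∉ S) :
    sgn j (insert i S) = if i < j then - sgn j S else sgn j S := by
  unfold sgn
  rw [Finset.filter_insert]
  split_ifs with h
  · rw [Finset.card_insert_of_notMem (by simp [hi]), pow_succ]
    ring
  · rfl

theorem sgn_erase {i j : Fin k} {S : Finset (Fin k)} (hi : i ∈ S) :
    sgn j (S.erase i) = if i < j then - sgn j S else sgn j S := by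
  have h1 := sgn_insert (j := j) (Finset.notMem_erase i S)
  rw [Finset.insert_erase hi] at h1
  split_ifs with h
  · rw [if_pos h] at h1
    rw [h1, neg_neg]
  · rw [if_neg h] at h1
    exact h1.symm

variable {R : Type*} [CommRing R] {M : Type*} [AddCommGroup M] [Module R M]

/-- contraction with `e_j^*` -/
def aOp (j : Fin k) : (Finset (Fin k) → M) →ₗ[R] (Finset (Fin k) → M) where
  toFun f S := if j ∈ S then 0 else sgn j S • f (insert j S)
  map_add' f g := by
    funext S
    by_cases h : j ∈ S <;> simp [h]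
  map_smul' r f := by
    funext S
    by_cases h : j ∈ S
    · simp [h]
    · simp only [h, if_false, Pi.smul_apply, RingHom.id_apply]
      rw [smul_comm]

/-- wedge with `e_j` -/
def cOp (j : Fin k) : (Finset (Fin k) → M) →ₗ[R] (Finset (Fin k) → M) where
  toFun f S := if j ∈ S then sgn j (S.erase j) • f (S.erase j) else 0
  map_add' f g := by
    funext S
    by_cases h : j ∈ S <;> simp [h]
  map_smul' r f := by
    funext S
    by_cases h : j ∈ S
    · simp only [h, if_true, Pi.smul_apply, RingHom.id_apply]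
      rw [smul_comm]
    · simp [h]

theorem aOp_apply (j : Fin k) (f : Finset (Fin k) → M) (S : Finset (Fin k)) :
    aOp (R := R) j f S = if j ∈ S then 0 else sgn j S • f (insert j S) := rfl

theorem cOp_apply (j : Fin k) (f : Finset (Fin k) → M) (S : Finset (Fin k)) :
    cOp (R := R) j f S = if j ∈ S then sgn j (S.erase j) • f (S.erase j) else 0 := rfl

theorem sgn_smul_sgn_smul (j : Fin k) (S : Finset (Fin k)) (m : M) :
    sgn j S • sgn j S • m = m := by
  rw [smul_smul, sgn_mul_self, one_smul]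

/-- `a_j c_j + c_j a_j = 1` -/
theorem aOp_cOp_self (j : Fin k) (f : Finset (Fin k) → M) :
    aOp (R := R) j (cOp (R := R) j f) + cOp (R := R) j (aOp (R := R) j f) = f := by
  funext S
  simp only [Pi.add_apply, aOp_apply, cOp_apply]
  by_cases h : j ∈ S
  · simp [h, Finset.insert_erase h, sgn_smul_sgn_smul]
  · simp [h, Finset.erase_insert h, sgn_smul_sgn_smul]

/-- `a_j a_j = 0` -/
theorem aOp_aOp_self (j : Fin k) (f : Finset (Fin k) → M) :
    aOp (R := R) j (aOp (R := R) j f) = 0 := by
  funext S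
  simp only [aOp_apply, Pi.zero_apply]
  by_cases h : j ∈ S
  · simp [h]
  · simp [h]

theorem neg_one_aux (a b : ℤ) (m : M) : a • (-b) • m + b • a • m = 0 := by
  rw [neg_smul, smul_neg, smul_comm b a m]
  abel

theorem neg_one_aux' (a b : ℤ) (m : M) : a • b • m + b • (-a) • m = 0 := by
  rw [neg_smul, smul_neg, smul_comm b a m]
  abel

/-- `a_i a_j + a_j a_i = 0` -/
theorem aOp_aOp_comm {i j : Fin k} (hij : i ≠ j) (f : Finset (Fin k) → M) :
    aOp (R := R) i (aOp (R := R) j f) + aOp (R := R) j (aOp (R := R) i f) = 0 := by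
  funext S
  simp only [Pi.add_apply, aOp_apply, Pi.zero_apply]
  by_cases hi : i ∈ S
  · by_cases hj : j ∈ S
    · simp [hi, hj]
    · simp [hi, hj]
  · by_cases hj : j ∈ S
    · simp [hi, hj]
    · have h1 : j ∉ insert i S := by simp [hj, hij.symm]
      have h2 : i ∉ insert j S := by simp [hi, hij]
      rw [if_neg hi, if_neg hj, if_neg h1, if_neg h2, sgn_insert hi, sgn_insert hj,
        Finset.insert_comm]
      rcases lt_or_gt_of_ne hij with h | h
      · rw [if_pos h, if_neg (not_lt.2 h.le)]
        exact neg_one_aux _ _ _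
      · rw [if_neg (not_lt.2 h.le), if_pos h]
        exact neg_one_aux' _ _ _

/-- `a_i c_j + c_j a_i = 0` for `i ≠ j` -/
theorem aOp_cOp_comm {i j : Fin k} (hij : i ≠ j) (f : Finset (Fin k) → M) :
    aOp (R := R) i (cOp (R := R) j f) + cOp (R := R) j (aOp (R := R) i f) = 0 := by
  funext S
  simp only [Pi.add_apply, aOp_apply, cOp_apply, Pi.zero_apply]
  by_cases hi : i ∈ S
  · by_cases hj : j ∈ S
    · have : i ∈ S.erase j := Finset.mem_erase.2 ⟨hij, hi⟩
      simp [hi, hj, this]
    · simp [hi, hj]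
  · by_cases hj : j ∈ S
    · have hj' : j ∈ insert i S := Finset.mem_insert_of_mem hj
      have hi' : i ∉ S.erase j := fun h => hi (Finset.mem_of_mem_erase h)
      rw [if_neg hi, if_pos hj, if_pos hj', if_neg hi',
        Finset.erase_insert_of_ne hij, sgn_insert hi', sgn_erase (i := j) (j := i) hj]
      rcases lt_or_gt_of_ne hij with h | h
      · rw [if_pos h, if_neg (not_lt.2 h.le)]
        exact neg_one_aux _ _ _
      · rw [if_neg (not_lt.2 h.le), if_pos h]
        exact neg_one_aux' _ _ _
    · have : j ∉ insert i S := by simp [hj, hij.symm]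
      simp [hi, hj, this]

variable (x : Fin k → R)

/-- the Koszul differential -/
def dK : (Finset (Fin k) → M) →ₗ[R] (Finset (Fin k) → M) := ∑ j, x j • aOp (R := R) j

theorem dK_apply (f : Finset (Fin k) → M) : dK x f = ∑ j, x j • aOp (R := R) j f := by
  unfold dK
  rw [LinearMap.sum_apply]
  rfl

theorem dK_dK (f : Finset (Fin k) → M) : dK x (dK x f) = 0 := by
  rw [dK_apply, dK_apply]
  simp_rw [map_sum, map_smul, Finset.smul_sum]
  rw [← Finset.sum_product']
  refine Finset.sum_involution (fun p _ => (p.2, p.1)) ?_ ?_ ?_ ?_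
  · rintro ⟨i, j⟩ _
    by_cases hij : i = j
    · subst hij
      simp only [aOp_aOp_self, smul_zero, add_zero]
    · simp only
      rw [smul_comm (x j) (x i), ← smul_add, ← smul_add, aOp_aOp_comm hij, smul_zero, smul_zero]
  · rintro ⟨i, j⟩ _ hne heq
    simp only [Prod.mk.injEq] at heq
    obtain ⟨rfl, -⟩ := heq
    simp only [aOp_aOp_self, smul_zero, ne_eq, not_true_eq_false] at hne
  · intro p _
    exact Finset.mem_univ _
  · rintro ⟨i, j⟩ _
    rfl

theorem dK_cOp (j : Fin k) (f : Finset (Fin k) → M) :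
    dK x (cOp (R := R) j f) + cOp (R := R) j (dK x f) = x j • f := by
  rw [dK_apply, dK_apply, map_sum, ← Finset.sum_add_distrib]
  simp_rw [map_smul, ← smul_add]
  rw [Finset.sum_eq_single j]
  · rw [aOp_cOp_self]
  · intro i _ hij
    rw [aOp_cOp_comm hij, smul_zero]
  · intro h
    exact absurd (Finset.mem_univ j) h


/-! ### homological degree -/

/-- kills the components of cardinality `p` -/
def maskc (p : ℕ) : (Finset (Fin k) → M) →ₗ[R] (Finset (Fin k) → M) where
  toFun f S := if S.card = p then 0 else f S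
  map_add' f g := by
    funext S
    by_cases h : S.card = p <;> simp [h]
  map_smul' r f := by
    funext S
    by_cases h : S.card = p <;> simp [h]

/-- the functions supported on the subsets of cardinality `p` -/
def Kp (p : ℕ) : Submodule R (Finset (Fin k) → M) := LinearMap.ker (maskc (R := R) p)

theorem mem_Kp {p : ℕ} {f : Finset (Fin k) → M} :
    f ∈ Kp (R := R) p ↔ ∀ S : Finset (Fin k), S.card ≠ p → f S = 0 := by
  unfold Kp
  rw [LinearMap.mem_ker]
  constructor
  · intro h S hS
    have := congrFun h S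
    simpa [maskc, hS] using this
  · intro h
    funext S
    by_cases hS : S.card = p
    · simp [maskc, hS]
    · simp [maskc, hS, h S hS]

theorem aOp_mem_Kp {p : ℕ} {f : Finset (Fin k) → M} (hf : f ∈ Kp (R := R) (p + 1)) (j : Fin k) :
    aOp (R := R) j f ∈ Kp (R := R) p := by
  rw [mem_Kp] at hf ⊢
  intro S hS
  rw [aOp_apply]
  by_cases h : j ∈ S
  · rw [if_pos h]
  · rw [if_neg h, hf (insert j S) (by rw [Finset.card_insert_of_notMem h]; omega), smul_zero]

theorem cOp_mem_Kp {p : ℕ} {f : Finset (Fin k) → M} (hf : f ∈ Kp (R := R) p) (j : Fin k) :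
    cOp (R := R) j f ∈ Kp (R := R) (p + 1) := by
  rw [mem_Kp] at hf ⊢
  intro S hS
  rw [cOp_apply]
  by_cases h : j ∈ S
  · rw [if_pos h, hf (S.erase j) (by
      have := Finset.card_erase_add_one h
      omega), smul_zero]
  · rw [if_neg h]

theorem dK_mem_Kp {p : ℕ} {f : Finset (Fin k) → M} (hf : f ∈ Kp (R := R) (p + 1)) :
    dK x f ∈ Kp (R := R) p := by
  rw [dK_apply]
  exact Submodule.sum_mem _ (fun j _ => Submodule.smul_mem _ _ (aOp_mem_Kp hf j))

theorem dK_eq_zero_of_mem_Kp_zero {f : Finset (Fin k) → M} (hf : f ∈ Kp (R := R) 0) :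
    dK x f = 0 := by
  rw [dK_apply]
  apply Finset.sum_eq_zero
  intro j _
  rw [mem_Kp] at hf
  have : aOp (R := R) j f = 0 := by
    funext S
    rw [aOp_apply]
    by_cases h : j ∈ S
    · rw [if_pos h]; rfl
    · rw [if_neg h, hf (insert j S) (by rw [Finset.card_insert_of_notMem h]; omega), smul_zero]
      rfl
  rw [this, smul_zero]

theorem Kp_eq_bot {p : ℕ} (hp : k < p) : Kp (R := R) (M := M) (k := k) p = ⊥ := by
  rw [eq_bot_iff]
  intro f hf
  rw [mem_Kp] at hf
  rw [Submodule.mem_bot]
  funext S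
  apply hf
  have := Finset.card_le_univ S
  rw [Fintype.card_fin] at this
  omega

/-- cycles in homological degree `p` -/
def Zp (p : ℕ) : Submodule R (Finset (Fin k) → M) := Kp (R := R) p ⊓ LinearMap.ker (dK x)

/-- boundaries in homological degree `p` -/
def Bp (p : ℕ) : Submodule R (Finset (Fin k) → M) := (Kp (R := R) (p + 1)).map (dK x)

theorem Bp_le_Zp (p : ℕ) : Bp (M := M) x p ≤ Zp x p := by
  rintro _ ⟨f, hf, rfl⟩
  exact ⟨dK_mem_Kp x hf, dK_dK x f⟩

theorem Zp_zero : Zp (M := M) x 0 = Kp (R := R) 0 := by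
  apply le_antisymm inf_le_left
  intro f hf
  exact ⟨hf, dK_eq_zero_of_mem_Kp_zero x hf⟩

theorem Bp_eq_bot {p : ℕ} (hp : k ≤ p) : Bp (M := M) x p = ⊥ := by
  unfold Bp
  rw [Kp_eq_bot (by omega), Submodule.map_bot]

theorem smul_mem_Bp {p : ℕ} (r : R) (hr : r ∈ Ideal.span (Set.range x))
    {z : Finset (Fin k) → M} (hz : z ∈ Zp x p) : r • z ∈ Bp x p := by
  induction hr using Submodule.span_induction with
  | mem r hr =>
    obtain ⟨j, rfl⟩ := hr
    have h1 := dK_cOp x j z
    have h2 : dK x z = 0 := hz.2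
    rw [h2, map_zero, add_zero] at h1
    rw [← h1]
    exact ⟨_, cOp_mem_Kp hz.1 j, rfl⟩
  | zero => rw [zero_smul]; exact Submodule.zero_mem _
  | add r s _ _ hr hs => rw [add_smul]; exact Submodule.add_mem _ hr hs
  | smul c r _ hr => rw [smul_eq_mul, mul_smul]; exact Submodule.smul_mem _ _ hr

/-- the value at `∅` of a boundary lies in `(x) M` -/
theorem dK_apply_empty_mem (f : Finset (Fin k) → M) :
    dK x f ∅ ∈ Ideal.span (Set.range x) • (⊤ : Submodule R M) := by
  rw [dK_apply, Finset.sum_apply]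
  refine Submodule.sum_mem _ (fun j _ => ?_)
  rw [Pi.smul_apply]
  exact Submodule.smul_mem_smul (Ideal.subset_span ⟨j, rfl⟩) Submodule.mem_top

/-- conversely every element of `(x) M`, placed at `∅`, is a boundary -/
theorem single_mem_Bp_zero [DecidableEq (Finset (Fin k))] (m : M)
    (hm : m ∈ Ideal.span (Set.range x) • (⊤ : Submodule R M)) :
    Pi.single (∅ : Finset (Fin k)) m ∈ Bp x 0 := by
  have hz : ∀ m' : M, Pi.single (∅ : Finset (Fin k)) m' ∈ Zp x 0 := by
    intro m'
    rw [Zp_zero, mem_Kp]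
    intro S hS
    rw [Pi.single_apply, if_neg]
    intro h
    subst h
    simp at hS
  refine Submodule.smul_induction_on hm ?_ ?_
  · intro r hr m' _
    have := smul_mem_Bp x r hr (hz m')
    rwa [← Pi.single_smul] at this
  · intro y z hy hz'
    rw [Pi.single_add]
    exact Submodule.add_mem _ hy hz'


/-! ### `K_p` is a finite sum of copies of `M` -/

/-- evaluation at `S` on `K_p` -/
def evK (p : ℕ) (S : Finset (Fin k)) : ↥(Kp (R := R) (M := M) (k := k) p) →ₗ[R] M :=
  (LinearMap.proj S) ∘ₗ (Kp (R := R) (M := M) (k := k) p).subtype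

theorem evK_apply (p : ℕ) (S : Finset (Fin k)) (f : ↥(Kp (R := R) (M := M) (k := k) p)) :
    evK p S f = f.1 S := rfl

/-- the inclusion of the `S`-th summand into `K_p` -/
def inK [DecidableEq (Finset (Fin k))] (p : ℕ) (S : Finset (Fin k)) (hS : S.card = p) :
    M →ₗ[R] ↥(Kp (R := R) (M := M) (k := k) p) :=
  (LinearMap.single R (fun _ : Finset (Fin k) => M) S).codRestrict _ (fun m => by
    rw [mem_Kp]
    intro S' hS'
    rw [LinearMap.coe_single, Pi.single_apply, if_neg]
    intro h
    subst h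
    exact hS' hS)

theorem inK_apply [DecidableEq (Finset (Fin k))] (p : ℕ) (S : Finset (Fin k)) (hS : S.card = p)
    (m : M) : (inK (R := R) p S hS m).1 = Pi.single S m := rfl

theorem sum_inK_evK [DecidableEq (Finset (Fin k))] (p : ℕ)
    (f : ↥(Kp (R := R) (M := M) (k := k) p)) :
    ∑ S : {S : Finset (Fin k) // S.card = p}, inK (R := R) p S.1 S.2 (evK p S.1 f) = f := by
  apply Subtype.ext
  rw [AddSubmonoidClass.coe_finset_sum]
  funext S'
  rw [Finset.sum_apply]
  simp_rw [inK_apply, evK_apply, Pi.single_apply]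
  by_cases h : S'.card = p
  · rw [Finset.sum_eq_single ⟨S', h⟩]
    · rw [if_pos rfl]
    · intro S _ hne
      rw [if_neg]
      intro h'
      exact hne (Subtype.ext h'.symm)
    · intro h'
      exact absurd (Finset.mem_univ _) h'
  · rw [(mem_Kp.1 f.2) S' h]
    apply Finset.sum_eq_zero
    intro S _
    rw [if_neg]
    intro h'
    exact h (h' ▸ S.2)

end Groth.Agent.H66.KoszulAlg
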