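import Groth.Agent.H66.GrSubSES
import Groth.Agent.H66.KoszulAlg
import Groth.Agent.H98.GrStar.Pi

set_option autoImplicit false
set_option linter.unusedSectionVars false
universe u

/-!
# The graded Koszul complex and the diagonal vanishing argument
-/

namespace Groth.Agent.H66.GrKoszul

open DirectSum Groth.Agent.H98.GrStar Groth.Agent.H66.GrVanish Groth.Agent.H66.GrSubSES
  Groth.Agent.H66.KoszulAlg

variable {R : Type u} [CommRing R]
  {σ : Type u} [SetLike σ R] [AddSubgroupClass σ R]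
  {𝒜 : ℤ → σ} [GradedRing 𝒜]

variable (X : GrLC.GMod.{u} 𝒜) (k : ℕ)

/-- the total Koszul module `⊕_S X(-|S|)` as a graded module -/
noncomputable def TG : GrLC.GMod.{u} 𝒜 where
  carrier := Finset (Fin k) → X.carrier
  gr := piGr (fun S : Finset (Fin k) => shiftGr X.gr (S.card : ℤ))
  dec := (@piGr_isInternal ℤ _ (Finset (Fin k)) _ (fun _ => X.carrier) _
    (fun S => shiftGr X.gr (S.card : ℤ))
    (fun S => (shiftGr_isInternal X.gr (S.card : ℤ)).chooseDecomposition)).chooseDecomposition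
  gsmul := ⟨by
    intro d e r f hr hf S
    change r • f S ∈ X.gr (d + e - S.card)
    rw [add_sub_assoc]
    exact SetLike.GradedSMul.smul_mem (A := 𝒜) (B := X.gr) hr
      (show f S ∈ X.gr (e - S.card) from hf S)⟩

theorem mem_TG_gr (e : ℤ) (f : Finset (Fin k) → X.carrier) :
    f ∈ (TG X k).gr e ↔ ∀ S : Finset (Fin k), f S ∈ X.gr (e - S.card) := Iff.rfl

variable {k} (x : Fin k → R) (hx : ∀ j, x j ∈ 𝒜 1)

/-- `K_p` inside the total module -/
abbrev KpT (p : ℕ) : Submodule R (TG X k).carrier := Kp (R := R) (M := X.carrier) (k := k) p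
/-- `Z_p` inside the total module -/
abbrev ZpT (p : ℕ) : Submodule R (TG X k).carrier := Zp (M := X.carrier) x p
/-- `B_p` inside the total module -/
abbrev BpT (p : ℕ) : Submodule R (TG X k).carrier := Bp (M := X.carrier) x p
/-- the Koszul differential on the total module -/
abbrev dT : (TG X k).carrier →ₗ[R] (TG X k).carrier := dK (M := X.carrier) x

include hx in
theorem dK_isGrHom : GrLC.IsGrHom (TG X k).gr (TG X k).gr (dT X x) := by
  intro e f hf S
  change dK x f S ∈ X.gr (e - S.card)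
  rw [dK_apply, Finset.sum_apply]
  refine sum_mem (fun j _ => ?_)
  rw [Pi.smul_apply, aOp_apply]
  by_cases h : j ∈ S
  · rw [if_pos h, smul_zero]
    exact zero_mem _
  · rw [if_neg h]
    have h1 : f (insert j S) ∈ X.gr (e - (insert j S).card) := hf (insert j S)
    rw [Finset.card_insert_of_notMem h] at h1
    have h2 : sgn j S • f (insert j S) ∈ X.gr (e - ((S.card + 1 : ℕ) : ℤ)) := zsmul_mem h1 _
    have h3 := SetLike.GradedSMul.smul_mem (A := 𝒜) (B := X.gr) (hx j) h2
    rw [vadd_eq_add] at h3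
    have h4 : (1 : ℤ) + (e - ((S.card + 1 : ℕ) : ℤ)) = e - S.card := by push_cast; ring
    rw [h4] at h3
    exact h3

theorem maskc_isGrHom (p : ℕ) :
    GrLC.IsGrHom (TG X k).gr (TG X k).gr (maskc (R := R) (M := X.carrier) (k := k) p) := by
  intro e f hf S
  change (if S.card = p then 0 else f S) ∈ X.gr (e - S.card)
  by_cases h : S.card = p
  · rw [if_pos h]; exact zero_mem _
  · rw [if_neg h]; exact hf S

theorem Kp_isHomogeneous (p : ℕ) :
    (KpT (k := k) X p).IsHomogeneous (TG X k).gr :=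
  ker_isHomogeneous (TG X k).gr (TG X k).gr _ (maskc_isGrHom X p)

include hx in
theorem Zp_isHomogeneous (p : ℕ) :
    (ZpT X x p).IsHomogeneous (TG X k).gr :=
  inf_isHomogeneous (TG X k).gr _ _ (Kp_isHomogeneous X p)
    (ker_isHomogeneous (TG X k).gr (TG X k).gr _ (dK_isGrHom X x hx))

include hx in
theorem Bp_isHomogeneous (p : ℕ) :
    (BpT X x p).IsHomogeneous (TG X k).gr :=
  map_isHomogeneous (TG X k).gr (TG X k).gr _ (dK_isGrHom X x hx) _ (Kp_isHomogeneous X (p + 1))

/-- `K_p` as a graded module -/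
noncomputable def KG (p : ℕ) : GrLC.GMod.{u} 𝒜 :=
  subG (TG X k) (KpT X p) (Kp_isHomogeneous X p)

/-- `Z_p` as a graded module -/
noncomputable def ZG (p : ℕ) : GrLC.GMod.{u} 𝒜 :=
  subG (TG X k) (ZpT X x p) (Zp_isHomogeneous X x hx p)

/-- `B_p` as a graded module -/
noncomputable def BG (p : ℕ) : GrLC.GMod.{u} 𝒜 :=
  subG (TG X k) (BpT X x p) (Bp_isHomogeneous X x hx p)

/-- `H_p = Z_p / B_p` as a graded module -/
noncomputable def HG (p : ℕ) : GrLC.GMod.{u} 𝒜 :=
  sqG (TG X k) (BpT X x p) (ZpT X x p) (Zp_isHomogeneous X x hx p)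
    (Bp_isHomogeneous X x hx p)

/-- `0 → Z_{p+1} → K_{p+1} → B_p → 0` -/
noncomputable def sesZKB (p : ℕ) :
    GrSES (R := R) (ZG X x hx (p + 1)).gr (KG (k := k) X (p + 1)).gr (BG X x hx p).gr :=
  kerImSES (TG X k) (dT X x) (dK_isGrHom X x hx) (KpT X (p + 1)) (Kp_isHomogeneous X (p + 1))

/-- `0 → B_p → Z_p → H_p → 0` -/
noncomputable def sesBZH (p : ℕ) :
    GrSES (R := R) (BG X x hx p).gr (ZG X x hx p).gr (HG X x hx p).gr :=
  subQuotSES (TG X k) _ _ (Zp_isHomogeneous X x hx p) (Bp_isHomogeneous X x hx p) (Bp_le_Zp x p)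

theorem gam_HG_eq_top (a : Ideal R) (ha : a = Ideal.span (Set.range x)) (p : ℕ) :
    GrLC.gam a (HG X x hx p).carrier = ⊤ :=
  gam_sqG_eq_top (TG X k) a _ _ _ _ (fun r hr z hz => smul_mem_Bp x r (ha ▸ hr) hz)

end Groth.Agent.H66.GrKoszul
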