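import Groth.Agent.H66.GrKoszul

set_option autoImplicit false
set_option linter.unusedSectionVars false
universe u

/-!
# Diagonal vanishing via the graded Koszul complex
-/

namespace Groth.Agent.H66.GrKoszul

open DirectSum Groth.Agent.H98.GrStar Groth.Agent.H66.GrVanish Groth.Agent.H66.GrSubSES
  Groth.Agent.H66.KoszulAlg

variable {R : Type u} [CommRing R] [IsNoetherianRing R]
  {σ : Type u} [SetLike σ R] [AddSubgroupClass σ R]
  {𝒜 : ℤ → σ} [GradedRing 𝒜]

variable (X : GrLC.GMod.{u} 𝒜) {k : ℕ} (x : Fin k → R) (hx : ∀ j, x j ∈ 𝒜 1)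
  (a : HomogeneousIdeal 𝒜)

/-- `*H^j(K_p)_e = 0` as soon as `*H^j(X)_{e-p} = 0` -/
theorem vanishAt_KG (p : ℕ) (j : ℕ) (e : ℤ) (h : VanishAt a X j (e - p)) :
    VanishAt a (KG (k := k) X p) j e := by
  classical
  refine vanishAt_of_retracts a (KG (k := k) X p) (J := {S : Finset (Fin k) // S.card = p})
    (fun _ => shM 𝒜 X.gr (p : ℤ))
    (fun S => show ↥(Kp (R := R) (M := X.carrier) (k := k) p) →ₗ[R] X.carrier from evK p S.1)
    (fun S => show X.carrier →ₗ[R] ↥(Kp (R := R) (M := X.carrier) (k := k) p) from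
      inK (R := R) p S.1 S.2)
    ?_ ?_ j e (fun _ => vanishAt_shift a X (p : ℤ) j e h)
  · intro S e' f hf
    have h1 : (f : ↥(Kp (R := R) (M := X.carrier) (k := k) p)).1 S.1 ∈ X.gr (e' - S.1.card) :=
      hf S.1
    rw [S.2] at h1
    exact h1
  · intro f
    exact sum_inK_evK (R := R) (M := X.carrier) p f

/-- `*H^j(X)_e = 0` as soon as `*H^j(K_0)_e = 0` -/
theorem vanishAt_of_KG_zero (j : ℕ) (e : ℤ) (h : VanishAt a (KG (k := k) X 0) j e) :
    VanishAt a X j e := by
  classical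
  refine vanishAt_of_retracts a X (J := Unit) (fun _ => KG (k := k) X 0)
    (fun _ => show X.carrier →ₗ[R] ↥(Kp (R := R) (M := X.carrier) (k := k) 0) from
      inK (R := R) 0 ∅ Finset.card_empty)
    (fun _ => show ↥(Kp (R := R) (M := X.carrier) (k := k) 0) →ₗ[R] X.carrier from evK 0 ∅)
    ?_ ?_ j e (fun _ => h)
  · intro _ e' m hm S
    change (Pi.single (∅ : Finset (Fin k)) m : Finset (Fin k) → X.carrier) S ∈ X.gr (e' - S.card)
    rw [Pi.single_apply]
    by_cases hS : S = ∅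
    · subst hS
      rw [if_pos rfl, Finset.card_empty, Nat.cast_zero, sub_zero]
      exact hm
    · rw [if_neg hS]
      exact zero_mem _
  · intro m
    rw [Fintype.sum_unique]
    change (Pi.single (∅ : Finset (Fin k)) m : Finset (Fin k) → X.carrier) ∅ = m
    rw [Pi.single_eq_same]

theorem vanishAt_subG_congr (Y : GrLC.GMod.{u} 𝒜) (P Q : Submodule R Y.carrier)
    (hP : P.IsHomogeneous Y.gr) (hQ : Q.IsHomogeneous Y.gr) (hPQ : P = Q) (j : ℕ) (e : ℤ)
    (h : VanishAt a (subG Y P hP) j e) : VanishAt a (subG Y Q hQ) j e := by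
  subst hPQ
  exact h

include hx in
/-- the descending induction through the Koszul complex -/
theorem vanishAt_BG (ha : a.toIdeal = Ideal.span (Set.range x)) (i : ℕ) (e : ℤ)
    (h : ∀ p : ℕ, VanishAt a X (i + p) (e - p - 1)) :
    ∀ (n p : ℕ), k ≤ p + n → VanishAt a (BG X x hx p) (i + p) e := by
  intro n
  induction n with
  | zero =>
    intro p hp
    apply vanishAt_of_subsingleton
    have hbot : Bp (M := X.carrier) x p = ⊥ := Bp_eq_bot x (by omega)
    constructor
    intro y z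
    have hy : (y : ↥(Bp (M := X.carrier) x p)).1 ∈ (⊥ : Submodule R _) := hbot ▸ y.2
    have hz : (z : ↥(Bp (M := X.carrier) x p)).1 ∈ (⊥ : Submodule R _) := hbot ▸ z.2
    rw [Submodule.mem_bot] at hy hz
    exact Subtype.ext (hy.trans hz.symm)
  | succ n ih =>
    intro p hp
    have h1 : VanishAt a (BG X x hx (p + 1)) (i + (p + 1)) e := ih (p + 1) (by omega)
    have h2 : VanishAt a (HG X x hx (p + 1)) (i + (p + 1)) e :=
      vanishAt_of_gam_eq_top a _ (gam_HG_eq_top X x hx a.toIdeal ha (p + 1)) _ (by omega) e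
    have h3 : VanishAt a (ZG X x hx (p + 1)) (i + (p + 1)) e :=
      vanishAt_mid a (sesBZH X x hx (p + 1)) _ e h1 h2
    have h4 : VanishAt a (KG (k := k) X (p + 1)) (i + p) e := by
      apply vanishAt_KG
      have := h p
      have h5 : e - ((p + 1 : ℕ) : ℤ) = e - p - 1 := by push_cast; ring
      rw [h5]
      exact this
    exact vanishAt_right a (sesZKB X x hx p) (i + p) e h4 h3

include hx in
/-- **Diagonal vanishing**: if `*H^{i+p}(X)_{e-p-1} = 0` for all `p ≥ 0` and `i ≥ 1`, then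
`*H^i(X)_e = 0`. -/
theorem vanishAt_of_diag (ha : a.toIdeal = Ideal.span (Set.range x)) (i : ℕ) (hi : 1 ≤ i) (e : ℤ)
    (h : ∀ p : ℕ, VanishAt a X (i + p) (e - p - 1)) : VanishAt a X i e := by
  have h1 : VanishAt a (BG X x hx 0) (i + 0) e := vanishAt_BG X x hx a ha i e h k 0 (by omega)
  have h2 : VanishAt a (HG X x hx 0) i e :=
    vanishAt_of_gam_eq_top a _ (gam_HG_eq_top X x hx a.toIdeal ha 0) _ hi e
  have h3 : VanishAt a (ZG X x hx 0) i e := vanishAt_mid a (sesBZH X x hx 0) _ e h1 h2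
  apply vanishAt_of_KG_zero X a (k := k)
  exact vanishAt_subG_congr a (TG X k) _ _ _ _ (Zp_zero x) i e h3

/-- an element of degree `e` of `Γ_a(X)` vanishes if `*H^0_a(X)_e = 0` -/
theorem eq_zero_of_vanishAt_zero (Y : GrLC.GMod.{u} 𝒜) (e : ℤ) (h : VanishAt a Y 0 e)
    (m : Y.carrier) (hm : m ∈ Y.gr e) (hgam : m ∈ GrLC.gam a.toIdeal Y.carrier) : m = 0 := by
  let E := res 𝒜 Y.gr
  have h1 := toH_ε_mem_Hgr E a e m hgam hm
  have h2 := h E _ h1
  have h3 : (⟨E.ε m, ε_mem_cocyc E a m hgam⟩ : E.cocyc a 0) ∈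
      (E.cobdy a 0).comap (E.cocyc a 0).subtype := (Submodule.Quotient.mk_eq_zero _).1 h2
  have h4 : E.ε m = 0 := h3
  exact E.ε_injective (h4.trans (map_zero _).symm)

include hx in
/-- **Generation**: if `*H^0(X)_e = 0` and `*H^{1+p}(X)_{e-p-1} = 0` for all `p ≥ 0`, then
`X_e ⊆ a X`. -/
theorem mem_smul_top_of_vanish (ha : a.toIdeal = Ideal.span (Set.range x)) (e : ℤ)
    (h0 : VanishAt a X 0 e) (h : ∀ p : ℕ, VanishAt a X (1 + p) (e - p - 1))
    (m : X.carrier) (hm : m ∈ X.gr e) : m ∈ a.toIdeal • (⊤ : Submodule R X.carrier) := by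
  classical
  have h1 : VanishAt a (BG X x hx 0) (0 + 1) e := vanishAt_BG X x hx a ha 1 e h k 0 (by omega)
  have h2 : VanishAt a (ZG X x hx 0) 0 e :=
    vanishAt_subG_congr a (TG X k) _ _ _ _ (Zp_zero x).symm 0 e
      (vanishAt_KG X a 0 0 e (by rwa [Nat.cast_zero, sub_zero]))
  have h3 : VanishAt a (HG X x hx 0) 0 e := vanishAt_right a (sesBZH X x hx 0) 0 e h2 h1
  -- the element `m` placed at `∅`
  have hz : (Pi.single (∅ : Finset (Fin k)) m : Finset (Fin k) → X.carrier) ∈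
      Zp (M := X.carrier) x 0 := by
    rw [Zp_zero, mem_Kp]
    intro S hS
    rw [Pi.single_apply, if_neg]
    intro hS'
    subst hS'
    simp at hS
  have hdeg : (Pi.single (∅ : Finset (Fin k)) m : Finset (Fin k) → X.carrier) ∈ (TG X k).gr e := by
    intro S
    change (Pi.single (∅ : Finset (Fin k)) m : Finset (Fin k) → X.carrier) S ∈ X.gr (e - S.card)
    rw [Pi.single_apply]
    by_cases hS : S = ∅
    · subst hS
      rw [if_pos rfl, Finset.card_empty, Nat.cast_zero, sub_zero]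
      exact hm
    · rw [if_neg hS]
      exact zero_mem _
  let z : ↥(ZpT X x 0) := ⟨Pi.single (∅ : Finset (Fin k)) m, hz⟩
  have h4 : ((BpT X x 0).comap (ZpT X x 0).subtype).mkQ z ∈ (HG X x hx 0).gr e :=
    mkQ_mem_sqG_gr (TG X k) _ _ _ _ e z hdeg
  have h5 := eq_zero_of_vanishAt_zero a (HG X x hx 0) e h3 _ h4
    (by rw [gam_HG_eq_top X x hx a.toIdeal ha 0]; trivial)
  have h6 : z ∈ (BpT X x 0).comap (ZpT X x 0).subtype := (Submodule.Quotient.mk_eq_zero _).1 h5
  obtain ⟨f, -, hf⟩ := h6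
  have h7 := dK_apply_empty_mem x f
  have h8 : dK x f ∅ = m := by
    have : (dK x f : Finset (Fin k) → X.carrier) = Pi.single (∅ : Finset (Fin k)) m := hf
    rw [this, Pi.single_eq_same]
  rw [h8, ← ha] at h7
  exact h7

end Groth.Agent.H66.GrKoszul
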