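import Groth.Agent.H66.GrRegFree
import Groth.Agent.H98.GrStar.EndDeg

set_option autoImplicit false
set_option linter.unusedSectionVars false
universe u

/-!
# Strong regularity in terms of the ends of the graded local cohomology modules
-/

namespace Groth.Agent.H66.GrRegEnd

open DirectSum Groth.Agent.H98.GrStar Groth.Agent.H66.GrVanish Groth.Agent.H66.GrRegFree

variable {R : Type u} [CommRing R] [IsNoetherianRing R]
  {σ : Type u} [SetLike σ R] [AddSubgroupClass σ R]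
  {𝒜 : ℤ → σ} [GradedRing 𝒜]

variable (a : HomogeneousIdeal 𝒜)

theorem coe_sub_add_coe (d i : ℤ) :
    ((((d - i : ℤ) : WithTop ℤ) : WithBot (WithTop ℤ)) +
      (((i : ℤ) : WithTop ℤ) : WithBot (WithTop ℤ))) = ((d : WithTop ℤ) : WithBot (WithTop ℤ)) := by
  rw [← WithBot.coe_add, ← WithTop.coe_add, sub_add_cancel]

theorem strongReg_iff_endDeg (X : GrLC.GMod.{u} 𝒜) (E : GrLC.StarInjRes 𝒜 X.gr) (d : ℤ) :
    StrongReg a X d ↔ ∀ i : ℕ, GrLC.endDeg (E.Hgr a i) +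
      ((((i : ℕ) : ℤ) : WithTop ℤ) : WithBot (WithTop ℤ)) ≤
        ((d : WithTop ℤ) : WithBot (WithTop ℤ)) := by
  constructor
  · intro h i
    have h1 : GrLC.endDeg (E.Hgr a i) ≤ (((d - i : ℤ) : WithTop ℤ) : WithBot (WithTop ℤ)) := by
      refine endDeg_le_of_forall _ (d - i) (fun n hn => ?_)
      rw [Hgr_eq_bot_iff]
      exact (vanishAt_iff_Hcomp a X i n E).1 (h i n hn)
    calc GrLC.endDeg (E.Hgr a i) + ((((i : ℕ) : ℤ) : WithTop ℤ) : WithBot (WithTop ℤ))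
        ≤ (((d - i : ℤ) : WithTop ℤ) : WithBot (WithTop ℤ)) +
          ((((i : ℕ) : ℤ) : WithTop ℤ) : WithBot (WithTop ℤ)) := add_le_add h1 le_rfl
      _ = ((d : WithTop ℤ) : WithBot (WithTop ℤ)) := coe_sub_add_coe d i
  · intro h j e he
    apply (vanishAt_iff_Hcomp a X j e E).2
    rw [← Hgr_eq_bot_iff]
    exact eq_bot_of_endDeg_add_le (E.Hgr a j) (j : ℤ) d e (h j) (by omega)

/-- strong regularity in the weak ("Mumford") form -/
theorem strongReg_iff_weak (hhom : a.toIdeal = Ideal.span ((𝒜 1 : σ) : Set R))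
    (X : GrLC.GMod.{u} 𝒜) (E : GrLC.StarInjRes 𝒜 X.gr) (d : ℤ) :
    StrongReg a X d ↔ (GrLC.endDeg (E.Hgr a 0) ≤ ((d : WithTop ℤ) : WithBot (WithTop ℤ)) ∧
      ∀ i : ℕ, 0 < i → E.Hcomp a i (d - (i : ℤ) + 1) = ⊥) := by
  constructor
  · intro h
    refine ⟨?_, fun i _ => (vanishAt_iff_Hcomp a X i _ E).1 (h i _ (by omega))⟩
    refine endDeg_le_of_forall _ d (fun n hn => ?_)
    rw [Hgr_eq_bot_iff]
    exact (vanishAt_iff_Hcomp a X 0 n E).1 (h 0 n (by simpa using hn))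
  · rintro ⟨h0, h1⟩
    refine strongReg_of_weak a hhom X d (fun e he => ?_)
      (fun i hi => (vanishAt_iff_Hcomp a X i _ E).2 (h1 i hi))
    apply (vanishAt_iff_Hcomp a X 0 e E).2
    rw [← Hgr_eq_bot_iff]
    exact eq_bot_of_endDeg_add_le (E.Hgr a 0) 0 d e (by simpa using h0) (by omega)

end Groth.Agent.H66.GrRegEnd
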