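import Groth.Agent.H66.GrRegular
import Groth.Agent.H98.GrStar.QuasiReg

set_option autoImplicit false
set_option linter.unusedSectionVars false
universe u

/-!
# Regularity and quotients by a quasi-regular linear form
-/

namespace Groth.Agent.H66.GrRegQuot

open DirectSum Groth.Agent.H98.GrStar Groth.Agent.H66.GrVanish Groth.Agent.H66.GrRegular

variable {R : Type u} [CommRing R] [IsNoetherianRing R]
  {σ : Type u} [SetLike σ R] [AddSubgroupClass σ R]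
  {𝒜 : ℤ → σ} [GradedRing 𝒜]
variable {M : Type u} [AddCommGroup M] [Module R M] {ℳ : ℤ → AddSubgroup M}
  [DirectSum.Decomposition ℳ] [SetLike.GradedSMul 𝒜 ℳ]
variable {N : Type u} [AddCommGroup N] [Module R N] {𝒩 : ℤ → AddSubgroup N}
  [DirectSum.Decomposition 𝒩] [SetLike.GradedSMul 𝒜 𝒩]

theorem vanishAt_of_shift (a : HomogeneousIdeal 𝒜) (X : GrLC.GMod.{u} 𝒜) (p : ℤ) (i : ℕ) (g : ℤ)
    (h : VanishAt a (shM 𝒜 X.gr p) i g) : VanishAt a X i (g - p) := by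
  refine vanishAt_of_exists a _ i (g - p) (res 𝒜 X.gr) (fun y hy => ?_)
  exact h (shiftDeg (res 𝒜 X.gr) p) y hy

variable (a : HomogeneousIdeal 𝒜) (x : R) (hx : x ∈ 𝒜 1)
  (hK : ∀ m ∈ Submodule.torsionBy R M x, m ∈ GrLC.gam a.toIdeal M)
  (π : M →ₗ[R] N) (hπ : Function.Surjective π) (hπg : GrLC.IsGrHom ℳ 𝒩 π)
  (hker : LinearMap.ker π = LinearMap.range (x • (LinearMap.id : M →ₗ[R] M)))

include hK in
theorem vanishAt_Mbar (i : ℕ) (g : ℤ) (h : VanishAt a (GrLC.GMod.of 𝒜 M ℳ) i g) :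
    VanishAt a (Mbar (ℳ := ℳ) x hx) i g :=
  vanishAt_right a (X' := Kg (ℳ := ℳ) x hx) (X := GrLC.GMod.of 𝒜 M ℳ)
    (X'' := Mbar (ℳ := ℳ) x hx) (sesA (ℳ := ℳ) x hx) i g h
    (vanishAt_of_gam_eq_top a _ (gam_Kg_eq_top a x hK hx) (i + 1) (by omega) g)

include hK in
theorem vanishAt_of_Mbar (i : ℕ) (hi : 1 ≤ i) (g : ℤ) (h : VanishAt a (Mbar (ℳ := ℳ) x hx) i g) :
    VanishAt a (GrLC.GMod.of 𝒜 M ℳ) i g :=
  vanishAt_mid a (X' := Kg (ℳ := ℳ) x hx) (X := GrLC.GMod.of 𝒜 M ℳ)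
    (X'' := Mbar (ℳ := ℳ) x hx) (sesA (ℳ := ℳ) x hx) i g
    (vanishAt_of_gam_eq_top a _ (gam_Kg_eq_top a x hK hx) i hi g) h

include hx hK hπ hπg hker in
/-- `*H^i(M)_g = 0` and `*H^{i+1}(M)_{g-1} = 0` imply `*H^i(M/xM)_g = 0` -/
theorem vanishAt_quot (i : ℕ) (g : ℤ) (h1 : VanishAt a (GrLC.GMod.of 𝒜 M ℳ) i g)
    (h2 : VanishAt a (GrLC.GMod.of 𝒜 M ℳ) (i + 1) (g - 1)) :
    VanishAt a (GrLC.GMod.of 𝒜 N 𝒩) i g :=
  vanishAt_right a (X' := shM 𝒜 (Mbar (ℳ := ℳ) x hx).gr 1) (X := GrLC.GMod.of 𝒜 M ℳ)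
    (X'' := GrLC.GMod.of 𝒜 N 𝒩) (sesB (ℳ := ℳ) (𝒩 := 𝒩) x hx π hπ hπg hker) i g h1
    (vanishAt_shift a _ 1 (i + 1) g (vanishAt_Mbar a x hx hK (i + 1) (g - 1) h2))

include hx hK hπ hπg hker in
/-- `*H^i(M/xM)_g = 0` and `*H^{i+1}(M)_g = 0` imply `*H^{i+1}(M)_{g-1} = 0` -/
theorem vanishAt_descend (i : ℕ) (g : ℤ) (h1 : VanishAt a (GrLC.GMod.of 𝒜 N 𝒩) i g)
    (h2 : VanishAt a (GrLC.GMod.of 𝒜 M ℳ) (i + 1) g) :
    VanishAt a (GrLC.GMod.of 𝒜 M ℳ) (i + 1) (g - 1) := by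
  have h3 : VanishAt a (shM 𝒜 (Mbar (ℳ := ℳ) x hx).gr 1) (i + 1) g :=
    vanishAt_left a (X' := shM 𝒜 (Mbar (ℳ := ℳ) x hx).gr 1) (X := GrLC.GMod.of 𝒜 M ℳ)
      (X'' := GrLC.GMod.of 𝒜 N 𝒩) (sesB (ℳ := ℳ) (𝒩 := 𝒩) x hx π hπ hπg hker) i g h1 h2
  exact vanishAt_of_Mbar a x hx hK (i + 1) (by omega) (g - 1)
    (vanishAt_of_shift a (Mbar (ℳ := ℳ) x hx) 1 (i + 1) g h3)

variable (hpos : ∀ n : ℤ, n < 0 → ∀ r ∈ 𝒜 n, r = 0)
  (ha : a.toIdeal = Ideal.span (⋃ n ∈ Set.Ioi (0 : ℤ), (𝒜 n : Set R)))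
  (hhom : a.toIdeal = Ideal.span ((𝒜 1 : σ) : Set R))

include hhom in
/-- restatement of diagonal vanishing in terms of `VanishAt` -/
theorem vanishAt_of_diag' (X : GrLC.GMod.{u} 𝒜) (r : ℤ) (l : ℕ) (hl : 1 ≤ l)
    (hvan : ∀ i : ℕ, l ≤ i → VanishAt a X i (r + 1 - i)) (i : ℕ) (hi : l ≤ i) (s : ℤ)
    (hs : r < s) : VanishAt a X i (s - i) := by
  let E := res 𝒜 X.gr
  apply (vanishAt_iff_Hcomp a X i _ E).2
  exact Hcomp_eq_bot_of_diag 𝒜 X.gr a hhom E r l hl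
    (fun j hj => (vanishAt_iff_Hcomp a X j _ E).1 (hvan j hj)) i hi s hs

include hx hK hπ hπg hker hpos ha hhom in
/-- **regularity and quasi-regular hyperplane sections** -/
theorem dRegular_iff [Module.Finite R M] (d : ℤ) :
    ((∀ e : ℤ, d < e → VanishAt a (GrLC.GMod.of 𝒜 M ℳ) 0 e) ∧
      ∀ i : ℕ, 0 < i → VanishAt a (GrLC.GMod.of 𝒜 M ℳ) i (d - i + 1)) ↔
    (((∀ e : ℤ, d < e → VanishAt a (GrLC.GMod.of 𝒜 N 𝒩) 0 e) ∧
      ∀ i : ℕ, 0 < i → VanishAt a (GrLC.GMod.of 𝒜 N 𝒩) i (d - i + 1)) ∧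
      ∀ e : ℤ, d < e → VanishAt a (GrLC.GMod.of 𝒜 M ℳ) 0 e) := by
  constructor
  · rintro ⟨h0, h1⟩
    refine ⟨⟨?_, ?_⟩, h0⟩
    · intro e he
      apply vanishAt_quot a x hx hK π hπ hπg hker 0 e (h0 e he)
      have := vanishAt_of_diag' a hhom (GrLC.GMod.of 𝒜 M ℳ) d 1 le_rfl
        (fun i hi => by
          have := h1 i (by omega)
          have h2 : d + 1 - (i : ℤ) = d - i + 1 := by ring
          rwa [h2]) 1 le_rfl e he
      simpa using this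
    · intro i hi
      apply vanishAt_quot a x hx hK π hπ hπg hker i _ (h1 i hi)
      have := h1 (i + 1) (by omega)
      have h2 : d - ((i + 1 : ℕ) : ℤ) + 1 = d - (i : ℤ) + 1 - 1 := by push_cast; ring
      rwa [h2] at this
  · rintro ⟨⟨hN0, hN1⟩, h0⟩
    refine ⟨h0, ?_⟩
    -- `N` is `d`-regular in the strong sense
    have hN : ∀ (j : ℕ) (s : ℤ), d < s → VanishAt a (GrLC.GMod.of 𝒜 N 𝒩) j (s - j) := by
      intro j s hs
      rcases Nat.eq_zero_or_pos j with hj | hj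
      · subst hj
        rw [Nat.cast_zero, sub_zero]
        exact hN0 s hs
      · exact vanishAt_of_diag' a hhom (GrLC.GMod.of 𝒜 N 𝒩) d 1 le_rfl
          (fun i hi => by
            have := hN1 i (by omega)
            have h2 : d + 1 - (i : ℤ) = d - i + 1 := by ring
            rwa [h2]) j hj s hs
    intro i hi
    obtain ⟨j, rfl⟩ : ∃ j, i = j + 1 := ⟨i - 1, by omega⟩
    -- high-degree vanishing
    have hirr : ∀ n : ℤ, 0 < n → ∀ r ∈ 𝒜 n, r ∈ a.toIdeal := by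
      intro n hn r hr
      rw [ha]
      exact Ideal.subset_span (Set.mem_iUnion₂.2 ⟨n, hn, hr⟩)
    have hfin : Module.Finite R (GrLC.GMod.of 𝒜 M ℳ).carrier := ‹Module.Finite R M›
    obtain ⟨N₀, hN₀⟩ := vanishHigh 𝒜 hpos a hirr (j + 1) (GrLC.GMod.of 𝒜 M ℳ)
      (res 𝒜 (GrLC.GMod.of 𝒜 M ℳ).gr)
    have hhigh : ∀ n : ℤ, N₀ ≤ n → VanishAt a (GrLC.GMod.of 𝒜 M ℳ) (j + 1) n := fun n hn =>
      vanishAt_of_exists a _ (j + 1) n _ (hN₀ n hn)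
    -- descending induction
    have key : ∀ t : ℕ, ∀ n : ℤ, d - ((j + 1 : ℕ) : ℤ) + 1 ≤ n → N₀ ≤ n + t →
        VanishAt a (GrLC.GMod.of 𝒜 M ℳ) (j + 1) n := by
      intro t
      induction t with
      | zero =>
        intro n _ hn
        exact hhigh n (by simpa using hn)
      | succ t ih =>
        intro n hn1 hn2
        have h1 := ih (n + 1) (by omega) (by push_cast at hn2 ⊢; omega)
        have h2 : VanishAt a (GrLC.GMod.of 𝒜 N 𝒩) j (n + 1) := by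
          have := hN j (n + 1 + j) (by push_cast at hn1; omega)
          rwa [add_sub_cancel_right] at this
        have := vanishAt_descend a x hx hK π hπ hπg hker j (n + 1) h2 h1
        rwa [add_sub_cancel_right] at this
    exact key (N₀ - (d - ((j + 1 : ℕ) : ℤ) + 1)).toNat _ le_rfl (by
      have := Int.self_le_toNat (N₀ - (d - ((j + 1 : ℕ) : ℤ) + 1))
      omega)

end Groth.Agent.H66.GrRegQuot
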