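import Groth.Agent.H66.GrRegEnd
import Groth.Agent.H66.GrRegQuot

set_option autoImplicit false
set_option linter.unusedSectionVars false
universe u

/-!
# Strong regularity and quasi-regular hyperplane sections
-/

namespace Groth.Agent.H66.GrRegQuot2

open DirectSum Groth.Agent.H98.GrStar Groth.Agent.H66.GrVanish Groth.Agent.H66.GrRegFree
  Groth.Agent.H66.GrRegQuot

variable {R : Type u} [CommRing R] [IsNoetherianRing R]
  {σ : Type u} [SetLike σ R] [AddSubgroupClass σ R]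
  {𝒜 : ℤ → σ} [GradedRing 𝒜]

variable (a : HomogeneousIdeal 𝒜)

theorem strongReg_iff_weakV (hhom : a.toIdeal = Ideal.span ((𝒜 1 : σ) : Set R))
    (X : GrLC.GMod.{u} 𝒜) (d : ℤ) :
    StrongReg a X d ↔ ((∀ e : ℤ, d < e → VanishAt a X 0 e) ∧
      ∀ i : ℕ, 0 < i → VanishAt a X i (d - i + 1)) := by
  constructor
  · intro h
    exact ⟨fun e he => h 0 e (by simpa using he), fun i _ => h i _ (by omega)⟩
  · rintro ⟨h0, h1⟩
    exact strongReg_of_weak a hhom X d h0 h1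

theorem forall_vanishAt_zero_iff_endDeg (X : GrLC.GMod.{u} 𝒜) (E : GrLC.StarInjRes 𝒜 X.gr)
    (d : ℤ) :
    (∀ e : ℤ, d < e → VanishAt a X 0 e) ↔
      GrLC.endDeg (E.Hgr a 0) ≤ ((d : WithTop ℤ) : WithBot (WithTop ℤ)) := by
  constructor
  · intro h
    refine endDeg_le_of_forall _ d (fun n hn => ?_)
    rw [Hgr_eq_bot_iff]
    exact (vanishAt_iff_Hcomp a X 0 n E).1 (h n hn)
  · intro h e he
    apply (vanishAt_iff_Hcomp a X 0 e E).2
    rw [← Hgr_eq_bot_iff]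
    exact eq_bot_of_endDeg_add_le (E.Hgr a 0) 0 d e (by simpa using h) (by omega)

variable {M : Type u} [AddCommGroup M] [Module R M] {ℳ : ℤ → AddSubgroup M}
  [DirectSum.Decomposition ℳ] [SetLike.GradedSMul 𝒜 ℳ]
variable {N : Type u} [AddCommGroup N] [Module R N] {𝒩 : ℤ → AddSubgroup N}
  [DirectSum.Decomposition 𝒩] [SetLike.GradedSMul 𝒜 𝒩]

variable (x : R) (hx : x ∈ 𝒜 1)
  (hK : ∀ m ∈ Submodule.torsionBy R M x, m ∈ GrLC.gam a.toIdeal M)
  (π : M →ₗ[R] N) (hπ : Function.Surjective π) (hπg : GrLC.IsGrHom ℳ 𝒩 π)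
  (hker : LinearMap.ker π = LinearMap.range (x • (LinearMap.id : M →ₗ[R] M)))
  (hpos : ∀ n : ℤ, n < 0 → ∀ r ∈ 𝒜 n, r = 0)
  (ha : a.toIdeal = Ideal.span (⋃ n ∈ Set.Ioi (0 : ℤ), (𝒜 n : Set R)))
  (hhom : a.toIdeal = Ideal.span ((𝒜 1 : σ) : Set R))

include hx hK hπ hπg hker hpos ha hhom in
theorem strongReg_quot_iff [Module.Finite R M] (d : ℤ) :
    StrongReg a (GrLC.GMod.of 𝒜 M ℳ) d ↔
      (StrongReg a (GrLC.GMod.of 𝒜 N 𝒩) d ∧
        ∀ e : ℤ, d < e → VanishAt a (GrLC.GMod.of 𝒜 M ℳ) 0 e) := by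
  rw [strongReg_iff_weakV a hhom, strongReg_iff_weakV a hhom]
  exact dRegular_iff a x hx hK π hπ hπg hker hpos ha hhom d

end Groth.Agent.H66.GrRegQuot2
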