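import Groth.Agent.H66.GrRegFree
import Groth.Agent.H98.GrStar.Self

set_option autoImplicit false
set_option linter.unusedSectionVars false
universe u

/-!
# Strong regularity along a regular sequence of linear forms (general standard graded ring)

(The chain of quotients is adapted from helper85's `GrLCRegSeq`, for a general carrier `σ`.)
-/

namespace Groth.Agent.H66.GrRegSeq

open DirectSum Groth.Agent.H98.GrStar Groth.Agent.H66.GrVanish Groth.Agent.H66.GrRegular
  Groth.Agent.H66.GrRegQuot Groth.Agent.H66.GrRegFree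

variable {R : Type u} [CommRing R] [IsNoetherianRing R]
  {σ : Type u} [SetLike σ R] [AddSubgroupClass σ R]
  {𝒜 : ℤ → σ} [GradedRing 𝒜]

variable (a : HomogeneousIdeal 𝒜)
  (hpos : ∀ n : ℤ, n < 0 → ∀ r ∈ 𝒜 n, r = 0)
  (ha : a.toIdeal = Ideal.span (⋃ n ∈ Set.Ioi (0 : ℤ), (𝒜 n : Set R)))
  (hhom : a.toIdeal = Ideal.span ((𝒜 1 : σ) : Set R))

section Step

variable (I I' : HomogeneousIdeal 𝒜) (x : R) (hx : x ∈ 𝒜 1)
  (hII' : I'.toIdeal = I.toIdeal ⊔ Ideal.span {x})
  (hreg : ∀ r : R, x * r ∈ I.toIdeal → r ∈ I.toIdeal)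

/-- the transition map `R ⧸ I → R ⧸ I'` -/
noncomputable def trans (hle : I.toIdeal ≤ I'.toIdeal) :
    (quotIdealGMod 𝒜 I).carrier →ₗ[R] (quotIdealGMod 𝒜 I').carrier :=
  Submodule.mapQ I.toIdeal I'.toIdeal LinearMap.id (fun _ hx => hle hx)

theorem trans_mk (hle : I.toIdeal ≤ I'.toIdeal) (r : R) :
    trans I I' hle (Ideal.Quotient.mk I.toIdeal r) = Ideal.Quotient.mk I'.toIdeal r := rfl

theorem trans_surjective (hle : I.toIdeal ≤ I'.toIdeal) :
    Function.Surjective (trans I I' hle) := by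
  intro y
  obtain ⟨r, rfl⟩ := Ideal.Quotient.mk_surjective y
  exact ⟨Ideal.Quotient.mk _ r, rfl⟩

theorem trans_isGrHom (hle : I.toIdeal ≤ I'.toIdeal) :
    GrLC.IsGrHom (quotIdealGMod 𝒜 I).gr (quotIdealGMod 𝒜 I').gr (trans I I' hle) := by
  intro k y hy
  obtain ⟨s, hs, rfl⟩ := hy
  exact ⟨s, hs, rfl⟩

include hII' in
theorem trans_ker (hle : I.toIdeal ≤ I'.toIdeal) :
    LinearMap.ker (trans I I' hle) =
      LinearMap.range (x • (LinearMap.id :
        (quotIdealGMod 𝒜 I).carrier →ₗ[R] (quotIdealGMod 𝒜 I).carrier)) := by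
  ext y
  obtain ⟨r, rfl⟩ := Ideal.Quotient.mk_surjective y
  rw [LinearMap.mem_ker]
  constructor
  · intro h
    have h1 : Ideal.Quotient.mk I'.toIdeal r = 0 := h
    rw [Ideal.Quotient.eq_zero_iff_mem, hII', Submodule.mem_sup] at h1
    obtain ⟨u, hu, v, hv, huv⟩ := h1
    obtain ⟨c, rfl⟩ := Ideal.mem_span_singleton'.1 hv
    refine ⟨Ideal.Quotient.mk _ c, ?_⟩
    change x • (Ideal.Quotient.mk I.toIdeal c) = Ideal.Quotient.mk _ r
    rw [Algebra.smul_def, Ideal.Quotient.algebraMap_eq, ← map_mul, eq_comm,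
      Ideal.Quotient.eq, ← huv]
    have : u + c * x - x * c = u := by ring
    rw [this]
    exact hu
  · rintro ⟨z, hz⟩
    obtain ⟨c, rfl⟩ := Ideal.Quotient.mk_surjective z
    have hz' : x • (Ideal.Quotient.mk I.toIdeal c) = Ideal.Quotient.mk _ r := hz
    rw [Algebra.smul_def, Ideal.Quotient.algebraMap_eq, ← map_mul, eq_comm,
      Ideal.Quotient.eq] at hz'
    change Ideal.Quotient.mk I'.toIdeal r = 0
    rw [Ideal.Quotient.eq_zero_iff_mem, hII']
    have : r = (r - x * c) + c * x := by ring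
    rw [this]
    exact Ideal.add_mem _ (Ideal.mem_sup_left hz')
      (Ideal.mem_sup_right (Ideal.mem_span_singleton'.2 ⟨c, rfl⟩))

include hreg in
theorem isSMulRegular_quot : IsSMulRegular (quotIdealGMod 𝒜 I).carrier x := by
  change IsSMulRegular (R ⧸ I.toIdeal) x
  rw [isSMulRegular_quotient_iff_mem_of_smul_mem]
  intro r hr
  exact hreg r hr

instance finite_quot : Module.Finite R (quotIdealGMod 𝒜 I).carrier :=
  (inferInstance : Module.Finite R (R ⧸ I.toIdeal))

include hx hII' hreg hpos ha hhom in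
/-- one step along a regular sequence of linear forms -/
theorem strongReg_quot_of_succ (ρ : ℤ) (h : StrongReg a (quotIdealGMod 𝒜 I') ρ) :
    StrongReg a (quotIdealGMod 𝒜 I) ρ := by
  have hle : I.toIdeal ≤ I'.toIdeal := by rw [hII']; exact le_sup_left
  have hregX := isSMulRegular_quot I x hreg
  have hxa : x ∈ a.toIdeal := by
    rw [hhom]
    exact Ideal.subset_span hx
  have hK : ∀ m ∈ Submodule.torsionBy R (quotIdealGMod 𝒜 I).carrier x,
      m ∈ GrLC.gam a.toIdeal (quotIdealGMod 𝒜 I).carrier := by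
    intro m hm
    rw [Submodule.mem_torsionBy_iff] at hm
    have : m = 0 := hregX (hm.trans (smul_zero x).symm)
    rw [this]
    exact Submodule.zero_mem _
  -- `H^0` of `R ⧸ I` vanishes
  have hH0 : ∀ e : ℤ, VanishAt a (quotIdealGMod 𝒜 I) 0 e := by
    intro e E y hy
    refine Hgr_zero_eq_zero E a e (fun m _ hgam => ?_) y hy
    obtain ⟨n, hn⟩ := hgam
    have h1 : x ^ n • m = 0 := hn _ (Ideal.pow_mem_pow hxa n)
    exact (hregX.pow n) (h1.trans (smul_zero _).symm)
  have key := (dRegular_iff (ℳ := (quotIdealGMod 𝒜 I).gr) (𝒩 := (quotIdealGMod 𝒜 I').gr)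
    a x hx hK (trans I I' hle) (trans_surjective I I' hle) (trans_isGrHom I I' hle)
    (trans_ker I I' x hII' hle) hpos ha hhom ρ).2
    ⟨⟨fun e he => h 0 e (by simpa using he), fun i _ => h i _ (by omega)⟩,
      fun e _ => hH0 e⟩
  exact strongReg_of_weak a hhom (quotIdealGMod 𝒜 I) ρ key.1 key.2

end Step

include ha in
/-- the quotient by an ideal containing the irrelevant ideal is strongly `0`-regular -/
theorem strongReg_quot_of_le (I : HomogeneousIdeal 𝒜) (hI : a.toIdeal ≤ I.toIdeal) :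
    StrongReg a (quotIdealGMod 𝒜 I) 0 := by
  intro j e he
  rcases Nat.eq_zero_or_pos j with hj | hj
  · subst hj
    simp only [Nat.cast_zero, sub_zero] at he
    intro E y hy
    refine Hgr_zero_eq_zero E a e (fun m hm _ => ?_) y hy
    obtain ⟨s, hs, rfl⟩ := hm
    change Ideal.Quotient.mk I.toIdeal s = 0
    rw [Ideal.Quotient.eq_zero_iff_mem]
    apply hI
    rw [ha]
    exact Ideal.subset_span (Set.mem_iUnion₂.2 ⟨e, he, hs⟩)
  · apply vanishAt_of_gam_eq_top a _ _ j hj e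
    rw [eq_top_iff]
    intro y _
    refine ⟨1, fun r hr => ?_⟩
    rw [pow_one] at hr
    obtain ⟨s, rfl⟩ := Ideal.Quotient.mk_surjective y
    change r • Ideal.Quotient.mk I.toIdeal s = 0
    rw [Algebra.smul_def, Ideal.Quotient.algebraMap_eq, ← map_mul,
      Ideal.Quotient.eq_zero_iff_mem]
    exact Ideal.mul_mem_right _ _ (hI hr)

/-- transfer from `R ⧸ ⊥` to `R` -/
theorem strongReg_self_of_quot_bot (I : HomogeneousIdeal 𝒜) (hI : I.toIdeal = ⊥) (ρ : ℤ)
    (h : StrongReg a (quotIdealGMod 𝒜 I) ρ) : StrongReg a (selfG 𝒜) ρ := by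
  intro j e he
  have hinj : Function.Injective (quotMap 𝒜 I) := by
    rw [← LinearMap.ker_eq_bot, quotMap_ker, hI]
  let eqv : R ≃ₗ[R] (R ⧸ I.toIdeal) :=
    LinearEquiv.ofBijective (quotMap 𝒜 I) ⟨hinj, quotMap_surjective 𝒜 I⟩
  refine vanishAt_of_retracts a (selfG 𝒜) (J := Unit) (fun _ => quotIdealGMod 𝒜 I)
    (fun _ => show R →ₗ[R] (R ⧸ I.toIdeal) from quotMap 𝒜 I)
    (fun _ => show (R ⧸ I.toIdeal) →ₗ[R] R from eqv.symm.toLinearMap)
    ?_ ?_ j e (fun _ => h j e he)
  · intro _ k s hs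
    exact ⟨s, hs, rfl⟩
  · intro y
    rw [Fintype.sum_unique]
    exact eqv.symm_apply_apply y

end Groth.Agent.H66.GrRegSeq
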