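import Groth.Agent.H66.GrKoszulMain
import Groth.Agent.H98.GrStar.Nakayama

set_option autoImplicit false
set_option linter.unusedSectionVars false
universe u

/-!
# Castelnuovo–Mumford regularity: diagonal vanishing and generation in degrees `≤ reg`
-/

namespace Groth.Agent.H66.GrRegular

open DirectSum Groth.Agent.H98.GrStar Groth.Agent.H66.GrVanish Groth.Agent.H66.GrKoszul

variable {R : Type u} [CommRing R] [IsNoetherianRing R]
  {σ : Type u} [SetLike σ R] [AddSubgroupClass σ R]
  (𝒜 : ℤ → σ) [GradedRing 𝒜]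

omit [GradedRing 𝒜] in
/-- finitely many generators of degree one -/
theorem exists_gens (a : Ideal R) (hhom : a = Ideal.span ((𝒜 1 : σ) : Set R)) :
    ∃ (k : ℕ) (x : Fin k → R), (∀ j, x j ∈ 𝒜 1) ∧ a = Ideal.span (Set.range x) := by
  classical
  have hfg : (Ideal.span ((𝒜 1 : σ) : Set R)).FG := IsNoetherian.noetherian _
  obtain ⟨s, hs, hspan⟩ := (Submodule.fg_span_iff_fg_span_finset_subset _).1 hfg
  refine ⟨s.card, fun j => (s.equivFin.symm j : R), fun j => hs (s.equivFin.symm j).2, ?_⟩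
  rw [hhom]
  change Submodule.span R _ = Submodule.span R _
  rw [hspan]
  congr 1
  ext r
  constructor
  · intro hr
    exact ⟨s.equivFin ⟨r, hr⟩, by simp⟩
  · rintro ⟨j, rfl⟩
    exact (s.equivFin.symm j).2

variable {M : Type u} [AddCommGroup M] [Module R M] (ℳ : ℤ → AddSubgroup M)
  [DirectSum.Decomposition ℳ] [SetLike.GradedSMul 𝒜 ℳ]

include 𝒜 in
omit [IsNoetherianRing R] in
/-- the span of a set of homogeneous elements is a homogeneous submodule -/
theorem span_isHomogeneous (S : Set M) (hS : ∀ m ∈ S, ∃ n, m ∈ ℳ n) :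
    (Submodule.span R S).IsHomogeneous ℳ := by
  classical
  intro i m hm
  induction hm using Submodule.span_induction generalizing i with
  | mem m hm =>
    obtain ⟨n, hn⟩ := hS m hm
    by_cases h : n = i
    · subst h
      rw [DirectSum.decompose_of_mem_same ℳ hn]
      exact Submodule.subset_span hm
    · rw [DirectSum.decompose_of_mem_ne ℳ hn h]
      exact Submodule.zero_mem _
  | zero =>
    rw [DirectSum.decompose_zero]
    exact Submodule.zero_mem _
  | add y z _ _ hy hz =>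
    rw [DirectSum.decompose_add, DirectSum.add_apply, AddMemClass.coe_add]
    exact Submodule.add_mem _ (hy i) (hz i)
  | smul c y _ hy =>
    rw [decompose_smul_eq_sum 𝒜 ℳ c y i]
    exact Submodule.sum_mem _ (fun e _ => Submodule.smul_mem _ _ (hy (i - e)))

variable (a : HomogeneousIdeal 𝒜) (hhom : a.toIdeal = Ideal.span ((𝒜 1 : σ) : Set R))

include hhom in
/-- **S13228 core**: diagonal vanishing propagates upwards -/
theorem Hcomp_eq_bot_of_diag (E : GrLC.StarInjRes 𝒜 ℳ) (r : ℤ) (l : ℕ) (hl : 1 ≤ l)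
    (hvan : ∀ i : ℕ, l ≤ i → E.Hcomp a i (r + 1 - i) = ⊥) (i : ℕ) (hi : l ≤ i) (s : ℤ)
    (hs : r < s) : E.Hcomp a i (s - i) = ⊥ := by
  obtain ⟨k, x, hx, hspan⟩ := exists_gens 𝒜 a.toIdeal hhom
  let X : GrLC.GMod.{u} 𝒜 := GrLC.GMod.of 𝒜 M ℳ
  have key : ∀ t : ℕ, ∀ i : ℕ, l ≤ i → VanishAt a X i (r + 1 + t - i) := by
    intro t
    induction t with
    | zero =>
      intro i hi
      rw [Nat.cast_zero, add_zero]
      exact (vanishAt_iff_Hcomp a X i _ E).2 (hvan i hi)
    | succ t ih =>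
      intro i hi
      apply vanishAt_of_diag X x hx a hspan i (by omega)
      intro p
      have h1 := ih (i + p) (by omega)
      have h2 : r + 1 + ((t + 1 : ℕ) : ℤ) - (i : ℤ) - (p : ℤ) - 1 =
          r + 1 + (t : ℤ) - ((i + p : ℕ) : ℤ) := by push_cast; ring
      rw [h2]
      exact h1
  have h3 := key (s - r - 1).toNat i hi
  have h4 : r + 1 + ((s - r - 1).toNat : ℤ) - (i : ℤ) = s - i := by
    have := Int.toNat_of_nonneg (show 0 ≤ s - r - 1 by omega)
    omega
  rw [h4] at h3
  exact (vanishAt_iff_Hcomp a X i _ E).1 h3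

omit [IsNoetherianRing R] [GradedRing 𝒜] in
theorem le_pred_of_not_le (y : WithBot (WithTop ℤ)) (n : ℤ)
    (h : ¬ (((n : WithTop ℤ) : WithBot (WithTop ℤ)) ≤ y)) :
    y ≤ (((n - 1 : ℤ) : WithTop ℤ) : WithBot (WithTop ℤ)) := by
  induction y using WithBot.recBotCoe with
  | bot => exact bot_le
  | coe y =>
    induction y using WithTop.recTopCoe with
    | top =>
      exfalso
      apply h
      rw [WithBot.coe_le_coe]
      exact le_top
    | coe m =>
      rw [WithBot.coe_le_coe, WithTop.coe_le_coe] at h ⊢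
      omega

variable (hpos : ∀ n : ℤ, n < 0 → ∀ r ∈ 𝒜 n, r = 0)
  (ha : a.toIdeal = Ideal.span (⋃ n ∈ Set.Ioi (0 : ℤ), (𝒜 n : Set R)))

include hhom hpos ha in
/-- **S13238 core**: a finitely generated graded module is generated in degrees `≤ reg` -/
theorem span_le_reg_eq_top [Module.Finite R M] (E : GrLC.StarInjRes 𝒜 ℳ) :
    Submodule.span R (⋃ (n : ℤ) (_ : ((n : WithTop ℤ) : WithBot (WithTop ℤ)) ≤
      ⨆ i : ℕ, GrLC.endDeg (E.Hgr a i) + ((i : ℤ) : WithTop ℤ)), (ℳ n : Set M)) = ⊤ := by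
  classical
  obtain ⟨k, x, hx, hspan⟩ := exists_gens 𝒜 a.toIdeal hhom
  let X : GrLC.GMod.{u} 𝒜 := GrLC.GMod.of 𝒜 M ℳ
  set reg : WithBot (WithTop ℤ) :=
    ⨆ i : ℕ, GrLC.endDeg (E.Hgr a i) + (((i : ℤ) : WithTop ℤ) : WithBot (WithTop ℤ)) with hreg
  apply eq_top_of_sup_smul_eq_top 𝒜 hpos ℳ a.toIdeal ha
  · apply span_isHomogeneous 𝒜
    intro m hm
    simp only [Set.mem_iUnion] at hm
    obtain ⟨n, -, hn⟩ := hm
    exact ⟨n, hn⟩
  · rw [eq_top_iff]
    intro m _
    rw [← DirectSum.sum_support_decompose ℳ m]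
    refine Submodule.sum_mem _ (fun n _ => ?_)
    by_cases hn : ((n : WithTop ℤ) : WithBot (WithTop ℤ)) ≤ reg
    · apply Submodule.mem_sup_left
      apply Submodule.subset_span
      simp only [Set.mem_iUnion]
      exact ⟨n, hn, SetLike.coe_mem _⟩
    · apply Submodule.mem_sup_right
      have hle := le_pred_of_not_le reg n hn
      have hvan : ∀ i : ℕ, VanishAt a X i (n - i) := by
        intro i
        apply (vanishAt_iff_Hcomp a X i _ E).2
        rw [← Hgr_eq_bot_iff]
        have h1 : GrLC.endDeg (E.Hgr a i) + (((i : ℤ) : WithTop ℤ) : WithBot (WithTop ℤ)) ≤ reg :=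
          le_iSup (fun i : ℕ => GrLC.endDeg (E.Hgr a i) +
            (((i : ℤ) : WithTop ℤ) : WithBot (WithTop ℤ))) i
        exact eq_bot_of_endDeg_add_le (E.Hgr a i) (i : ℤ) (n - 1) (n - i) (h1.trans hle)
          (by omega)
      refine mem_smul_top_of_vanish X x hx a hspan n ?_ ?_ _ (SetLike.coe_mem _)
      · have := hvan 0
        rwa [Nat.cast_zero, sub_zero] at this
      · intro p
        have := hvan (1 + p)
        have h2 : n - ((1 + p : ℕ) : ℤ) = n - p - 1 := by push_cast; ring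
        rwa [h2] at this

end Groth.Agent.H66.GrRegular
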