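import Groth.Agent.H66.GrVanish

set_option autoImplicit false
set_option linter.unusedSectionVars false
universe u

/-!
# Graded submodules, subquotients and the two basic short exact sequences
-/

namespace Groth.Agent.H66.GrSubSES

open DirectSum Groth.Agent.H98.GrStar

variable {ι : Type} [AddCommGroup ι] [DecidableEq ι]
variable {R : Type u} [CommRing R]
  {σ : Type u} [SetLike σ R] [AddSubgroupClass σ R]
  {𝒜 : ι → σ} [GradedRing 𝒜]

variable (Y : GrLC.GMod.{u} 𝒜)

/-- a homogeneous submodule as a graded module -/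
noncomputable def subG (P : Submodule R Y.carrier) (hP : P.IsHomogeneous Y.gr) : GrLC.GMod.{u} 𝒜 :=
  subGMod 𝒜 Y.gr P.subtype P.injective_subtype (by rw [Submodule.range_subtype]; exact hP)

theorem mem_subG_gr (P : Submodule R Y.carrier) (hP : P.IsHomogeneous Y.gr) (e : ι)
    (z : (subG Y P hP).carrier) : z ∈ (subG Y P hP).gr e ↔ P.subtype z ∈ Y.gr e := Iff.rfl

theorem subtype_isGrHom (P : Submodule R Y.carrier) (hP : P.IsHomogeneous Y.gr) :
    GrLC.IsGrHom (subG Y P hP).gr Y.gr P.subtype := fun _ _ h => h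

/-- `0 → P ∩ ker φ → P → φ(P) → 0` -/
noncomputable def kerImSES (φ : Y.carrier →ₗ[R] Y.carrier) (hφ : GrLC.IsGrHom Y.gr Y.gr φ)
    (P : Submodule R Y.carrier) (hP : P.IsHomogeneous Y.gr) :
    GrSES (R := R)
      (subG Y (P ⊓ LinearMap.ker φ)
        (inf_isHomogeneous Y.gr _ _ hP (ker_isHomogeneous Y.gr Y.gr φ hφ))).gr
      (subG Y P hP).gr
      (subG Y (P.map φ) (map_isHomogeneous Y.gr Y.gr φ hφ P hP)).gr where
  u := Submodule.inclusion inf_le_left
  v := (φ.domRestrict P).codRestrict (P.map φ) (fun z => ⟨z.1, z.2, rfl⟩)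
  u_gr := fun _ _ h => h
  v_gr := fun e z hz => hφ e z.1 hz
  inj := Submodule.inclusion_injective _
  surj := by
    rintro ⟨_, z, hz, rfl⟩
    exact ⟨⟨z, hz⟩, rfl⟩
  exact := by
    intro z
    constructor
    · intro h
      have h1 : φ z.1 = 0 := congrArg Subtype.val h
      exact ⟨⟨z.1, z.2, h1⟩, rfl⟩
    · rintro ⟨w, rfl⟩
      apply Subtype.ext
      exact w.2.2

/-- the subquotient `Q / P` as a graded module -/
noncomputable def sqG (P Q : Submodule R Y.carrier) (hQ : Q.IsHomogeneous Y.gr)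
    (hP : P.IsHomogeneous Y.gr) : GrLC.GMod.{u} 𝒜 :=
  letI : DirectSum.Decomposition (preGr Y.gr Q.subtype) := (subG Y Q hQ).dec
  letI : SetLike.GradedSMul 𝒜 (preGr Y.gr Q.subtype) := (subG Y Q hQ).gsmul
  quotGMod 𝒜 (preGr Y.gr Q.subtype) (P.comap Q.subtype).mkQ (Submodule.mkQ_surjective _)
    (by
      rw [Submodule.ker_mkQ]
      exact comap_isHomogeneous (preGr Y.gr Q.subtype) Y.gr Q.subtype (fun _ _ h => h) P hP)

/-- `0 → P → Q → Q/P → 0` -/
noncomputable def subQuotSES (P Q : Submodule R Y.carrier) (hQ : Q.IsHomogeneous Y.gr)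
    (hP : P.IsHomogeneous Y.gr) (hPQ : P ≤ Q) :
    GrSES (R := R) (subG Y P hP).gr (subG Y Q hQ).gr (sqG Y P Q hQ hP).gr where
  u := Submodule.inclusion hPQ
  v := show ↥Q →ₗ[R] (↥Q ⧸ P.comap Q.subtype) from (P.comap Q.subtype).mkQ
  u_gr := fun _ _ h => h
  v_gr := fun e z hz => ⟨z, hz, rfl⟩
  inj := Submodule.inclusion_injective _
  surj := Submodule.mkQ_surjective (P.comap Q.subtype)
  exact := by
    intro z
    constructor
    · intro h
      have h1 : z ∈ P.comap Q.subtype := (Submodule.Quotient.mk_eq_zero _).1 h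
      exact ⟨⟨z.1, h1⟩, rfl⟩
    · rintro ⟨w, rfl⟩
      exact (Submodule.Quotient.mk_eq_zero _).2 w.2

theorem gam_sqG_eq_top (a : Ideal R) (P Q : Submodule R Y.carrier) (hQ : Q.IsHomogeneous Y.gr)
    (hP : P.IsHomogeneous Y.gr) (h : ∀ r ∈ a, ∀ z ∈ Q, r • z ∈ P) :
    GrLC.gam a (sqG Y P Q hQ hP).carrier = ⊤ := by
  rw [eq_top_iff]
  intro y _
  refine ⟨1, fun r hr => ?_⟩
  rw [pow_one] at hr
  obtain ⟨z, rfl⟩ := Submodule.mkQ_surjective (P.comap Q.subtype) y
  show r • (P.comap Q.subtype).mkQ z = (0 : ↥Q ⧸ P.comap Q.subtype)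
  rw [← map_smul]
  exact (Submodule.Quotient.mk_eq_zero _).2 (h r hr z.1 z.2)

/-- an element of degree `e` of `Q` whose class in `Q/P` vanishes lies in `P`; conversely the class
of a degree-`e` element lies in degree `e` -/
theorem mkQ_mem_sqG_gr (P Q : Submodule R Y.carrier) (hQ : Q.IsHomogeneous Y.gr)
    (hP : P.IsHomogeneous Y.gr) (e : ι) (z : Q) (hz : (z : Y.carrier) ∈ Y.gr e) :
    (P.comap Q.subtype).mkQ z ∈ (sqG Y P Q hQ hP).gr e :=
  ⟨z, hz, rfl⟩

end Groth.Agent.H66.GrSubSES
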