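import Groth.Agent.H66.GrRegFree
import Groth.Agent.H98.GrStar.AsGr
import Groth.Prelude.Def_GrSyz

set_option autoImplicit false
set_option linter.unusedSectionVars false
universe u

/-!
# Regularity of a module and the degrees in a minimal graded free resolution
-/

namespace Groth.Agent.H66.GrSyzReg

open DirectSum Groth.Agent.H98.GrStar Groth.Agent.H66.GrVanish Groth.Agent.H66.GrRegular
  Groth.Agent.H66.GrSubSES Groth.Agent.H66.GrRegFree

variable {R : Type u} [CommRing R] [IsNoetherianRing R]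
  {σ : Type u} [SetLike σ R] [AddSubgroupClass σ R]
  {𝒜 : ℤ → σ} [GradedRing 𝒜]
variable {M : Type u} [AddCommGroup M] [Module R M] {τ : Type u} [SetLike τ M]
  [AddSubgroupClass τ M] {ℳ : ℤ → τ} [DirectSum.Decomposition ℳ] [SetLike.GradedSMul 𝒜 ℳ]
variable (F : GrSyz.FreeRes 𝒜 ℳ)

theorem dLin_isGrHom (i : ℕ) :
    GrLC.IsGrHom (freeGr 𝒜 (F.deg (i + 1))) (freeGr 𝒜 (F.deg i)) (F.dLin i) := by
  intro g v hv c
  change (Matrix.mulVec (F.d i) v) c ∈ 𝒜 (g - F.deg i c)
  rw [Matrix.mulVec, dotProduct]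
  refine sum_mem (fun b _ => ?_)
  have h1 := F.d_mem i c b
  have h2 : v b ∈ 𝒜 (g - F.deg (i + 1) b) := hv b
  have h3 := SetLike.GradedMul.mul_mem (A := 𝒜) h1 h2
  have h4 : F.deg (i + 1) b - F.deg i c + (g - F.deg (i + 1) b) = g - F.deg i c := by ring
  rw [h4] at h3
  exact h3

theorem augLin_isGrHom : GrLC.IsGrHom (freeGr 𝒜 (F.deg 0)) (asGr ℳ) F.augLin := by
  intro g v hv
  change Fintype.linearCombination R F.aug v ∈ ℳ g
  rw [Fintype.linearCombination_apply]
  refine sum_mem (fun b _ => ?_)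
  have h2 : v b ∈ 𝒜 (g - F.deg 0 b) := hv b
  have h1 := SetLike.GradedSMul.smul_mem (A := 𝒜) (B := ℳ) h2 (F.aug_mem b)
  rw [vadd_eq_add, sub_add_cancel] at h1
  exact h1

/-- the differential, between the graded free modules -/
noncomputable abbrev dT (i : ℕ) :
    (freeGMod 𝒜 (F.deg (i + 1))).carrier →ₗ[R] (freeGMod 𝒜 (F.deg i)).carrier := F.dLin i

/-- the image of the differential inside the graded free module -/
noncomputable abbrev rangeT (i : ℕ) : Submodule R (freeGMod 𝒜 (F.deg i)).carrier := LinearMap.range (dT F i)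

theorem range_dLin_isHomogeneous (i : ℕ) :
    (rangeT F i).IsHomogeneous (freeGMod 𝒜 (F.deg i)).gr :=
  range_isHomogeneous (freeGMod 𝒜 (F.deg (i + 1))).gr (freeGMod 𝒜 (F.deg i)).gr (dT F i)
    (dLin_isGrHom F i)

/-- the syzygy modules: `Syz 0 = M`, `Syz (i+1) = im (F_{i+1} → F_i)` -/
noncomputable def Syz : ℕ → GrLC.GMod.{u} 𝒜
  | 0 => GrLC.GMod.of 𝒜 M (asGr ℳ)
  | i + 1 => subG (freeGMod 𝒜 (F.deg i)) (rangeT F i) (range_dLin_isHomogeneous F i)

/-- the surjections `F_i → Syz i` -/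
noncomputable def phi : (i : ℕ) → (Fin (F.rk i) → R) →ₗ[R] (Syz F i).carrier
  | 0 => F.augLin
  | i + 1 => (F.dLin i).rangeRestrict

theorem phi_isGrHom : ∀ i : ℕ, GrLC.IsGrHom (freeGr 𝒜 (F.deg i)) (Syz F i).gr (phi F i)
  | 0 => augLin_isGrHom F
  | i + 1 => fun g v hv => dLin_isGrHom F i g v hv

theorem phi_surjective : ∀ i : ℕ, Function.Surjective (phi F i)
  | 0 => F.aug_surjective
  | i + 1 => LinearMap.surjective_rangeRestrict _

theorem phi_ker : ∀ i : ℕ, LinearMap.ker (phi F i) = LinearMap.range (F.dLin i)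
  | 0 => F.exact_zero
  | i + 1 => by
    change LinearMap.ker (F.dLin i).rangeRestrict = _
    rw [LinearMap.ker_rangeRestrict]
    exact F.exact_succ i

theorem mem_of_mem_range_dLin (𝔪 : Ideal R) (hmin : F.IsMinimal 𝔪) (i : ℕ)
    (v : Fin (F.rk i) → R) (hv : v ∈ LinearMap.range (F.dLin i)) (b : Fin (F.rk i)) :
    v b ∈ 𝔪 := by
  obtain ⟨w, rfl⟩ := hv
  change (Matrix.mulVec (F.d i) w) b ∈ 𝔪
  rw [Matrix.mulVec, dotProduct]
  exact Ideal.sum_mem _ (fun c _ => Ideal.mul_mem_right _ _ (hmin i b c))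

variable (a : HomogeneousIdeal 𝒜)

/-- **from the resolution to local cohomology** -/
theorem strongReg_of_isGenLE (hS : StrongReg a (selfG 𝒜) 0) (d : ℤ) (hgen : F.IsGenLE d) :
    ∀ i : ℕ, StrongReg a (Syz F i) (d + i) := by
  obtain ⟨d₀, hd₀⟩ := exists_vanishAt_of_lt a
  have key : ∀ n j : ℕ, d₀ < j + n → ∀ (i : ℕ) (e : ℤ), d + i - j < e →
      VanishAt a (Syz F i) j e := by
    intro n
    induction n with
    | zero =>
      intro j hj i e _
      exact hd₀ _ j e (by omega)
    | succ n ih =>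
      intro j hj i e he
      have hF : StrongReg a (freeGMod 𝒜 (F.deg i)) (d + i) :=
        strongReg_free a hS (F.deg i) (d + i) (fun b => hgen i b)
      have hK : VanishAt a (Syz F (i + 1)) (j + 1) e :=
        ih (j + 1) (by omega) (i + 1) e (by push_cast; omega)
      exact vanishAt_right a (surjSES (freeGMod 𝒜 (F.deg i)) (Syz F i) (phi F i)
        (phi_isGrHom F i) (phi_surjective F i) _ (range_dLin_isHomogeneous F i) (phi_ker F i))
        j e (hF j e he) hK
  intro i j e he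
  exact key (d₀ + 1) j (by omega) i e he

variable (hhom : a.toIdeal = Ideal.span ((𝒜 1 : σ) : Set R))

include hhom in
/-- **from local cohomology to the resolution** -/
theorem isGenLE_of_strongReg (hS : StrongReg a (selfG 𝒜) 0) (hne : a.toIdeal ≠ ⊤)
    (hmin : F.IsMinimal a.toIdeal) (d : ℤ) (h0 : StrongReg a (Syz F 0) d) :
    ∀ i : ℕ, StrongReg a (Syz F i) (d + i) ∧ ∀ b, F.deg i b ≤ d + i := by
  have hdeg : ∀ i : ℕ, StrongReg a (Syz F i) (d + i) → ∀ b, F.deg i b ≤ d + i := by
    intro i hreg b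
    refine deg_le_of_strongReg a (F.deg i) (Syz F i) (phi F i) (phi_isGrHom F i)
      (phi_surjective F i) hhom (d + i) hreg hne (fun v hv c => ?_) b
    rw [phi_ker] at hv
    exact mem_of_mem_range_dLin F a.toIdeal hmin i v hv c
  intro i
  induction i with
  | zero =>
    have h0' : StrongReg a (Syz F 0) (d + (0 : ℕ)) := by simpa using h0
    exact ⟨h0', hdeg 0 h0'⟩
  | succ i ih =>
    obtain ⟨hreg, hd⟩ := ih
    have hF : StrongReg a (freeGMod 𝒜 (F.deg i)) (d + i) :=
      strongReg_free a hS (F.deg i) (d + i) hd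
    have h1 : StrongReg a (Syz F (i + 1)) (d + i + 1) :=
      strongReg_syz a (F.deg i) (Syz F i) (phi F i) (phi_isGrHom F i) (phi_surjective F i) _
        (range_dLin_isHomogeneous F i) (phi_ker F i) (d + i) hF hreg
    have h2 : StrongReg a (Syz F (i + 1)) (d + ((i + 1 : ℕ) : ℤ)) := by
      have : d + ((i + 1 : ℕ) : ℤ) = d + i + 1 := by push_cast; ring
      rw [this]
      exact h1
    exact ⟨h2, hdeg (i + 1) h2⟩

include hhom in
/-- **Eisenbud–Goto**: a minimal graded free resolution has its `i`-th term generated in degrees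
`≤ d + i` for all `i` iff the module is strongly `d`-regular in the local cohomology sense -/
theorem isGenLE_iff_strongReg (hS : StrongReg a (selfG 𝒜) 0) (hne : a.toIdeal ≠ ⊤)
    (hmin : F.IsMinimal a.toIdeal) (d : ℤ) :
    F.IsGenLE d ↔ StrongReg a (GrLC.GMod.of 𝒜 M (asGr ℳ)) d := by
  constructor
  · intro h
    have h1 := strongReg_of_isGenLE F a hS d h 0
    have h2 : StrongReg a (Syz F 0) d := by simpa using h1
    exact h2
  · intro h i b
    exact (isGenLE_of_strongReg F a hhom hS hne hmin d h i).2 b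

end Groth.Agent.H66.GrSyzReg
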