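import Groth.Agent.H98.GrStar.GrLES3
import Groth.Agent.H98.GrStar.EndDeg
import Groth.Agent.H98.GrStar.HighVanish
import Groth.Agent.H98.GrStar.Hull1

set_option autoImplicit false
set_option linter.unusedSectionVars false
universe u

/-!
# Degreewise vanishing calculus for graded local cohomology

`VanishAt a X i g` : `*H^i_a(X)_g = 0` (for every *injective resolution).
-/

namespace Groth.Agent.H66.GrVanish

open DirectSum CategoryTheory Groth.Agent.H98.GrStar Groth.Agent.H98.LCRes Groth.Agent.H58.LC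

variable {ι : Type} [AddCommGroup ι] [DecidableEq ι]
variable {R : Type u} [CommRing R] [IsNoetherianRing R]
  {σ : Type u} [SetLike σ R] [AddSubgroupClass σ R]
  {𝒜 : ι → σ} [GradedRing 𝒜]

section HmapAdd

variable {M : Type u} [AddCommGroup M] [Module R M] {ℳ : ι → AddSubgroup M}
  [DirectSum.Decomposition ℳ] [SetLike.GradedSMul 𝒜 ℳ]
variable {N : Type u} [AddCommGroup N] [Module R N] {𝒩 : ι → AddSubgroup N}
  [DirectSum.Decomposition 𝒩] [SetLike.GradedSMul 𝒜 𝒩]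

theorem Hmap_add (a : HomogeneousIdeal 𝒜) (f f' : M →ₗ[R] N) (E : GrLC.StarInjRes 𝒜 ℳ)
    (F : GrLC.StarInjRes 𝒜 𝒩) (i : ℕ) (x : E.H a i) :
    Hmap a (f + f') E F i x = Hmap a f E F i x + Hmap a f' E F i x := by
  rw [Hmap_apply, Hmap_apply, Hmap_apply]
  have : ModuleCat.ofHom (f + f') = ModuleCat.ofHom f + ModuleCat.ofHom f' := rfl
  rw [this, map_add', map_add]

theorem Hmap_zero (a : HomogeneousIdeal 𝒜) (E : GrLC.StarInjRes 𝒜 ℳ)
    (F : GrLC.StarInjRes 𝒜 𝒩) (i : ℕ) (x : E.H a i) :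
    Hmap a (0 : M →ₗ[R] N) E F i x = 0 := by
  rw [Hmap_apply]
  have : ModuleCat.ofHom (0 : M →ₗ[R] N) = 0 := rfl
  rw [this, map_zero', map_zero]

theorem Hmap_sum (a : HomogeneousIdeal 𝒜) {J : Type} (s : Finset J) (f : J → (M →ₗ[R] N))
    (E : GrLC.StarInjRes 𝒜 ℳ) (F : GrLC.StarInjRes 𝒜 𝒩) (i : ℕ) (x : E.H a i) :
    Hmap a (∑ j ∈ s, f j) E F i x = ∑ j ∈ s, Hmap a (f j) E F i x := by
  classical
  induction s using Finset.induction_on with
  | empty => rw [Finset.sum_empty, Finset.sum_empty, Hmap_zero]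
  | insert j s hj ih => rw [Finset.sum_insert hj, Finset.sum_insert hj, Hmap_add, ih]

end HmapAdd

variable (a : HomogeneousIdeal 𝒜)

/-- `*H^i_a(X)_g = 0` for every *injective resolution -/
def VanishAt (X : GrLC.GMod.{u} 𝒜) (i : ℕ) (g : ι) : Prop :=
  ∀ E : GrLC.StarInjRes 𝒜 X.gr, ∀ x ∈ E.Hgr a i g, x = 0

theorem vanishAt_of_exists (X : GrLC.GMod.{u} 𝒜) (i : ℕ) (g : ι) (E : GrLC.StarInjRes 𝒜 X.gr)
    (h : ∀ x ∈ E.Hgr a i g, x = 0) : VanishAt a X i g := by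
  intro E' x hx
  have h1 := resEquiv_isGrHom a E' E i g x hx
  have h2 := h _ h1
  exact (resEquiv a E' E i).injective (h2.trans (map_zero _).symm)

theorem vanishAt_iff_Hcomp (X : GrLC.GMod.{u} 𝒜) (i : ℕ) (g : ι) (E : GrLC.StarInjRes 𝒜 X.gr) :
    VanishAt a X i g ↔ E.Hcomp a i g = ⊥ := by
  constructor
  · intro h
    rw [eq_bot_iff]
    intro x hx
    exact h E x hx
  · intro h
    refine vanishAt_of_exists a X i g E (fun x hx => ?_)
    have : x ∈ E.Hcomp a i g := hx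
    rw [h] at this
    exact this

section SES

variable {X' X X'' : GrLC.GMod.{u} 𝒜}

theorem vanishAt_mid (T : GrSES (R := R) X'.gr X.gr X''.gr) (i : ℕ) (g : ι) (h' : VanishAt a X' i g) (h'' : VanishAt a X'' i g) :
    VanishAt a X i g := by
  intro E x hx
  have h1 := Hmap_isGrHom a T.v T.v_gr E (res 𝒜 X''.gr) i g x hx
  have h2 := h'' _ _ h1
  obtain ⟨y, hy, rfl⟩ := T.exact_mid_deg a (res 𝒜 X'.gr) E (res 𝒜 X''.gr) i g x hx h2
  rw [h' _ y hy, map_zero]

theorem vanishAt_right (T : GrSES (R := R) X'.gr X.gr X''.gr) (i : ℕ) (g : ι) (h : VanishAt a X i g) (h' : VanishAt a X' (i + 1) g) :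
    VanishAt a X'' i g := by
  intro E'' x hx
  have h1 := T.Hδ_isGrHom a (res 𝒜 X'.gr) E'' i g x hx
  have h2 := h' _ _ h1
  obtain ⟨y, hy, rfl⟩ := T.exact_right_deg a (res 𝒜 X'.gr) (res 𝒜 X.gr) E'' i g x hx h2
  rw [h _ y hy, map_zero]

theorem vanishAt_left (T : GrSES (R := R) X'.gr X.gr X''.gr) (i : ℕ) (g : ι) (h'' : VanishAt a X'' i g) (h : VanishAt a X (i + 1) g) :
    VanishAt a X' (i + 1) g := by
  intro E' x hx
  have h1 := Hmap_isGrHom a T.u T.u_gr E' (res 𝒜 X.gr) (i + 1) g x hx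
  have h2 := h _ _ h1
  obtain ⟨y, hy, rfl⟩ := T.exact_left_deg a E' (res 𝒜 X.gr) (res 𝒜 X''.gr) i g x hx h2
  rw [h'' _ y hy, map_zero]

end SES

/-- torsion modules have no higher graded local cohomology -/
theorem vanishAt_of_gam_eq_top (X : GrLC.GMod.{u} 𝒜) (h : GrLC.gam a.toIdeal X.carrier = ⊤)
    (i : ℕ) (hi : 1 ≤ i) (g : ι) : VanishAt a X i g := by
  intro E x _
  have := H_subsingleton_of_gam_eq_top E a h i hi
  exact Subsingleton.elim _ _

theorem vanishAt_of_subsingleton (X : GrLC.GMod.{u} 𝒜) (hX : Subsingleton X.carrier)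
    (i : ℕ) (g : ι) : VanishAt a X i g := by
  intro E x _
  have : Subsingleton ((localCohomology a.toIdeal i).obj (ModuleCat.of R X.carrier)) :=
    subsingleton_H_of_subsingleton (I := a.toIdeal) (ModuleCat.of R X.carrier) i
  exact (θ E a i).injective (Subsingleton.elim _ _)

/-- a graded module which is a finite "sum of retracts" of modules with vanishing `H^i_g` -/
theorem vanishAt_of_retracts (Y : GrLC.GMod.{u} 𝒜) {J : Type} [Fintype J]
    (Xs : J → GrLC.GMod.{u} 𝒜)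
    (π : ∀ s, Y.carrier →ₗ[R] (Xs s).carrier) (incl : ∀ s, (Xs s).carrier →ₗ[R] Y.carrier)
    (hπ : ∀ s, GrLC.IsGrHom Y.gr (Xs s).gr (π s))
    (hsum : ∀ y : Y.carrier, ∑ s, incl s (π s y) = y)
    (i : ℕ) (g : ι) (h : ∀ s, VanishAt a (Xs s) i g) : VanishAt a Y i g := by
  intro E x hx
  have hid : (∑ s, (incl s) ∘ₗ (π s)) = (LinearMap.id : Y.carrier →ₗ[R] Y.carrier) := by
    apply LinearMap.ext
    intro y
    rw [LinearMap.sum_apply]
    exact hsum y
  have h1 := Hmap_id a E i x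
  rw [← hid, Hmap_sum] at h1
  rw [← h1]
  apply Finset.sum_eq_zero
  intro s _
  rw [Hmap_comp a (π s) (incl s) E (res 𝒜 (Xs s).gr) E]
  have h2 := Hmap_isGrHom a (π s) (hπ s) E (res 𝒜 (Xs s).gr) i g x hx
  rw [h s _ _ h2, map_zero]

/-- shifts -/
theorem vanishAt_shift (X : GrLC.GMod.{u} 𝒜) (p : ι) (i : ℕ) (g : ι)
    (h : VanishAt a X i (g - p)) : VanishAt a (shM 𝒜 X.gr p) i g := by
  refine vanishAt_of_exists a _ i g (shiftDeg (res 𝒜 X.gr) p) (fun x hx => ?_)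
  rw [shiftDeg_Hgr] at hx
  exact h (res 𝒜 X.gr) x hx

end Groth.Agent.H66.GrVanish
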