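import Mathlib

/-!
# Graded algebras generated by finitely many homogeneous elements

`𝒜 m` is spanned by the monomials of weighted degree `m` in the generators; consequences:
`𝒜 (n + l) = 𝒜 n * 𝒜 l` for `l` the lcm of the degrees and `n` large.
-/

set_option autoImplicit false

namespace Groth.Agent.H66.GradedGen

open DirectSum

variable {R A : Type*} [CommRing R] [CommRing A] [Algebra R A]
variable (𝒜 : ℕ → Submodule R A) [GradedAlgebra 𝒜]
variable {s : ℕ} (f : Fin s → A) (deg : Fin s → ℕ)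

/-- The span of the monomials of weighted degree `m`. -/
def monSpan (m : ℕ) : Submodule R A :=
  Submodule.span R {x | ∃ e : Fin s → ℕ, ∑ i, e i * deg i = m ∧ x = ∏ i, f i ^ e i}

variable {f deg}

include 𝒜 in
theorem mon_mem (hf : ∀ i, f i ∈ 𝒜 (deg i)) (e : Fin s → ℕ) :
    ∏ i, f i ^ e i ∈ 𝒜 (∑ i, e i * deg i) := by
  have := SetLike.prod_pow_mem_graded 𝒜 deg f (F := Finset.univ) e (fun k _ => hf k)
  simpa [smul_eq_mul] using this

theorem monSpan_le (hf : ∀ i, f i ∈ 𝒜 (deg i)) (m : ℕ) : monSpan (R := R) f deg m ≤ 𝒜 m := by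
  rw [monSpan, Submodule.span_le]
  rintro x ⟨e, he, rfl⟩
  rw [← he]
  exact mon_mem 𝒜 hf e

theorem decompose_mem_monSpan (hf : ∀ i, f i ∈ 𝒜 (deg i))
    (hgen : Algebra.adjoin R (Set.range f) = ⊤) (a : A) (m : ℕ) :
    (decompose 𝒜 a m : A) ∈ monSpan (R := R) f deg m := by
  classical
  have ha : a ∈ (MvPolynomial.aeval f : MvPolynomial (Fin s) R →ₐ[R] A).range := by
    rw [← Algebra.adjoin_range_eq_range_aeval, hgen]; trivial
  obtain ⟨P, rfl⟩ := (AlgHom.mem_range _).mp ha
  clear ha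
  induction P using MvPolynomial.induction_on' with
  | monomial e c =>
    rw [MvPolynomial.aeval_monomial, Finsupp.prod_fintype _ _ (fun i => pow_zero _),
      ← Algebra.smul_def, decompose_smul]
    have hmem := mon_mem 𝒜 hf (fun i => e i)
    by_cases h : ∑ i, e i * deg i = m
    · rw [DirectSum.smul_apply, Submodule.coe_smul, ← h, decompose_of_mem_same 𝒜 hmem]
      exact Submodule.smul_mem _ _ (Submodule.subset_span ⟨fun i => e i, rfl, rfl⟩)
    · rw [DirectSum.smul_apply, Submodule.coe_smul, decompose_of_mem_ne 𝒜 hmem h, smul_zero]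
      exact Submodule.zero_mem _
  | add p q hp hq =>
    rw [map_add, decompose_add, DirectSum.add_apply, Submodule.coe_add]
    exact Submodule.add_mem _ hp hq

/-- The degree-`m` piece is spanned by the monomials of weighted degree `m`. -/
theorem eq_monSpan (hf : ∀ i, f i ∈ 𝒜 (deg i))
    (hgen : Algebra.adjoin R (Set.range f) = ⊤) (m : ℕ) :
    𝒜 m = monSpan (R := R) f deg m := by
  apply le_antisymm _ (monSpan_le 𝒜 hf m)
  intro x hx
  rw [← decompose_of_mem_same 𝒜 hx]
  exact decompose_mem_monSpan 𝒜 hf hgen x m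

theorem lcm_pos (hdeg : ∀ i, 0 < deg i) : 0 < Finset.univ.lcm deg := by
  rw [Nat.pos_iff_ne_zero, Ne, Finset.lcm_eq_zero_iff]
  rintro ⟨i, -, hi⟩
  exact (hdeg i).ne' hi

/-- `𝒜 (n + l) = 𝒜 n * 𝒜 l` for `l` the lcm of the degrees and `n ≥ (s - 1)(l - 1)`. -/
theorem deg_add_lcm (hdeg : ∀ i, 0 < deg i) (hf : ∀ i, f i ∈ 𝒜 (deg i))
    (hgen : Algebra.adjoin R (Set.range f) = ⊤) (n : ℕ)
    (hn : (s - 1) * (Finset.univ.lcm deg - 1) ≤ n) :
    𝒜 (n + Finset.univ.lcm deg) = 𝒜 n * 𝒜 (Finset.univ.lcm deg) := by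
  classical
  obtain ⟨l, hl⟩ : ∃ l, l = Finset.univ.lcm deg := ⟨_, rfl⟩
  rw [← hl] at hn ⊢
  have hlpos : 0 < l := hl ▸ lcm_pos hdeg
  have hdvd : ∀ i, deg i ∣ l := fun i => hl ▸ Finset.dvd_lcm (Finset.mem_univ i)
  apply le_antisymm
  · rw [eq_monSpan 𝒜 hf hgen (n + l), monSpan, Submodule.span_le]
    rintro x ⟨e, he, rfl⟩
    -- pigeonhole
    have hex : ∃ i, l / deg i ≤ e i := by
      by_contra hcon
      push Not at hcon
      have hbound : ∀ i, e i * deg i ≤ l - 1 := by
        intro i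
        have h1 : e i + 1 ≤ l / deg i := hcon i
        have h2 : (e i + 1) * deg i ≤ l := by
          calc (e i + 1) * deg i ≤ (l / deg i) * deg i := Nat.mul_le_mul_right _ h1
            _ = l := Nat.div_mul_cancel (hdvd i)
        have h3 := hdeg i
        have : e i * deg i + deg i ≤ l := by rw [← Nat.succ_mul]; exact h2
        omega
      have hsum : ∑ i, e i * deg i ≤ s * (l - 1) := by
        calc ∑ i, e i * deg i ≤ ∑ _i : Fin s, (l - 1) := Finset.sum_le_sum (fun i _ => hbound i)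
          _ = s * (l - 1) := by simp
      rw [he] at hsum
      rcases Nat.eq_zero_or_pos s with hs | hs
      · subst hs; simp at hsum; omega
      · obtain ⟨t, rfl⟩ : ∃ t, s = t + 1 := ⟨s - 1, by omega⟩
        simp only [Nat.add_sub_cancel] at hn
        have : (t + 1) * (l - 1) = t * (l - 1) + (l - 1) := by ring
        omega
    obtain ⟨i, hi⟩ := hex
    obtain ⟨q, hq⟩ : ∃ q, q = l / deg i := ⟨_, rfl⟩
    rw [← hq] at hi
    have hql : q * deg i = l := by rw [hq]; exact Nat.div_mul_cancel (hdvd i)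
    have hprod : ∏ j, f j ^ e j = (f i ^ (e i - q) * ∏ j ∈ Finset.univ.erase i, f j ^ e j) * f i ^ q := by
      rw [← Finset.mul_prod_erase Finset.univ (fun j => f j ^ e j) (Finset.mem_univ i)]
      rw [mul_right_comm, ← pow_add, Nat.sub_add_cancel hi]
    have hsum : (e i - q) * deg i + ∑ j ∈ Finset.univ.erase i, e j * deg j = n := by
      have h1 := Finset.add_sum_erase Finset.univ (fun j => e j * deg j) (Finset.mem_univ i)
      have h2 : e i * deg i = (e i - q) * deg i + q * deg i := by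
        rw [← Nat.add_mul, Nat.sub_add_cancel hi]
      omega
    rw [hprod]
    apply Submodule.mul_mem_mul
    · have h1 : f i ^ (e i - q) ∈ 𝒜 ((e i - q) • deg i) := SetLike.pow_mem_graded _ (hf i)
      have h2 := SetLike.prod_pow_mem_graded 𝒜 deg f (F := Finset.univ.erase i) e (fun k _ => hf k)
      have h3 := SetLike.mul_mem_graded h1 h2
      simp only [smul_eq_mul] at h3
      rwa [hsum] at h3
    · have h1 : f i ^ q ∈ 𝒜 (q • deg i) := SetLike.pow_mem_graded _ (hf i)
      rwa [smul_eq_mul, hql] at h1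
  · rw [Submodule.mul_le]
    intro x hx y hy
    exact SetLike.mul_mem_graded hx hy

/-- The degree-zero piece is `R · 1`. -/
theorem deg_zero_eq_one (hdeg : ∀ i, 0 < deg i) (hf : ∀ i, f i ∈ 𝒜 (deg i))
    (hgen : Algebra.adjoin R (Set.range f) = ⊤) : 𝒜 0 = 1 := by
  rw [eq_monSpan 𝒜 hf hgen 0, monSpan, Submodule.one_eq_span]
  congr 1
  ext x
  simp only [Set.mem_ofPred_eq, Set.mem_singleton_iff]
  constructor
  · rintro ⟨e, he, rfl⟩
    have : ∀ i, e i = 0 := by
      intro i
      have h := (Finset.sum_eq_zero_iff.mp he) i (Finset.mem_univ i)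
      rcases Nat.mul_eq_zero.mp h with h | h
      · exact h
      · exact absurd h (hdeg i).ne'
    simp [this]
  · rintro rfl
    exact ⟨fun _ => 0, by simp, by simp⟩

theorem pow_le_deg_mul (M : Submodule R A) (l : ℕ) (hM : M ≤ 𝒜 l) (j : ℕ) : M ^ j ≤ 𝒜 (j * l) := by
  induction j with
  | zero =>
    rw [pow_zero, Nat.zero_mul, Submodule.one_le]
    exact SetLike.GradedOne.one_mem
  | succ j ih =>
    rw [pow_succ, Submodule.mul_le]
    intro x hx y hy
    have := SetLike.mul_mem_graded (ih hx) (hM hy)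
    rwa [← Nat.succ_mul] at this

/-- `𝒜 (m + j l) = 𝒜 m * 𝒜 (j l)` for `m ≥ (s - 1)(l - 1)`. -/
theorem deg_add_mul_lcm (hdeg : ∀ i, 0 < deg i) (hf : ∀ i, f i ∈ 𝒜 (deg i))
    (hgen : Algebra.adjoin R (Set.range f) = ⊤) (m : ℕ)
    (hm : (s - 1) * (Finset.univ.lcm deg - 1) ≤ m) (j : ℕ) :
    𝒜 (m + j * Finset.univ.lcm deg) = 𝒜 m * 𝒜 (j * Finset.univ.lcm deg) := by
  have key : ∀ j : ℕ, 𝒜 (m + j * Finset.univ.lcm deg) = 𝒜 m * 𝒜 (Finset.univ.lcm deg) ^ j := by
    intro j
    induction j with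
    | zero => simp
    | succ j ih =>
      rw [Nat.succ_mul, ← add_assoc, deg_add_lcm 𝒜 hdeg hf hgen _ (le_trans hm (Nat.le_add_right _ _)),
        ih, pow_succ, mul_assoc]
  apply le_antisymm
  · rw [key j]
    exact mul_le_mul' le_rfl (pow_le_deg_mul 𝒜 _ _ le_rfl j)
  · rw [Submodule.mul_le]
    intro x hx y hy
    exact SetLike.mul_mem_graded hx hy

end Groth.Agent.H66.GradedGen
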