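import Groth.Agent.S15428
import Groth.Agent.H77.HilbPoly

set_option autoImplicit false
set_option linter.unusedSectionVars false
universe u

/-!
# Hilbert function versus Hilbert polynomial at the critical degree
-/

namespace Groth.Agent.H66.HilbDiff

open Polynomial Groth.Agent.H77

theorem hilbPoly_eval_neg_succ (r : ℕ) :
    (hilbPoly r).eval (-((r : ℚ) + 1)) = (-1) ^ r := by
  unfold hilbPoly
  rw [eval_mul, eval_C, eval_comp, eval_add, eval_X, eval_one]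
  have e : -((r : ℚ) + 1) + 1 = -(r : ℚ) := by ring
  rw [e, ascPochhammer_eval_neg_eq_descPochhammer, descPochhammer_eval_eq_descFactorial,
    Nat.descFactorial_self]
  have hr : (r.factorial : ℚ) ≠ 0 := Nat.cast_ne_zero.mpr r.factorial_ne_zero
  field_simp

variable (k : Type u) [Field k] (n : ℕ)
  (M : Type u) [AddCommGroup M] [Module k M] [Module (MvPolynomial (Fin (n + 1)) k) M]
  [IsScalarTower k (MvPolynomial (Fin (n + 1)) k) M]
  [Module.Finite (MvPolynomial (Fin (n + 1)) k) M]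
  (ℳ : ℤ → Submodule k M) [DirectSum.Decomposition ℳ]
  [SetLike.GradedSMul (GrSyz.stdGr k (Fin (n + 1))) ℳ]
  (F : GrSyz.FreeRes (GrSyz.stdGr k (Fin (n + 1))) ℳ) (ℓ : ℕ) (hℓ : F.HasLengthLE ℓ)

/-- the Hilbert polynomial read off from the resolution -/
noncomputable def Q : ℚ[X] :=
  ∑ i ∈ Finset.range (ℓ + 1), Polynomial.C ((-1 : ℚ) ^ i) *
    ∑ b : Fin (F.rk i), (hilbPoly n).comp (Polynomial.X - Polynomial.C ((F.deg i b : ℤ) : ℚ))

theorem Q_eval (d : ℤ) :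
    (Q k n M ℳ F ℓ).eval (d : ℚ) = ∑ i ∈ Finset.range (ℓ + 1), (-1 : ℚ) ^ i *
      ∑ b : Fin (F.rk i), (hilbPoly n).eval (((d - F.deg i b : ℤ)) : ℚ) := by
  unfold Q
  rw [Polynomial.eval_finsetSum]
  apply Finset.sum_congr rfl
  intro i _
  rw [Polynomial.eval_mul, Polynomial.eval_C, Polynomial.eval_finsetSum]
  congr 1
  apply Finset.sum_congr rfl
  intro b _
  rw [Polynomial.eval_comp, Polynomial.eval_sub, Polynomial.eval_X, Polynomial.eval_C]
  congr 1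
  push_cast
  ring

include hℓ in
theorem finrank_eq (d : ℤ) :
    ((Module.finrank k ↥(ℳ d) : ℤ) : ℚ) = ∑ i ∈ Finset.range (ℓ + 1), (-1 : ℚ) ^ i *
      ∑ b : Fin (F.rk i),
        (((if F.deg i b ≤ d then ((Nat.choose (n + (d - F.deg i b).toNat) n : ℕ) : ℤ) else 0 : ℤ)) : ℚ) := by
  rw [Groth.Agent.S15428.result k n M ℳ F ℓ hℓ d]
  push_cast
  rfl

include hℓ in
/-- the Hilbert function agrees with `Q` in large degrees -/
theorem finrank_eq_Q_eval (ρ : ℤ) (hρ : F.IsGenLE ρ) (d : ℤ) (hd : ρ + ℓ - n ≤ d) :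
    ((Module.finrank k ↥(ℳ d) : ℤ) : ℚ) = (Q k n M ℳ F ℓ).eval (d : ℚ) := by
  rw [finrank_eq k n M ℳ F ℓ hℓ d, Q_eval]
  apply Finset.sum_congr rfl
  intro i hi
  congr 1
  apply Finset.sum_congr rfl
  intro b _
  have h1 := hρ i b
  have hi' : (i : ℤ) ≤ ℓ := by
    have := Finset.mem_range.1 hi
    exact_mod_cast Nat.le_of_lt_succ this
  rw [hilbPoly_eval n (d - F.deg i b) (by omega)]
  by_cases h : F.deg i b ≤ d
  · rw [if_pos h, if_pos (sub_nonneg.mpr h)]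
  · rw [if_neg h, if_neg (by rw [sub_nonneg]; exact h)]

include hℓ in
/-- the Hilbert polynomial is `Q` -/
theorem eq_Q (ρ : ℤ) (hρ : F.IsGenLE ρ) (P : Polynomial ℚ)
    (hP : ∃ d₁ : ℤ, ∀ d : ℤ, d₁ ≤ d →
      ((Module.finrank k ↥(ℳ d) : ℤ) : ℚ) = P.eval (d : ℚ)) :
    P = Q k n M ℳ F ℓ := by
  obtain ⟨d₁, hd₁⟩ := hP
  apply Polynomial.eq_of_infinite_eval_eq
  let D : ℤ := max d₁ (ρ + ℓ - n)
  refine Set.infinite_of_injective_forall_mem (f := fun m : ℕ => ((D + m : ℤ) : ℚ)) ?_ ?_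
  · intro m m' h
    have h' : ((D + m : ℤ) : ℚ) = ((D + m' : ℤ) : ℚ) := h
    have : (D + m : ℤ) = D + m' := by exact_mod_cast h'
    omega
  · intro m
    change P.eval ((D + m : ℤ) : ℚ) = (Q k n M ℳ F ℓ).eval ((D + m : ℤ) : ℚ)
    rw [← hd₁ (D + m) (by have := le_max_left d₁ (ρ + ℓ - n); omega),
      finrank_eq_Q_eval k n M ℳ F ℓ hℓ ρ hρ (D + m)
        (by have := le_max_right d₁ (ρ + ℓ - n); omega)]

include hℓ in
/-- **at the critical degree the Hilbert function differs from the Hilbert polynomial** -/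
theorem finrank_ne (ρ : ℤ) (hρ : F.IsGenLE ρ) (htop : ∃ b : Fin (F.rk ℓ), F.deg ℓ b = ρ + ℓ) :
    ((Module.finrank k ↥(ℳ (ρ + ℓ - n - 1)) : ℤ) : ℚ) ≠
      (Q k n M ℳ F ℓ).eval ((ρ + ℓ - n - 1 : ℤ) : ℚ) := by
  classical
  rw [finrank_eq k n M ℳ F ℓ hℓ, Q_eval, ← sub_ne_zero, ← Finset.sum_sub_distrib]
  -- each summand
  have hterm : ∀ (i : ℕ) (b : Fin (F.rk i)), i ≤ ℓ →
      (((if F.deg i b ≤ ρ + ℓ - n - 1 then
        ((Nat.choose (n + (ρ + ℓ - n - 1 - F.deg i b).toNat) n : ℕ) : ℤ) else 0 : ℤ)) : ℚ) -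
      (hilbPoly n).eval (((ρ + ℓ - n - 1 - F.deg i b : ℤ)) : ℚ) =
      if F.deg i b = ρ + ℓ then -(-1 : ℚ) ^ n else 0 := by
    intro i b hi
    have h1 := hρ i b
    have hi' : (i : ℤ) ≤ ℓ := by exact_mod_cast hi
    by_cases htb : F.deg i b = ρ + ℓ
    · rw [if_pos htb, if_neg (by omega)]
      have : ((ρ + ℓ - n - 1 - F.deg i b : ℤ) : ℚ) = -((n : ℚ) + 1) := by
        rw [htb]; push_cast; ring
      rw [this, hilbPoly_eval_neg_succ]
      simp
    · rw [if_neg htb, hilbPoly_eval n _ (by omega)]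
      by_cases h : F.deg i b ≤ ρ + ℓ - n - 1
      · rw [if_pos h, if_pos (sub_nonneg.mpr h), sub_self]
      · rw [if_neg h, if_neg (by rw [sub_nonneg]; exact h), sub_self]
  have hsum : ∀ i ∈ Finset.range (ℓ + 1),
      ((-1 : ℚ) ^ i * ∑ b : Fin (F.rk i),
        (((if F.deg i b ≤ ρ + ℓ - n - 1 then
          ((Nat.choose (n + (ρ + ℓ - n - 1 - F.deg i b).toNat) n : ℕ) : ℤ) else 0 : ℤ)) : ℚ) -
      (-1 : ℚ) ^ i * ∑ b : Fin (F.rk i),
        (hilbPoly n).eval (((ρ + ℓ - n - 1 - F.deg i b : ℤ)) : ℚ)) =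
      (-1 : ℚ) ^ i * ∑ b : Fin (F.rk i), (if F.deg i b = ρ + ℓ then -(-1 : ℚ) ^ n else 0) := by
    intro i hi
    rw [← mul_sub, ← Finset.sum_sub_distrib]
    congr 1
    apply Finset.sum_congr rfl
    intro b _
    exact hterm i b (Nat.le_of_lt_succ (Finset.mem_range.1 hi))
  rw [Finset.sum_congr rfl hsum, Finset.sum_eq_single ℓ]
  · -- the last step
    rw [Finset.sum_ite, Finset.sum_const_zero, add_zero, Finset.sum_const, nsmul_eq_mul]
    obtain ⟨b₀, hb₀⟩ := htop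
    have hcard : ((Finset.univ.filter (fun b : Fin (F.rk ℓ) => F.deg ℓ b = ρ + ℓ)).card : ℚ) ≠ 0 := by
      rw [Nat.cast_ne_zero]
      exact Finset.card_ne_zero.2 ⟨b₀, Finset.mem_filter.2 ⟨Finset.mem_univ _, hb₀⟩⟩
    refine mul_ne_zero (pow_ne_zero _ (by norm_num)) (mul_ne_zero hcard ?_)
    exact neg_ne_zero.2 (pow_ne_zero _ (by norm_num))
  · intro i hi hne
    have hi' : i < ℓ := lt_of_le_of_ne (Nat.le_of_lt_succ (Finset.mem_range.1 hi)) hne
    rw [Finset.sum_eq_zero, mul_zero]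
    intro b _
    have h1 := hρ i b
    rw [if_neg]
    have : (i : ℤ) < ℓ := by exact_mod_cast hi'
    omega
  · intro h
    exact absurd (Finset.mem_range.2 (Nat.lt_succ_self ℓ)) h

end Groth.Agent.H66.HilbDiff
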