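import Mathlib.FieldTheory.Galois.Basic
import Mathlib.FieldTheory.Fixed
import Mathlib.LinearAlgebra.Matrix.GeneralLinearGroup.Defs
import Mathlib.LinearAlgebra.Matrix.NonsingularInverse
import Mathlib.LinearAlgebra.Matrix.Basis
import Mathlib.LinearAlgebra.Basis.VectorSpace
import Mathlib.LinearAlgebra.StdBasis

set_option autoImplicit false
universe u v

namespace Groth.Agent.H66

open Matrix

section

variable (k : Type u) [Field k] (K : Type v) [Field K] [Algebra k K] [FiniteDimensional k K]

/-- Dedekind independence in the form used below. -/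
theorem dedekind_sum_eq_zero (c : (K ≃ₐ[k] K) → K)
    (h : ∀ x : K, ∑ τ : K ≃ₐ[k] K, c τ * τ x = 0) : ∀ τ, c τ = 0 := by
  have hli : LinearIndependent K (fun (f : K ≃ₐ[k] K) => (f : K → K)) :=
    LinearIndependent.comp (ι' := K ≃ₐ[k] K)
      (linearIndependent_monoidHom K K) (fun f => (f : K →* K))
      (fun x y h => by ext z; exact DFunLike.ext_iff.1 h z)
  rw [Fintype.linearIndependent_iff] at hli
  apply hli c
  funext x
  simp only [Finset.sum_apply, Pi.smul_apply, smul_eq_mul, Pi.zero_apply]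
  exact h x

variable {k K}

/-- The Poincaré series of a vector. -/
noncomputable def poincareVec {n : ℕ} (a : (K ≃ₐ[k] K) → Matrix (Fin n) (Fin n) K)
    (x : Fin n → K) : Fin n → K :=
  ∑ τ : K ≃ₐ[k] K, (a τ).mulVec (fun i => τ (x i))

theorem span_poincareVec_eq_top {n : ℕ} (a : (K ≃ₐ[k] K) → Matrix (Fin n) (Fin n) K)
    (ha1 : a 1 = 1) : Submodule.span K (Set.range (poincareVec a)) = ⊤ := by
  by_contra hne
  obtain ⟨u, hu0, hu⟩ := Submodule.exists_le_ker_of_lt_top _ (lt_top_iff_ne_top.2 hne)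
  apply hu0
  have hvan : ∀ x, u (poincareVec a x) = 0 := fun x =>
    LinearMap.mem_ker.1 (hu (Submodule.subset_span ⟨x, rfl⟩))
  refine LinearMap.ext fun x => ?_
  -- apply Dedekind to the coefficients
  have key : ∀ h : K, ∑ τ : K ≃ₐ[k] K, u ((a τ).mulVec (fun i => τ (x i))) * τ h = 0 := by
    intro h
    have := hvan (h • x)
    unfold poincareVec at this
    rw [map_sum] at this
    rw [← this]
    refine Finset.sum_congr rfl fun τ _ => ?_
    have e : (fun i => τ ((h • x) i)) = τ h • (fun i => τ (x i)) := by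
      funext i
      simp
    rw [e, Matrix.mulVec_smul, map_smul, smul_eq_mul, mul_comm]
  have h1 := dedekind_sum_eq_zero k K _ key 1
  rw [ha1] at h1
  simpa using h1

theorem exists_isUnit_poincare {n : ℕ} (a : (K ≃ₐ[k] K) → Matrix (Fin n) (Fin n) K)
    (ha1 : a 1 = 1) (hmul : ∀ σ τ : K ≃ₐ[k] K, a (σ * τ) = a σ * (a τ).map σ) :
    ∃ B : Matrix (Fin n) (Fin n) K, IsUnit B ∧ ∀ σ : K ≃ₐ[k] K, a σ * B.map σ = B := by
  classical
  have hs : ⊤ ≤ Submodule.span K (Set.range (poincareVec a)) :=
    (span_poincareVec_eq_top a ha1).ge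
  let bas0 := Module.Basis.ofSpan hs
  let e := bas0.indexEquiv (Pi.basisFun K (Fin n))
  let bas := bas0.reindex e
  have hmem : ∀ i, bas i ∈ Set.range (poincareVec a) := by
    intro i
    have : bas i = bas0 (e.symm i) := by simp [bas]
    rw [this]
    exact Module.Basis.ofSpan_subset hs ⟨e.symm i, rfl⟩
  choose x hx using hmem
  -- the matrix with columns `x j`
  let C : Matrix (Fin n) (Fin n) K := Matrix.of fun i j => x j i
  let B : Matrix (Fin n) (Fin n) K := ∑ τ : K ≃ₐ[k] K, a τ * C.map τ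
  have hBcol : B = (Pi.basisFun K (Fin n)).toMatrix bas := by
    ext i j
    rw [Module.Basis.toMatrix_apply, Pi.basisFun_repr, ← hx j]
    simp only [B, poincareVec, Matrix.sum_apply, Finset.sum_apply]
    refine Finset.sum_congr rfl fun τ _ => ?_
    simp [Matrix.mul_apply, Matrix.mulVec, dotProduct, C]
  refine ⟨B, ?_, ?_⟩
  · rw [hBcol]
    haveI := (Pi.basisFun K (Fin n)).invertibleToMatrix bas
    exact isUnit_of_invertible _
  · intro σ
    have hmap : B.map σ = ∑ τ : K ≃ₐ[k] K, (a τ).map σ * C.map (σ * τ) := by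
      ext i j
      simp only [B, Matrix.map_apply, Matrix.sum_apply, map_sum, Matrix.mul_apply, map_mul,
        AlgEquiv.mul_apply]
    rw [hmap, Finset.mul_sum]
    simp_rw [← Matrix.mul_assoc, ← hmul]
    exact Fintype.sum_bijective (fun τ => σ * τ) (Group.mulLeft_bijective σ) _ _ (fun τ => rfl)

end

end Groth.Agent.H66
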