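import Mathlib.RingTheory.Length
import Mathlib.RingTheory.Ideal.Operations

set_option autoImplicit false
universe u v w

/-!
# Length over a ring with residue ring `k` versus length over `k`

If `k → S ⧸ 𝔪` is surjective and `N` is an `S`-module killed by a power of `𝔪`, then
the `k`-length of `N` is at most its `S`-length (in fact they are equal).
-/

namespace Groth.Agent.H66.LengthRes

variable {k : Type u} {S : Type v} [CommRing k] [CommRing S] [Algebra k S]
variable (𝔪 : Ideal S) (h𝔪 : ∀ s : S, ∃ c : k, s - algebraMap k S c ∈ 𝔪)

section Killed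

variable {Q : Type w} [AddCommGroup Q] [Module S Q] [Module k Q] [IsScalarTower k S Q]
  (hQ : ∀ s ∈ 𝔪, ∀ q : Q, s • q = 0)

/-- a `k`-submodule of a module killed by `𝔪` is an `S`-submodule -/
def toS (W : Submodule k Q) : Submodule S Q where
  carrier := W
  zero_mem' := W.zero_mem
  add_mem' := W.add_mem
  smul_mem' := by
    intro s q hq
    obtain ⟨c, hc⟩ := h𝔪 s
    have h1 : s • q = c • q := by
      have h2 : (s - algebraMap k S c) • q = 0 := hQ _ hc q
      rw [sub_smul, algebraMap_smul, sub_eq_zero] at h2
      exact h2
    change s • q ∈ W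
    rw [h1]
    exact W.smul_mem c hq

theorem toS_strictMono : StrictMono (toS 𝔪 h𝔪 hQ) := by
  intro W W' h
  rw [SetLike.lt_iff_le_and_exists] at h ⊢
  exact ⟨fun x hx => h.1 hx, h.2⟩

include h𝔪 hQ in
theorem length_le_of_killed : Module.length k Q ≤ Module.length S Q := by
  rw [← WithBot.coe_le_coe, Module.coe_length, Module.coe_length]
  exact Order.krullDim_le_of_strictMono _ (toS_strictMono 𝔪 h𝔪 hQ)

end Killed

include h𝔪 in
/-- the `k`-length of a module killed by `𝔪 ^ n` is at most its `S`-length -/
theorem length_le_of_pow_killed (n : ℕ) :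
    ∀ (N : Type w) [AddCommGroup N] [Module S N] [Module k N] [IsScalarTower k S N]
      (_ : ∀ s ∈ 𝔪 ^ n, ∀ x : N, s • x = 0), Module.length k N ≤ Module.length S N := by
  induction n with
  | zero =>
    intro N _ _ _ _ hN
    have : Subsingleton N := by
      refine ⟨fun x y => ?_⟩
      have h1 : (1 : S) ∈ 𝔪 ^ 0 := by rw [pow_zero, Ideal.one_eq_top]; exact Submodule.mem_top
      have hx := hN 1 h1 x
      have hy := hN 1 h1 y
      rw [one_smul] at hx hy
      rw [hx, hy]
    rw [Module.length_eq_zero]
    exact bot_le
  | succ n ih =>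
    intro N _ _ _ _ hN
    let P : Submodule S N := 𝔪 • (⊤ : Submodule S N)
    have hS := Module.length_eq_add_of_exact P.subtype P.mkQ (Submodule.injective_subtype P)
      (Submodule.mkQ_surjective P) (LinearMap.exact_subtype_mkQ P)
    have hk := Module.length_eq_add_of_exact (P.subtype.restrictScalars k)
      (P.mkQ.restrictScalars k) (Submodule.injective_subtype P)
      (Submodule.mkQ_surjective P) (LinearMap.exact_subtype_mkQ P)
    rw [hS, hk]
    refine add_le_add ?_ ?_
    · apply ih P
      intro s hs x
      apply Subtype.ext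
      change s • (x : N) = 0
      refine Submodule.smul_induction_on x.2 ?_ ?_
      · intro a ha y _
        rw [← mul_smul]
        apply hN
        rw [pow_succ]
        exact Ideal.mul_mem_mul hs ha
      · intro y z hy hz
        rw [smul_add, hy, hz, add_zero]
    · apply length_le_of_killed 𝔪 h𝔪
      intro s hs q
      obtain ⟨x, rfl⟩ := Submodule.mkQ_surjective P q
      rw [← map_smul, Submodule.mkQ_apply, Submodule.Quotient.mk_eq_zero]
      exact Submodule.smul_mem_smul hs Submodule.mem_top

end Groth.Agent.H66.LengthRes
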