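import Mathlib
import Groth.Prelude.Def_CAlg2
import Groth.Agent.H66.PolyUnibranch
import Groth.Agent.H14.HensProp.StrictUni2

set_option autoImplicit false
set_option linter.style.haveILetI false
universe u

namespace Groth.Agent.H66.NormUI

open IsLocalRing

section Basics

variable (A : Type u) [CommRing A] [IsDomain A] (p : Ideal A) [p.IsPrime]

/-- the localization of the normalization `A'` of `A` at `A ∖ p` -/
abbrev Tp : Type u :=
  Localization (Algebra.algebraMapSubmonoid (integralClosure A (FractionRing A)) p.primeCompl)

theorem algebraMap_A'_injective :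
    Function.Injective (algebraMap A (integralClosure A (FractionRing A))) := by
  intro a b hab
  have := congrArg Subtype.val hab
  exact IsFractionRing.injective A (FractionRing A) this

theorem submonoid_le :
    Algebra.algebraMapSubmonoid (integralClosure A (FractionRing A)) p.primeCompl ≤
      nonZeroDivisors (integralClosure A (FractionRing A)) := by
  rintro _ ⟨a, ha, rfl⟩
  refine mem_nonZeroDivisors_of_ne_zero ?_
  intro h0
  have : a = 0 := algebraMap_A'_injective A (by rw [h0, map_zero])
  exact ha (this ▸ p.zero_mem)

instance : IsDomain (Tp A p) := IsLocalization.isDomain_localization (submonoid_le A p)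

instance : IsIntegrallyClosed (Tp A p) :=
  haveI : IsIntegrallyClosed (integralClosure A (FractionRing A)) :=
    integralClosure.isIntegrallyClosedOfFiniteExtension (FractionRing A)
  isIntegrallyClosed_of_isLocalization (Tp A p)
    (Algebra.algebraMapSubmonoid (integralClosure A (FractionRing A)) p.primeCompl)
    (submonoid_le A p)

instance : Algebra.IsIntegral (Localization.AtPrime p) (Tp A p) :=
  ⟨isIntegral_localization (R := A) (S := integralClosure A (FractionRing A))
    (M := p.primeCompl) (Rₘ := Localization.AtPrime p) (Sₘ := Tp A p)⟩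

theorem algebraMap_Tp_injective :
    Function.Injective (algebraMap (Localization.AtPrime p) (Tp A p)) :=
  localizationAlgebra_injective (Localization.AtPrime p) (Tp A p) (algebraMap_A'_injective A)

theorem birational (b : Tp A p) : ∃ d : Localization.AtPrime p, d ≠ 0 ∧
    ∃ r : Localization.AtPrime p, algebraMap (Localization.AtPrime p) (Tp A p) r = d • b := by
  obtain ⟨⟨a', s⟩, hbs⟩ := IsLocalization.surj
    (Algebra.algebraMapSubmonoid (integralClosure A (FractionRing A)) p.primeCompl) b
  obtain ⟨s₀, hs₀, hs⟩ := s.2
  simp only at hbs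
  obtain ⟨x, y, hy, hxy⟩ := IsFractionRing.div_surjective (A := A) (a' : FractionRing A)
  have hy0 : y ≠ 0 := nonZeroDivisors.ne_zero hy
  have hy0' : algebraMap A (FractionRing A) y ≠ 0 :=
    IsFractionRing.to_map_ne_zero_of_mem_nonZeroDivisors hy
  have h1 : algebraMap A (integralClosure A (FractionRing A)) x =
      algebraMap A (integralClosure A (FractionRing A)) y * a' := by
    apply Subtype.ext
    show algebraMap A (FractionRing A) x = algebraMap A (FractionRing A) y * (a' : FractionRing A)
    rw [← hxy]
    field_simp
  refine ⟨algebraMap A (Localization.AtPrime p) (y * s₀), ?_, algebraMap A (Localization.AtPrime p) x, ?_⟩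
  · intro h0
    have hinj : Function.Injective (algebraMap A (Localization.AtPrime p)) :=
      IsLocalization.injective _ p.primeCompl_le_nonZeroDivisors
    have h2 : y * s₀ = 0 := hinj (by rw [h0, map_zero])
    rcases mul_eq_zero.mp h2 with h | h
    · exact hy0 h
    · exact hs₀ (h ▸ p.zero_mem)
  · rw [Algebra.smul_def, ← IsScalarTower.algebraMap_apply A (Localization.AtPrime p) (Tp A p),
      ← IsScalarTower.algebraMap_apply A (Localization.AtPrime p) (Tp A p),
      IsScalarTower.algebraMap_apply A (integralClosure A (FractionRing A)) (Tp A p),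
      IsScalarTower.algebraMap_apply A (integralClosure A (FractionRing A)) (Tp A p) (y * s₀),
      h1, map_mul, map_mul, map_mul, hs, ← hbs]
    ring

theorem isLocalHom_of_isLocalRing [IsLocalRing (Tp A p)] :
    IsLocalHom (algebraMap (Localization.AtPrime p) (Tp A p)) := by
  have hmax := Ideal.isMaximal_comap_of_isIntegral_of_isMaximal (R := Localization.AtPrime p)
    (S := Tp A p) (maximalIdeal (Tp A p))
  exact ((IsLocalRing.local_hom_TFAE (algebraMap (Localization.AtPrime p) (Tp A p))).out 0 4).mpr
    (IsLocalRing.eq_maximalIdeal hmax)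

open Groth.Agent.H14.HensProp Groth.Agent.H14.HensProp.StrictUni in
/-- geometric unibranchness of `A_p` makes `Tp` local with purely inseparable residue field -/
theorem isLocalRing_Tp_of_gu (h : CAlg2.IsGeomUnibranch (Localization.AtPrime p)) :
    ∃ _ : IsLocalRing (Tp A p), ∃ _ : IsLocalHom (algebraMap (Localization.AtPrime p) (Tp A p)),
      IsPurelyInseparable (ResidueField (Localization.AtPrime p)) (ResidueField (Tp A p)) := by
  have hSH := Groth.Agent.H3.SH.isStrictHenselization (Localization.AtPrime p)
  obtain ⟨hU, hff⟩ := Groth.Agent.H3.HensUnion.package (Or.inr hSH)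
  haveI := hSH
  haveI : IsDomain (Groth.Agent.H3.SH.S (Localization.AtPrime p)) :=
    (reduced_isGeomUnibranch_iff_isDomain (Localization.AtPrime p)
      (Groth.Agent.H3.SH.S (Localization.AtPrime p))).mp ⟨inferInstance, h⟩
  haveI : HenselianLocalRing (Groth.Agent.H3.SH.S (Localization.AtPrime p)) := hSH.henselian
  haveI : IsSepClosed (ResidueField (Groth.Agent.H3.SH.S (Localization.AtPrime p))) :=
    hSH.isSepClosure.sep_closed
  haveI hloc : IsLocalRing (Tp A p) :=
    isLocalRing_of_isDomain_of_birational (Localization.AtPrime p)
      (Groth.Agent.H3.SH.S (Localization.AtPrime p)) (Tp A p) (algebraMap_Tp_injective A p)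
      (birational A p)
  haveI hlh := isLocalHom_of_isLocalRing A p
  exact ⟨hloc, hlh, isPurelyInseparable_residueField (Localization.AtPrime p)
    (Groth.Agent.H3.SH.S (Localization.AtPrime p)) (Tp A p) (algebraMap_Tp_injective A p)
    (birational A p)⟩

/-- a field-valued point of `A'` whose restriction to `A` has kernel `p` factors through the
residue field of the local ring `Tp` -/
theorem exists_residue_lift [IsLocalRing (Tp A p)] (Ω : Type u) [Field Ω]
    (ψ : integralClosure A (FractionRing A) →+* Ω)
    (hp : RingHom.ker (ψ.comp (algebraMap A (integralClosure A (FractionRing A)))) = p) :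
    ∃ χ : ResidueField (Tp A p) →+* Ω, ∀ a' : integralClosure A (FractionRing A),
      χ (residue _ (algebraMap (integralClosure A (FractionRing A)) (Tp A p) a')) = ψ a' := by
  have hu : ∀ y : Algebra.algebraMapSubmonoid (integralClosure A (FractionRing A)) p.primeCompl,
      IsUnit (ψ (y : integralClosure A (FractionRing A))) := by
    rintro ⟨_, a, ha, rfl⟩
    rw [isUnit_iff_ne_zero]
    intro h0
    apply ha
    have hmem : a ∈ RingHom.ker (ψ.comp (algebraMap A (integralClosure A (FractionRing A)))) :=
      (RingHom.mem_ker).mpr h0
    rw [hp] at hmem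
    exact hmem
  let ψ' : Tp A p →+* Ω := IsLocalization.lift hu
  have hψ' : ∀ a', ψ' (algebraMap (integralClosure A (FractionRing A)) (Tp A p) a') = ψ a' :=
    fun a' => IsLocalization.lift_eq hu a'
  -- the kernel of `ψ'` is the maximal ideal
  have hker : RingHom.ker ψ' = maximalIdeal (Tp A p) := by
    haveI hprime : (RingHom.ker ψ').IsPrime := RingHom.ker_isPrime ψ'
    have hcomap : (RingHom.ker ψ').comap (algebraMap (Localization.AtPrime p) (Tp A p)) =
        maximalIdeal (Localization.AtPrime p) := by
      refine le_antisymm (IsLocalRing.le_maximalIdeal (Ideal.comap_isPrime _ _).ne_top) ?_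
      intro l hl
      obtain ⟨⟨a, s⟩, has⟩ := IsLocalization.surj p.primeCompl l
      simp only at has
      have h1 : algebraMap A (Localization.AtPrime p) a ∈ maximalIdeal (Localization.AtPrime p) := by
        rw [← has]
        exact Ideal.mul_mem_right _ _ hl
      have h2 : a ∈ p := (IsLocalization.AtPrime.to_map_mem_maximal_iff _ p a).mp h1
      rw [Ideal.mem_comap, RingHom.mem_ker]
      have h3 : ψ' (algebraMap (Localization.AtPrime p) (Tp A p)
          (algebraMap A (Localization.AtPrime p) a)) = 0 := by
        rw [← IsScalarTower.algebraMap_apply A (Localization.AtPrime p) (Tp A p),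
          IsScalarTower.algebraMap_apply A (integralClosure A (FractionRing A)) (Tp A p), hψ']
        have h2' : a ∈ RingHom.ker (ψ.comp (algebraMap A (integralClosure A (FractionRing A)))) := by
          rw [hp]; exact h2
        exact (RingHom.mem_ker).mp h2'
      rw [← has, map_mul, map_mul] at h3
      rcases mul_eq_zero.mp h3 with h | h
      · exact h
      · exfalso
        rw [← IsScalarTower.algebraMap_apply A (Localization.AtPrime p) (Tp A p),
          IsScalarTower.algebraMap_apply A (integralClosure A (FractionRing A)) (Tp A p), hψ'] at h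
        have hs' : (s : A) ∈
            RingHom.ker (ψ.comp (algebraMap A (integralClosure A (FractionRing A)))) :=
          (RingHom.mem_ker).mpr h
        rw [hp] at hs'
        exact s.2 hs'
    let K : Ideal (Tp A p) := RingHom.ker ψ'
    have hK : K.comap (algebraMap (Localization.AtPrime p) (Tp A p)) =
        maximalIdeal (Localization.AtPrime p) := hcomap
    haveI : K.IsPrime := hprime
    have hmax := Ideal.isMaximal_of_isIntegral_of_isMaximal_comap (R := Localization.AtPrime p)
      (S := Tp A p) K (by rw [hK]; exact IsLocalRing.maximalIdeal.isMaximal _)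
    exact IsLocalRing.eq_maximalIdeal hmax
  haveI : IsLocalHom ψ' := by
    refine ⟨fun t ht => ?_⟩
    by_contra hnu
    have : t ∈ RingHom.ker ψ' := by
      rw [hker]
      exact (IsLocalRing.mem_maximalIdeal t).mpr hnu
    rw [RingHom.mem_ker] at this
    rw [this] at ht
    exact not_isUnit_zero ht
  refine ⟨IsLocalRing.ResidueField.lift ψ', fun a' => ?_⟩
  rw [IsLocalRing.ResidueField.lift_residue_apply, hψ']


/-- for a local `Tp` with purely inseparable residue extension, field points of `A'` with the same
restriction to `A` (of kernel `p`) agree -/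
theorem fieldPoint_eq [IsLocalRing (Tp A p)]
    [IsLocalHom (algebraMap (Localization.AtPrime p) (Tp A p))]
    [IsPurelyInseparable (ResidueField (Localization.AtPrime p)) (ResidueField (Tp A p))]
    (Ω : Type u) [Field Ω]
    (ψ₁ ψ₂ : integralClosure A (FractionRing A) →+* Ω)
    (h12 : ψ₁.comp (algebraMap A (integralClosure A (FractionRing A))) =
      ψ₂.comp (algebraMap A (integralClosure A (FractionRing A))))
    (hp : RingHom.ker (ψ₁.comp (algebraMap A (integralClosure A (FractionRing A)))) = p) :
    ψ₁ = ψ₂ := by
  obtain ⟨χ₁, hχ₁⟩ := exists_residue_lift A p Ω ψ₁ hp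
  obtain ⟨χ₂, hχ₂⟩ := exists_residue_lift A p Ω ψ₂ (h12 ▸ hp)
  have hagree : χ₁.comp (algebraMap (ResidueField (Localization.AtPrime p))
      (ResidueField (Tp A p))) = χ₂.comp (algebraMap (ResidueField (Localization.AtPrime p))
      (ResidueField (Tp A p))) := by
    apply Ideal.Quotient.ringHom_ext
    apply IsLocalization.ringHom_ext p.primeCompl
    ext a
    show χ₁ (algebraMap (ResidueField (Localization.AtPrime p)) (ResidueField (Tp A p))
        (residue _ (algebraMap A (Localization.AtPrime p) a))) =
      χ₂ (algebraMap (ResidueField (Localization.AtPrime p)) (ResidueField (Tp A p))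
        (residue _ (algebraMap A (Localization.AtPrime p) a)))
    rw [IsLocalRing.ResidueField.algebraMap_residue,
      ← IsScalarTower.algebraMap_apply A (Localization.AtPrime p) (Tp A p),
      IsScalarTower.algebraMap_apply A (integralClosure A (FractionRing A)) (Tp A p), hχ₁, hχ₂]
    exact congr($h12 a)
  have hχ : χ₁ = χ₂ := IsPurelyInseparable.injective_comp_algebraMap
    (ResidueField (Localization.AtPrime p)) (ResidueField (Tp A p)) Ω hagree
  ext a'
  rw [← hχ₁, ← hχ₂, hχ]

/-- injectivity of `Spec A' → Spec A` makes every `Tp` local -/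
theorem isLocalRing_Tp_of_injective
    (hinj : Function.Injective
      (PrimeSpectrum.comap (algebraMap A (integralClosure A (FractionRing A))))) :
    IsLocalRing (Tp A p) := by
  have hover : ∀ (M' : Ideal (Tp A p)), M'.IsMaximal →
      (M'.comap (algebraMap (integralClosure A (FractionRing A)) (Tp A p))).comap
        (algebraMap A (integralClosure A (FractionRing A))) = p := by
    intro M' hM'
    have h1 := Ideal.isMaximal_comap_of_isIntegral_of_isMaximal (R := Localization.AtPrime p)
      (S := Tp A p) M'
    have h2 : M'.comap (algebraMap (Localization.AtPrime p) (Tp A p)) =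
        maximalIdeal (Localization.AtPrime p) := IsLocalRing.eq_maximalIdeal h1
    have h3 : (M'.comap (algebraMap (integralClosure A (FractionRing A)) (Tp A p))).comap
        (algebraMap A (integralClosure A (FractionRing A))) =
        (M'.comap (algebraMap (Localization.AtPrime p) (Tp A p))).comap
          (algebraMap A (Localization.AtPrime p)) := by
      rw [Ideal.comap_comap, Ideal.comap_comap,
        ← IsScalarTower.algebraMap_eq A (integralClosure A (FractionRing A)) (Tp A p),
        ← IsScalarTower.algebraMap_eq A (Localization.AtPrime p) (Tp A p)]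
    rw [h3, h2]
    exact IsLocalization.AtPrime.comap_maximalIdeal (Localization.AtPrime p) p
  obtain ⟨M₀, hM₀⟩ := Ideal.exists_maximal (Tp A p)
  refine IsLocalRing.of_unique_max_ideal ⟨M₀, hM₀, fun M' hM' => ?_⟩
  haveI h0 : (M₀.comap (algebraMap (integralClosure A (FractionRing A)) (Tp A p))).IsPrime :=
    Ideal.comap_isPrime _ _
  haveI h1 : (M'.comap (algebraMap (integralClosure A (FractionRing A)) (Tp A p))).IsPrime :=
    Ideal.comap_isPrime _ _
  have e1 : (⟨_, h1⟩ : PrimeSpectrum (integralClosure A (FractionRing A))) = ⟨_, h0⟩ := by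
    apply hinj
    apply PrimeSpectrum.ext
    show (M'.comap (algebraMap (integralClosure A (FractionRing A)) (Tp A p))).comap
        (algebraMap A (integralClosure A (FractionRing A))) =
      (M₀.comap (algebraMap (integralClosure A (FractionRing A)) (Tp A p))).comap
        (algebraMap A (integralClosure A (FractionRing A)))
    rw [hover M' hM', hover M₀ hM₀]
  have e2 : M'.comap (algebraMap (integralClosure A (FractionRing A)) (Tp A p)) =
      M₀.comap (algebraMap (integralClosure A (FractionRing A)) (Tp A p)) :=
    congrArg PrimeSpectrum.asIdeal e1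
  rw [← IsLocalization.map_comap
      (Algebra.algebraMapSubmonoid (integralClosure A (FractionRing A)) p.primeCompl) (Tp A p) M',
    ← IsLocalization.map_comap
      (Algebra.algebraMapSubmonoid (integralClosure A (FractionRing A)) p.primeCompl) (Tp A p) M₀]
  exact congrArg (Ideal.map (algebraMap (integralClosure A (FractionRing A)) (Tp A p))) e2

/-- separation of field points by `A` makes the residue extension of a local `Tp` purely
inseparable -/
theorem isPurelyInseparable_of_fieldInj [IsLocalRing (Tp A p)]
    [IsLocalHom (algebraMap (Localization.AtPrime p) (Tp A p))]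
    (H : ∀ (Ω : Type u) [Field Ω] (ψ₁ ψ₂ : integralClosure A (FractionRing A) →+* Ω),
      ψ₁.comp (algebraMap A (integralClosure A (FractionRing A))) =
        ψ₂.comp (algebraMap A (integralClosure A (FractionRing A))) → ψ₁ = ψ₂) :
    IsPurelyInseparable (ResidueField (Localization.AtPrime p)) (ResidueField (Tp A p)) := by
  haveI : Nonempty (ResidueField (Tp A p) →+* AlgebraicClosure (ResidueField (Tp A p))) :=
    ⟨algebraMap _ _⟩
  refine IsPurelyInseparable.of_injective_comp_algebraMap
    (F := ResidueField (Localization.AtPrime p)) (E := ResidueField (Tp A p))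
    (L := AlgebraicClosure (ResidueField (Tp A p))) ?_
  intro f g hfg
  have hfg' : f.comp (algebraMap (ResidueField (Localization.AtPrime p))
      (ResidueField (Tp A p))) = g.comp (algebraMap (ResidueField (Localization.AtPrime p))
      (ResidueField (Tp A p))) := hfg
  have key := H (AlgebraicClosure (ResidueField (Tp A p)))
    ((f.comp (residue (Tp A p))).comp (algebraMap (integralClosure A (FractionRing A)) (Tp A p)))
    ((g.comp (residue (Tp A p))).comp (algebraMap (integralClosure A (FractionRing A)) (Tp A p)))
    (by
      ext a
      show f (residue _ (algebraMap (integralClosure A (FractionRing A)) (Tp A p)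
          (algebraMap A (integralClosure A (FractionRing A)) a))) =
        g (residue _ (algebraMap (integralClosure A (FractionRing A)) (Tp A p)
          (algebraMap A (integralClosure A (FractionRing A)) a)))
      rw [← IsScalarTower.algebraMap_apply A (integralClosure A (FractionRing A)) (Tp A p),
        IsScalarTower.algebraMap_apply A (Localization.AtPrime p) (Tp A p),
        ← IsLocalRing.ResidueField.algebraMap_residue]
      exact congr($hfg' (residue _ (algebraMap A (Localization.AtPrime p) a))))
  have h2 : f.comp (residue (Tp A p)) = g.comp (residue (Tp A p)) :=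
    IsLocalization.ringHom_ext
      (Algebra.algebraMapSubmonoid (integralClosure A (FractionRing A)) p.primeCompl) key
  exact Ideal.Quotient.ringHom_ext h2


open Groth.Agent.H14.HensProp Groth.Agent.H14.HensProp.StrictUni in
/-- a local `Tp` with purely inseparable residue extension makes `A_p` geometrically unibranch -/
theorem gu_of_isLocalRing_Tp [IsLocalRing (Tp A p)]
    [IsLocalHom (algebraMap (Localization.AtPrime p) (Tp A p))]
    [IsPurelyInseparable (ResidueField (Localization.AtPrime p)) (ResidueField (Tp A p))] :
    CAlg2.IsGeomUnibranch (Localization.AtPrime p) := by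
  obtain ⟨e, hedef⟩ : ∃ e : ℕ, e = ringExpChar (ResidueField (Localization.AtPrime p)) := ⟨_, rfl⟩
  haveI hE : ExpChar (ResidueField (Localization.AtPrime p)) e := hedef ▸ ringExpChar.expChar _
  have he : e = 1 ∨ (e.Prime ∧ ((e : ℕ) : Tp A p) ∈ maximalIdeal (Tp A p)) := by
    cases hE with
    | zero => exact Or.inl rfl
    | prime hprime =>
      refine Or.inr ⟨hprime, ?_⟩
      refine (IsLocalRing.residue_eq_zero_iff (R := Tp A p) _).mp ?_
      rw [map_natCast,
        ← map_natCast (algebraMap (ResidueField (Localization.AtPrime p)) (ResidueField (Tp A p))),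
        CharP.cast_eq_zero, map_zero]
  have hpi : ∀ t : Tp A p, ∃ (N : ℕ) (l : Localization.AtPrime p),
      t ^ e ^ N - algebraMap (Localization.AtPrime p) (Tp A p) l ∈ maximalIdeal (Tp A p) := by
    intro t
    obtain ⟨N, y, hy⟩ := IsPurelyInseparable.pow_mem (ResidueField (Localization.AtPrime p)) e
      (residue (Tp A p) t)
    obtain ⟨l, rfl⟩ := IsLocalRing.residue_surjective y
    refine ⟨N, l, ?_⟩
    refine (IsLocalRing.residue_eq_zero_iff (R := Tp A p) _).mp ?_
    rw [map_sub, map_pow, ← hy, IsLocalRing.ResidueField.algebraMap_residue, sub_self]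
  have hSH := Groth.Agent.H3.SH.isStrictHenselization (Localization.AtPrime p)
  obtain ⟨hU', hff'⟩ := Groth.Agent.H3.HensUnion.package (Or.inr hSH)
  haveI : IsDomain (Groth.Agent.H3.SH.S (Localization.AtPrime p)) :=
    isDomain_of_pi_normal (Localization.AtPrime p) (Groth.Agent.H3.SH.S (Localization.AtPrime p))
      (Tp A p) hU' (algebraMap_Tp_injective A p) e he hpi
  haveI := hSH
  exact ((reduced_isGeomUnibranch_iff_isDomain (Localization.AtPrime p)
    (Groth.Agent.H3.SH.S (Localization.AtPrime p))).mpr inferInstance).2

end Basics

section Scheme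

open AlgebraicGeometry CategoryTheory

/-- a morphism of affine schemes is universally injective iff field-valued points are separated
by the base -/
theorem universallyInjective_specMap_iff {R S : Type u} [CommRing R] [CommRing S] (φ : R →+* S) :
    UniversallyInjective (Spec.map (CommRingCat.ofHom φ)) ↔
      ∀ (Ω : Type u) [Field Ω] (ψ₁ ψ₂ : S →+* Ω), ψ₁.comp φ = ψ₂.comp φ → ψ₁ = ψ₂ := by
  refine ((tfae_universallyInjective (Spec.map (CommRingCat.ofHom φ))).out 0 1).trans ?_
  constructor
  · intro H Ω _ ψ₁ ψ₂ h
    have h1 : Spec.map (CommRingCat.ofHom ψ₁) ≫ Spec.map (CommRingCat.ofHom φ) =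
        Spec.map (CommRingCat.ofHom ψ₂) ≫ Spec.map (CommRingCat.ofHom φ) := by
      rw [← Spec.map_comp, ← Spec.map_comp, ← CommRingCat.ofHom_comp, ← CommRingCat.ofHom_comp, h]
    have h2 := Spec.map_injective (H Ω h1)
    exact congr($(h2).hom)
  · intro H Ω _ g₁ g₂ hg
    obtain ⟨ψ₁, rfl⟩ := Spec.map_surjective g₁
    obtain ⟨ψ₂, rfl⟩ := Spec.map_surjective g₂
    have hg' : Spec.map ψ₁ ≫ Spec.map (CommRingCat.ofHom φ) =
        Spec.map ψ₂ ≫ Spec.map (CommRingCat.ofHom φ) := hg
    rw [← Spec.map_comp, ← Spec.map_comp] at hg'
    have h1 := Spec.map_injective hg'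
    have h2 : ψ₁.hom = ψ₂.hom := by
      apply H Ω
      ext r
      exact congr($(h1).hom r)
    have h3 : ψ₁ = ψ₂ := CommRingCat.hom_ext h2
    rw [h3]

/-- a universally injective morphism of affine schemes is injective on prime spectra -/
theorem comap_injective_of_universallyInjective {R S : Type u} [CommRing R] [CommRing S]
    (φ : R →+* S) [UniversallyInjective (Spec.map (CommRingCat.ofHom φ))] :
    Function.Injective (PrimeSpectrum.comap φ) :=
  fun x y h => (Spec.map (CommRingCat.ofHom φ)).injective h

end Scheme

section Main

variable (A : Type u) [CommRing A] [IsDomain A]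

theorem isHomeomorph_comap_of_injective
    (hinj : Function.Injective
      (PrimeSpectrum.comap (algebraMap A (integralClosure A (FractionRing A))))) :
    IsHomeomorph (PrimeSpectrum.comap (algebraMap A (integralClosure A (FractionRing A)))) := by
  rw [isHomeomorph_iff_continuous_isClosedMap_bijective]
  refine ⟨PrimeSpectrum.continuous_comap _, ?_, hinj, ?_⟩
  · exact PrimeSpectrum.isClosedMap_comap_of_isIntegral _
      (algebraMap_isIntegral_iff.mpr inferInstance)
  · intro x
    obtain ⟨Q, hQ, hQx⟩ := Ideal.exists_ideal_over_prime_of_isIntegral_of_isDomain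
      (S := integralClosure A (FractionRing A)) x.asIdeal (by
        rw [(RingHom.injective_iff_ker_eq_bot _).mp (algebraMap_A'_injective A)]
        exact bot_le)
    exact ⟨⟨Q, hQ⟩, PrimeSpectrum.ext hQx⟩

open AlgebraicGeometry in
theorem main :
    (UniversallyInjective (Spec.map (CommRingCat.ofHom
        (algebraMap A (integralClosure A (FractionRing A))))) ↔
      ∀ (p : Ideal A) [p.IsPrime], CAlg2.IsGeomUnibranch (Localization.AtPrime p)) ∧
    ((∀ (p : Ideal A) [p.IsPrime], CAlg2.IsGeomUnibranch (Localization.AtPrime p)) →
      IsHomeomorph (PrimeSpectrum.comap (algebraMap A (integralClosure A (FractionRing A))))) := by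
  have hback : (∀ (p : Ideal A) [p.IsPrime], CAlg2.IsGeomUnibranch (Localization.AtPrime p)) →
      UniversallyInjective (Spec.map (CommRingCat.ofHom
        (algebraMap A (integralClosure A (FractionRing A))))) := by
    intro H
    rw [universallyInjective_specMap_iff]
    intro Ω _ ψ₁ ψ₂ h12
    haveI hprime : (RingHom.ker (ψ₁.comp
        (algebraMap A (integralClosure A (FractionRing A))))).IsPrime := RingHom.ker_isPrime _
    obtain ⟨hloc, hlh, hpi⟩ := isLocalRing_Tp_of_gu A _ (H (RingHom.ker (ψ₁.comp
        (algebraMap A (integralClosure A (FractionRing A))))))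
    exact fieldPoint_eq A _ Ω ψ₁ ψ₂ h12 rfl
  refine ⟨⟨fun hUI p _ => ?_, hback⟩, fun H => ?_⟩
  · haveI := hUI
    have hinj := comap_injective_of_universallyInjective
      (algebraMap A (integralClosure A (FractionRing A)))
    haveI hloc : IsLocalRing (Tp A p) := isLocalRing_Tp_of_injective A p hinj
    haveI hlh := isLocalHom_of_isLocalRing A p
    haveI hpi := isPurelyInseparable_of_fieldInj A p
      ((universallyInjective_specMap_iff _).mp hUI)
    exact gu_of_isLocalRing_Tp A p
  · haveI := hback H
    exact isHomeomorph_comap_of_injective A (comap_injective_of_universallyInjective _)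

end Main

end Groth.Agent.H66.NormUI
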