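import Mathlib
import Groth.Agent.H79.Admissible

/-!
# Triangular bases of the cotangent space for p-group actions in characteristic p
-/

namespace Groth.Agent.H66.PGroupFlag

universe u v

section FV

variable {A : Type u} [CommRing A] {G : Type v} [Group G] [MulSemiringAction G A]

/-- the action on the additive quotient by a stable additive subgroup -/
@[reducible] def quotAction (I : AddSubgroup A) (hI : ∀ (σ : G) (a : A), a ∈ I → σ • a ∈ I) :
    MulAction G (A ⧸ I) where
  smul σ := QuotientAddGroup.map I I (DistribMulAction.toAddMonoidHom A σ) (fun a ha => hI σ a ha)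
  one_smul x := by
    induction x using QuotientAddGroup.induction_on with
    | H a =>
      change QuotientAddGroup.map I I (DistribMulAction.toAddMonoidHom A (1 : G)) _
        (QuotientAddGroup.mk a) = _
      rw [QuotientAddGroup.map_mk]
      simp
  mul_smul σ τ x := by
    induction x using QuotientAddGroup.induction_on with
    | H a =>
      change QuotientAddGroup.map I I (DistribMulAction.toAddMonoidHom A (σ * τ)) _
        (QuotientAddGroup.mk a) =
        QuotientAddGroup.map I I (DistribMulAction.toAddMonoidHom A σ) _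
          (QuotientAddGroup.map I I (DistribMulAction.toAddMonoidHom A τ) _
            (QuotientAddGroup.mk a))
      rw [QuotientAddGroup.map_mk, QuotientAddGroup.map_mk, QuotientAddGroup.map_mk]
      simp [mul_smul]

variable [Finite G] (p : ℕ) [Fact p.Prime] [CharP A p]

include p in
/-- Fixed vector lemma: a `p`-group acting on a ring of characteristic `p` and stabilising an
additive subgroup `I` fixes, modulo `I`, some element outside `I` in the additive span of
the orbit of any given `v ∉ I`. -/
theorem exists_fixed_mod (hG : IsPGroup p G) (I : AddSubgroup A)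
    (hI : ∀ (σ : G) (a : A), a ∈ I → σ • a ∈ I) (v : A) (hv : v ∉ I) :
    ∃ w ∈ AddSubgroup.closure (Set.range fun σ : G => σ • v), w ∉ I ∧ ∀ σ : G, σ • w - w ∈ I := by
  classical
  letI := quotAction I hI
  have hsmul : ∀ (σ : G) (a : A), σ • (QuotientAddGroup.mk a : A ⧸ I) =
      QuotientAddGroup.mk (σ • a) := fun σ a => rfl
  have hadd : ∀ (σ : G) (x y : A ⧸ I), σ • (x + y) = σ • x + σ • y := by
    intro σ x y
    exact map_add (QuotientAddGroup.map I I (DistribMulAction.toAddMonoidHom A σ)
      (fun a ha => hI σ a ha)) x y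
  have hneg : ∀ (σ : G) (x : A ⧸ I), σ • (-x) = -(σ • x) := by
    intro σ x
    exact map_neg (QuotientAddGroup.map I I (DistribMulAction.toAddMonoidHom A σ)
      (fun a ha => hI σ a ha)) x
  have hzero : ∀ (σ : G), σ • (0 : A ⧸ I) = 0 := by
    intro σ
    exact map_zero (QuotientAddGroup.map I I (DistribMulAction.toAddMonoidHom A σ)
      (fun a ha => hI σ a ha))
  let S : Set (A ⧸ I) := Set.range fun σ : G => (QuotientAddGroup.mk (σ • v) : A ⧸ I)
  let H : AddSubgroup (A ⧸ I) := AddSubgroup.closure S
  have hstab : ∀ (σ : G) (x : A ⧸ I), x ∈ H → σ • x ∈ H := by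
    intro σ x hx
    induction hx using AddSubgroup.closure_induction with
    | mem y hy =>
      obtain ⟨τ, rfl⟩ := hy
      rw [hsmul, ← mul_smul]
      exact AddSubgroup.subset_closure ⟨σ * τ, rfl⟩
    | zero => rw [hzero]; exact H.zero_mem
    | add y z _ _ hy hz => rw [hadd]; exact H.add_mem hy hz
    | neg y _ hy => rw [hneg]; exact H.neg_mem hy
  let T : SubMulAction G (A ⧸ I) := { carrier := H, smul_mem' := fun σ x hx => hstab σ x hx }
  have hfinS : Finite S := Set.finite_range _
  haveI : AddGroup.FG H := AddGroup.closure_finite_fg S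
  have hpA : ∀ x : A ⧸ I, p • x = 0 := by
    intro x
    induction x using QuotientAddGroup.induction_on with
    | H a =>
      rw [← QuotientAddGroup.mk_nsmul, nsmul_eq_mul, CharP.cast_eq_zero, zero_mul]
      rfl
  have htors : AddMonoid.IsTorsion H := by
    intro x
    rw [isOfFinAddOrder_iff_nsmul_eq_zero]
    exact ⟨p, (Fact.out : p.Prime).pos, Subtype.ext (by simpa using hpA x)⟩
  haveI : Finite H := AddCommGroup.finite_of_fg_isAddTorsion H htors
  haveI : Finite T := (inferInstance : Finite H)
  have hv0 : (QuotientAddGroup.mk v : A ⧸ I) ≠ 0 := by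
    intro h
    exact hv ((QuotientAddGroup.eq_zero_iff v).mp h)
  have hvH : (QuotientAddGroup.mk v : A ⧸ I) ∈ H :=
    AddSubgroup.subset_closure ⟨1, by simp⟩
  have hcard : p ∣ Nat.card T := by
    have h1 : addOrderOf (⟨_, hvH⟩ : H) = p := by
      have hdvd : addOrderOf (⟨_, hvH⟩ : H) ∣ p := by
        apply addOrderOf_dvd_of_nsmul_eq_zero
        exact Subtype.ext (by simpa using hpA _)
      rcases (Nat.dvd_prime (Fact.out : p.Prime)).mp hdvd with h | h
      · rw [AddMonoid.addOrderOf_eq_one_iff] at h
        exact absurd (congrArg Subtype.val h) hv0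
      · exact h
    have h2 : addOrderOf (⟨_, hvH⟩ : H) ∣ Nat.card H := addOrderOf_dvd_natCard _
    rw [h1] at h2
    exact h2
  have hfix0 : (⟨0, H.zero_mem⟩ : T) ∈ MulAction.fixedPoints G T := by
    intro σ
    exact Subtype.ext (hzero σ)
  obtain ⟨b, hb, hb0⟩ := hG.exists_fixed_point_of_prime_dvd_card_of_fixed_point (α := T) hcard hfix0
  -- lift `b`
  have hbH : (b : A ⧸ I) ∈ H := b.2
  have hlift : ∀ x : A ⧸ I, x ∈ H → ∃ w ∈ AddSubgroup.closure (Set.range fun σ : G => σ • v),
      (QuotientAddGroup.mk w : A ⧸ I) = x := by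
    intro x hx
    induction hx using AddSubgroup.closure_induction with
    | mem y hy =>
      obtain ⟨τ, rfl⟩ := hy
      exact ⟨τ • v, AddSubgroup.subset_closure ⟨τ, rfl⟩, rfl⟩
    | zero => exact ⟨0, AddSubgroup.zero_mem _, rfl⟩
    | add y z _ _ hy hz =>
      obtain ⟨w1, hw1, rfl⟩ := hy
      obtain ⟨w2, hw2, rfl⟩ := hz
      exact ⟨w1 + w2, AddSubgroup.add_mem _ hw1 hw2, rfl⟩
    | neg y _ hy =>
      obtain ⟨w1, hw1, rfl⟩ := hy
      exact ⟨-w1, AddSubgroup.neg_mem _ hw1, rfl⟩
  obtain ⟨w, hw, hwb⟩ := hlift _ hbH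
  refine ⟨w, hw, ?_, ?_⟩
  · intro hwI
    apply hb0
    apply Subtype.ext
    rw [← hwb]
    exact ((QuotientAddGroup.eq_zero_iff w).mpr hwI).symm
  · intro σ
    have h1 : σ • b = b := hb σ
    have h2 : σ • (b : A ⧸ I) = b := congrArg Subtype.val h1
    rw [← hwb, hsmul] at h2
    rw [← QuotientAddGroup.eq_zero_iff, QuotientAddGroup.mk_sub, h2, sub_self]

end FV

section main

open IsLocalRing

variable {A : Type u} [CommRing A] [IsRegularLocalRing A]

/-- translation lemma between the cotangent space and ideals containing `m ^ 2` -/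
theorem mem_of_toCotangent_mem_span {j : ℕ} (u : Fin j → maximalIdeal A) (w : maximalIdeal A)
    (h : (maximalIdeal A).toCotangent w ∈ Submodule.span (ResidueField A)
      (Set.range fun i => (maximalIdeal A).toCotangent (u i))) :
    (w : A) ∈ Ideal.span (Set.range fun i => (u i : A)) ⊔ maximalIdeal A ^ 2 := by
  obtain ⟨c, hc⟩ := (Submodule.mem_span_range_iff_exists_fun _).mp h
  choose a ha using fun i => IsLocalRing.residue_surjective (c i)
  have h1 : (maximalIdeal A).toCotangent (w - ∑ i, a i • u i) = 0 := by
    rw [map_sub, map_sum, ← hc, sub_eq_zero]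
    refine Finset.sum_congr rfl fun i _ => ?_
    rw [map_smul, ← ha i]
    exact (algebraMap_smul (ResidueField A) (a i) ((maximalIdeal A).toCotangent (u i))).symm
  rw [Ideal.toCotangent_eq_zero] at h1
  have h2 : (w : A) = ∑ i, a i * (u i : A) + ((w - ∑ i, a i • u i : maximalIdeal A) : A) := by
    simp
  rw [h2]
  refine Submodule.add_mem_sup ?_ h1
  exact Ideal.sum_mem _ fun i _ => Ideal.mul_mem_left _ _ (Ideal.subset_span ⟨i, rfl⟩)

variable {G : Type v} [Group G] [Finite G] [MulSemiringAction G A]
  (p : ℕ) [Fact p.Prime] [CharP A p]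

include p in
theorem exists_chain (hG : IsPGroup p G)
    (hres : ∀ (σ : G) (a : A), σ • a - a ∈ maximalIdeal A)
    (n : ℕ) (hn : ringKrullDim A = n) (j : ℕ) (hj : j ≤ n) :
    ∃ u : Fin j → maximalIdeal A,
      LinearIndependent (ResidueField A) (fun i => (maximalIdeal A).toCotangent (u i)) ∧
      ∀ (σ : G) (i : Fin j), σ • (u i : A) - u i ∈
        Ideal.span ((fun l => (u l : A)) '' {l | l < i}) ⊔ maximalIdeal A ^ 2 := by
  classical
  induction j with
  | zero =>
    exact ⟨Fin.elim0, linearIndependent_empty_type, fun σ i => i.elim0⟩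
  | succ j ih =>
    obtain ⟨u, hli, htri⟩ := ih (Nat.le_of_succ_le hj)
    set I : Ideal A := Ideal.span (Set.range fun i => (u i : A)) ⊔ maximalIdeal A ^ 2 with hIdef
    -- `I` is stable
    have hIstab : ∀ (σ : G) (a : A), a ∈ I → σ • a ∈ I := by
      intro σ a ha
      have hmap : Ideal.map (MulSemiringAction.toRingHom G A σ) I ≤ I := by
        rw [hIdef, Ideal.map_sup]
        refine sup_le ?_ ((Groth.Agent.H79.map_max_sq_le hres σ).trans le_sup_right)
        rw [Ideal.map_span, Ideal.span_le]
        rintro _ ⟨_, ⟨i, rfl⟩, rfl⟩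
        have h := htri σ i
        have hmono : Ideal.span ((fun l => (u l : A)) '' {l | l < i}) ≤
            Ideal.span (Set.range fun i => (u i : A)) :=
          Ideal.span_mono (Set.image_subset_range _ _)
        have h' : σ • (u i : A) - u i ∈ I := sup_le_sup_right hmono _ h
        have hui : (u i : A) ∈ I := Ideal.mem_sup_left (Ideal.subset_span ⟨i, rfl⟩)
        have : σ • (u i : A) = (σ • (u i : A) - u i) + u i := by ring
        change σ • (u i : A) ∈ I
        rw [this]
        exact I.add_mem h' hui
      exact hmap (Ideal.mem_map_of_mem _ ha)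
    -- `I` is not all of `m`
    have hIlt : ∃ v ∈ maximalIdeal A, v ∉ I := by
      by_contra hcon
      push Not at hcon
      have hle : maximalIdeal A ≤ Ideal.span (Set.range fun i => (u i : A)) :=
        Groth.Agent.H79.max_le_of_le_sup_sq _ hcon
      have hge : Ideal.span (Set.range fun i => (u i : A)) ≤ maximalIdeal A := by
        rw [Ideal.span_le]
        rintro _ ⟨i, rfl⟩
        exact (u i).2
      have heq : maximalIdeal A = Ideal.span (Set.range fun i => (u i : A)) := le_antisymm hle hge
      have h1 : (maximalIdeal A).spanFinrank ≤ (Set.range fun i => (u i : A)).ncard := by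
        conv_lhs => rw [heq]
        exact Submodule.spanFinrank_span_le_ncard_of_finite (Set.finite_range _)
      have h2 : (Set.range fun i => (u i : A)).ncard ≤ j := by
        have := Set.ncard_image_le (f := fun i => (u i : A)) (s := Set.univ) Set.finite_univ
        rw [Set.image_univ] at this
        refine this.trans ?_
        rw [Set.ncard_univ, Nat.card_eq_fintype_card, Fintype.card_fin]
      have h3 : ((maximalIdeal A).spanFinrank : WithBot ℕ∞) = n := by
        rw [IsRegularLocalRing.spanFinrank_maximalIdeal, hn]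
      have h4 : (maximalIdeal A).spanFinrank = n := by exact_mod_cast h3
      omega
    obtain ⟨v, hvm, hvI⟩ := hIlt
    obtain ⟨w, hwcl, hwI, hwfix⟩ := exists_fixed_mod p hG I.toAddSubgroup hIstab v hvI
    have hwm : w ∈ maximalIdeal A := by
      have hle : AddSubgroup.closure (Set.range fun σ : G => σ • v) ≤
          (maximalIdeal A).toAddSubgroup := by
        rw [AddSubgroup.closure_le]
        rintro _ ⟨σ, rfl⟩
        exact Groth.Agent.H79.map_max_le hres σ (Ideal.mem_map_of_mem _ hvm)
      exact hle hwcl
    refine ⟨Fin.snoc u ⟨w, hwm⟩, ?_, ?_⟩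
    · have hfun : (fun i : Fin (j + 1) => (maximalIdeal A).toCotangent
          ((Fin.snoc u ⟨w, hwm⟩ : Fin (j + 1) → maximalIdeal A) i)) =
          Fin.snoc (fun i : Fin j => (maximalIdeal A).toCotangent (u i))
            ((maximalIdeal A).toCotangent ⟨w, hwm⟩) := by
        funext i
        refine Fin.lastCases ?_ (fun i => ?_) i
        · simp
        · simp
      rw [hfun, linearIndependent_finSnoc]
      refine ⟨hli, fun hmem => hwI ?_⟩
      exact mem_of_toCotangent_mem_span u ⟨w, hwm⟩ hmem
    · intro σ i
      refine Fin.lastCases ?_ (fun i => ?_) i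
      · have hsub : (Set.range fun i => (u i : A)) ⊆
            (fun l => ((Fin.snoc u ⟨w, hwm⟩ : Fin (j + 1) → maximalIdeal A) l : A)) ''
              {l | l < Fin.last j} := by
          rintro _ ⟨l, rfl⟩
          exact ⟨Fin.castSucc l, Fin.castSucc_lt_last l, by simp⟩
        have h := hwfix σ
        simp only [Fin.snoc_last]
        exact sup_le_sup_right (Ideal.span_mono hsub) _ h
      · have hsub : ((fun l => (u l : A)) '' {l | l < i}) ⊆
            (fun l => ((Fin.snoc u ⟨w, hwm⟩ : Fin (j + 1) → maximalIdeal A) l : A)) ''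
              {l | l < Fin.castSucc i} := by
          rintro _ ⟨l, hl, rfl⟩
          exact ⟨Fin.castSucc l, Fin.castSucc_lt_castSucc_iff.mpr hl, by simp⟩
        have h := htri σ i
        simp only [Fin.snoc_castSucc]
        exact sup_le_sup_right (Ideal.span_mono hsub) _ h

include p in
theorem main (hG : IsPGroup p G)
    (hres : ∀ (σ : G) (a : A), σ • a - a ∈ maximalIdeal A)
    (n : ℕ) (hn : ringKrullDim A = n) :
    ∃ u : Fin n → A, ∀ τ : Fin n → G,
      Ideal.span (Set.range fun i => τ i • u i) = maximalIdeal A := by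
  classical
  obtain ⟨u, hli, htri⟩ := exists_chain p hG hres n hn n le_rfl
  have hfr : Module.finrank (ResidueField A) (CotangentSpace A) = n := by
    have h := (IsRegularLocalRing.iff_finrank_cotangentSpace A).mp inferInstance
    rw [hn] at h
    exact_mod_cast h
  have hspan : Submodule.span (ResidueField A)
      (Set.range fun i => (maximalIdeal A).toCotangent (u i)) = ⊤ :=
    hli.span_eq_top_of_card_eq_finrank' (by rw [Fintype.card_fin, hfr])
  have hspan' : Submodule.span A (Set.range u) = ⊤ := by
    rw [← CotangentSpace.span_image_eq_top_iff, ← Set.range_comp]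
    exact hspan
  have hu : Ideal.span (Set.range fun i => (u i : A)) = maximalIdeal A := by
    have h1 := congrArg (Submodule.map (Submodule.subtype (maximalIdeal A))) hspan'
    rw [Submodule.map_span, Submodule.map_top, Submodule.range_subtype, ← Set.range_comp] at h1
    exact h1
  refine ⟨fun i => (u i : A), fun τ => ?_⟩
  refine Groth.Agent.H79.admissible hres n hn (fun i => (u i : A)) hu ?_ τ
  intro σ i
  have h := htri σ i
  have hmono : Ideal.span ((fun l => (u l : A)) '' {l | l < i}) ≤
      Ideal.span ((fun l => (u l : A)) '' {l | l ≤ i}) :=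
    Ideal.span_mono (Set.image_mono fun l (hl : l < i) => le_of_lt hl)
  have h' := sup_le_sup_right hmono (maximalIdeal A ^ 2) h
  have hui : (u i : A) ∈ Ideal.span ((fun l => (u l : A)) '' {l | l ≤ i}) ⊔ maximalIdeal A ^ 2 :=
    Ideal.mem_sup_left (Ideal.subset_span ⟨i, (le_refl i : i ≤ i), rfl⟩)
  have : σ • (u i : A) = (σ • (u i : A) - u i) + u i := by ring
  rw [this]
  exact Ideal.add_mem _ h' hui

end main

end Groth.Agent.H66.PGroupFlag
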