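import Mathlib.RingTheory.Localization.AtPrime.Basic
import Mathlib.RingTheory.Localization.Integral
import Mathlib.RingTheory.IntegralClosure.IntegrallyClosed
import Mathlib.RingTheory.Valuation.ValuationRing
import Mathlib.RingTheory.Polynomial.ScaleRoots

set_option autoImplicit false
universe u

namespace Groth.Agent.H66

open Polynomial

section

variable {ι : Type u} {R : ι → Type u} [∀ i, CommRing (R i)]

/-- The indicator idempotent of the zero set of `z`. -/
noncomputable def zeroInd (z : ∀ i, R i) : ∀ i, R i := fun i =>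
  haveI := Classical.propDecidable (z i = 0)
  if z i = 0 then 1 else 0

theorem zeroInd_apply_of_eq (z : ∀ i, R i) (i : ι) (h : z i = 0) : zeroInd z i = 1 := by
  unfold zeroInd; rw [if_pos h]

theorem zeroInd_apply_of_ne (z : ∀ i, R i) (i : ι) (h : z i ≠ 0) : zeroInd z i = 0 := by
  unfold zeroInd; rw [if_neg h]

theorem mul_zeroInd (z : ∀ i, R i) : z * zeroInd z = 0 := by
  funext i
  by_cases h : z i = 0
  · simp [h]
  · simp [zeroInd_apply_of_ne z i h]

theorem mul_one_sub_zeroInd (z : ∀ i, R i) : z * (1 - zeroInd z) = z := by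
  rw [mul_sub, mul_one, mul_zeroInd, sub_zero]

variable (P : Ideal (∀ i, R i)) [P.IsPrime]

theorem one_sub_zeroInd_notMem {z : ∀ i, R i} (hz : z ∉ P) : 1 - zeroInd z ∉ P := by
  intro h
  apply hz
  rw [← mul_one_sub_zeroInd z]
  exact P.mul_mem_left _ h

theorem zeroInd_mem_or (z : ∀ i, R i) : zeroInd z ∉ P ∨ 1 - zeroInd z ∉ P := by
  by_contra h
  push Not at h
  have : (1 : ∀ i, R i) ∈ P := by
    have := P.add_mem h.1 h.2
    rwa [add_sub_cancel] at this
  exact (Ideal.ne_top_iff_one P).1 (Ideal.IsPrime.ne_top ‹_›) this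

theorem algebraMap_eq_of_mul_eq {e x y : ∀ i, R i} (he : e ∉ P) (h : e * x = e * y) :
    algebraMap (∀ i, R i) (Localization.AtPrime P) x =
      algebraMap (∀ i, R i) (Localization.AtPrime P) y :=
  (IsLocalization.eq_iff_exists P.primeCompl (Localization.AtPrime P)).2 ⟨⟨e, he⟩, h⟩

theorem zeroInd_notMem_of_algebraMap_eq_zero [∀ i, IsDomain (R i)] {z : ∀ i, R i}
    (h : algebraMap (∀ i, R i) (Localization.AtPrime P) z = 0) : zeroInd z ∉ P := by
  obtain ⟨⟨u, hu⟩, huz⟩ := (IsLocalization.map_eq_zero_iff P.primeCompl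
    (Localization.AtPrime P) z).1 h
  have key : (1 - zeroInd u) * zeroInd z = 1 - zeroInd u := by
    funext i
    by_cases hui : u i = 0
    · simp [zeroInd_apply_of_eq u i hui]
    · have hzi : z i = 0 := by
        have := congrFun huz i
        simp only [Pi.mul_apply, Pi.zero_apply] at this
        exact (mul_eq_zero.1 this).resolve_left hui
      simp [zeroInd_apply_of_eq z i hzi]
  intro hmem
  exact one_sub_zeroInd_notMem P hu (key ▸ P.mul_mem_left _ hmem)

theorem algebraMap_eq_zero_of_zeroInd_notMem {z : ∀ i, R i} (h : zeroInd z ∉ P) :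
    algebraMap (∀ i, R i) (Localization.AtPrime P) z = 0 := by
  rw [← map_zero (algebraMap (∀ i, R i) (Localization.AtPrime P))]
  apply algebraMap_eq_of_mul_eq P h
  rw [mul_zero, mul_comm, mul_zeroInd]

theorem zeroInd_mul [∀ i, IsDomain (R i)] (x y : ∀ i, R i) :
    zeroInd (x * y) = zeroInd x + zeroInd y - zeroInd x * zeroInd y := by
  funext i
  by_cases hx : x i = 0
  · have hxy : (x * y) i = 0 := by simp [hx]
    simp [zeroInd_apply_of_eq x i hx, zeroInd_apply_of_eq (x * y) i hxy]
  · by_cases hy : y i = 0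
    · have hxy : (x * y) i = 0 := by simp [hy]
      simp [zeroInd_apply_of_eq y i hy, zeroInd_apply_of_eq (x * y) i hxy]
    · have hxy : (x * y) i ≠ 0 := by simp [hx, hy]
      simp [zeroInd_apply_of_ne x i hx, zeroInd_apply_of_ne y i hy,
        zeroInd_apply_of_ne (x * y) i hxy]

instance isDomain_localization_pi [∀ i, IsDomain (R i)] : IsDomain (Localization.AtPrime P) := by
  haveI : NoZeroDivisors (Localization.AtPrime P) := by
    refine ⟨fun {a b} hab => ?_⟩
    obtain ⟨x, s, rfl⟩ := IsLocalization.exists_mk'_eq P.primeCompl a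
    obtain ⟨y, t, rfl⟩ := IsLocalization.exists_mk'_eq P.primeCompl b
    have hmk : ∀ (w : ∀ i, R i) (r : P.primeCompl),
        IsLocalization.mk' (Localization.AtPrime P) w r = 0 ↔
          algebraMap (∀ i, R i) (Localization.AtPrime P) w = 0 := fun w r => by
      rw [IsLocalization.mk'_eq_zero_iff, IsLocalization.map_eq_zero_iff P.primeCompl]
    rw [← IsLocalization.mk'_mul, hmk] at hab
    rw [hmk, hmk]
    have h1 := zeroInd_notMem_of_algebraMap_eq_zero P hab
    rw [zeroInd_mul] at h1
    by_contra hcon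
    push Not at hcon
    have hx : zeroInd x ∈ P := by
      by_contra hx
      exact hcon.1 (algebraMap_eq_zero_of_zeroInd_notMem P hx)
    have hy : zeroInd y ∈ P := by
      by_contra hy
      exact hcon.2 (algebraMap_eq_zero_of_zeroInd_notMem P hy)
    exact h1 (P.sub_mem (P.add_mem hx hy) (P.mul_mem_left _ hy))
  exact NoZeroDivisors.to_isDomain _

theorem preValuationRing_localization_pi [∀ i, IsDomain (R i)] [∀ i, ValuationRing (R i)] :
    PreValuationRing (Localization.AtPrime P) := by
  classical
  refine ⟨fun a b => ?_⟩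
  obtain ⟨x, s, rfl⟩ := IsLocalization.exists_mk'_eq P.primeCompl a
  obtain ⟨y, t, rfl⟩ := IsLocalization.exists_mk'_eq P.primeCompl b
  let e : ∀ i, R i := fun i => if x i ∣ y i then 1 else 0
  have hor : e ∉ P ∨ 1 - e ∉ P := by
    by_contra h
    push Not at h
    have : (1 : ∀ i, R i) ∈ P := by
      have := P.add_mem h.1 h.2
      rwa [add_sub_cancel] at this
    exact (Ideal.ne_top_iff_one P).1 (Ideal.IsPrime.ne_top ‹_›) this
  rcases hor with he | he
  · have hz : ∀ i, ∃ z : R i, x i ∣ y i → y i = x i * z := fun i => by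
      by_cases h : x i ∣ y i
      · obtain ⟨z, hz⟩ := h
        exact ⟨z, fun _ => hz⟩
      · exact ⟨0, fun h' => absurd h' h⟩
    choose z hz using hz
    have hmul : e * y = e * (x * z) := by
      funext i
      by_cases h : x i ∣ y i
      · simp only [Pi.mul_apply]; rw [← hz i h]
      · simp [e, h]
    have hS := algebraMap_eq_of_mul_eq P he hmul
    refine ⟨IsLocalization.mk' _ (z * s) t, Or.inl ?_⟩
    rw [← IsLocalization.mk'_mul, IsLocalization.mk'_eq_iff_eq]
    simp only [map_mul, Submonoid.coe_mul] at hS ⊢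
    rw [hS]
    ring
  · have hz : ∀ i, ∃ z : R i, ¬ x i ∣ y i → x i = y i * z := fun i => by
      by_cases h : x i ∣ y i
      · exact ⟨0, fun h' => absurd h h'⟩
      · obtain ⟨z, hz⟩ := (ValuationRing.dvd_total (x i) (y i)).resolve_left h
        exact ⟨z, fun _ => hz⟩
    choose z hz using hz
    have hmul : (1 - e) * x = (1 - e) * (y * z) := by
      funext i
      by_cases h : x i ∣ y i
      · simp [e, h]
      · simp only [Pi.mul_apply]; rw [← hz i h]
    have hS := algebraMap_eq_of_mul_eq P he hmul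
    refine ⟨IsLocalization.mk' _ (z * t) s, Or.inr ?_⟩
    rw [← IsLocalization.mk'_mul, IsLocalization.mk'_eq_iff_eq]
    simp only [map_mul, Submonoid.coe_mul] at hS ⊢
    rw [hS]
    ring

theorem dvd_of_eval_scaleRoots_eq_zero {A : Type u} [CommRing A] [IsDomain A]
    [IsIntegrallyClosed A] (q : A[X]) (hq : q.Monic) (x y : A) (hy : y ≠ 0)
    (h : eval x (scaleRoots q y) = 0) : y ∣ x := by
  let g := algebraMap A (FractionRing A)
  have hgy : g y ≠ 0 := by
    intro h0
    exact hy ((IsFractionRing.injective A (FractionRing A)) (by rw [h0, map_zero]))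
  set γ : FractionRing A := g x / g y with hγ
  have h1 : g y * γ = g x := by rw [hγ]; field_simp
  have h2 := scaleRoots_eval₂_mul (p := q) g γ y
  rw [h1, eval₂_at_apply, h, map_zero] at h2
  have h3 : eval₂ g γ q = 0 := by
    rcases mul_eq_zero.1 h2.symm with h4 | h4
    · exact absurd (eq_zero_of_pow_eq_zero h4) hgy
    · exact h4
  have hint : IsIntegral A γ := ⟨q, hq, h3⟩
  obtain ⟨z, hz⟩ := (isIntegrallyClosed_iff (FractionRing A)).1 ‹_› hint
  refine ⟨z, ?_⟩
  apply IsFractionRing.injective A (FractionRing A)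
  rw [map_mul, hz]
  exact h1.symm

theorem isIntegrallyClosed_localization_pi [∀ i, IsDomain (R i)]
    [∀ i, IsIntegrallyClosed (R i)] : IsIntegrallyClosed (Localization.AtPrime P) := by
  classical
  rw [isIntegrallyClosed_iff (FractionRing (Localization.AtPrime P))]
  intro α hα
  obtain ⟨⟨m, hm⟩, hmα⟩ :=
    IsIntegral.exists_multiple_integral_of_isLocalization P.primeCompl α hα
  let f : (∀ i, R i) →+* FractionRing (Localization.AtPrime P) :=
    algebraMap (∀ i, R i) (FractionRing (Localization.AtPrime P))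
  have hf : ∀ r, f r = algebraMap (Localization.AtPrime P) _
      (algebraMap (∀ i, R i) (Localization.AtPrime P) r) := fun r =>
    IsScalarTower.algebraMap_apply _ _ _ r
  have hinj := IsFractionRing.injective (Localization.AtPrime P)
    (FractionRing (Localization.AtPrime P))
  set β : FractionRing (Localization.AtPrime P) := (⟨m, hm⟩ : P.primeCompl) • α with hβ
  have hβ' : β = f m * α := by
    rw [hβ, Submonoid.smul_def, Algebra.smul_def]
  -- write β as a fraction of elements of the product ring
  obtain ⟨a, b, hb, hab⟩ := IsFractionRing.div_surjective (Localization.AtPrime P) β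
  obtain ⟨x, s, rfl⟩ := IsLocalization.exists_mk'_eq P.primeCompl a
  obtain ⟨y, t, rfl⟩ := IsLocalization.exists_mk'_eq P.primeCompl b
  have hb0 : algebraMap (Localization.AtPrime P) (FractionRing (Localization.AtPrime P))
      (IsLocalization.mk' (Localization.AtPrime P) y t) ≠ 0 := by
    intro h0
    exact nonZeroDivisors.ne_zero hb (hinj (by rw [h0, map_zero]))
  set x' := x * t with hx'
  set y' := y * s with hy'
  have hfs : ∀ r : P.primeCompl, f r ≠ 0 := by
    intro r h0
    rw [hf] at h0
    have h1 := hinj (h0.trans (map_zero _).symm)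
    exact (IsLocalization.map_units (Localization.AtPrime P) r).ne_zero h1
  have hxy : β * f y' = f x' := by
    have e1 : f x = algebraMap _ _ (IsLocalization.mk' (Localization.AtPrime P) x s) * f s := by
      rw [hf, hf, ← map_mul, IsLocalization.mk'_spec]
    have e2 : f y = algebraMap _ _ (IsLocalization.mk' (Localization.AtPrime P) y t) * f t := by
      rw [hf, hf, ← map_mul, IsLocalization.mk'_spec]
    rw [hx', hy', map_mul, map_mul, e1, e2, ← hab]
    field_simp
  have hfy' : f y' ≠ 0 := by
    rw [hy', map_mul]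
    refine mul_ne_zero ?_ (hfs s)
    intro h0
    have e2 : f y = algebraMap _ _ (IsLocalization.mk' (Localization.AtPrime P) y t) * f t := by
      rw [hf, hf, ← map_mul, IsLocalization.mk'_spec]
    rw [e2] at h0
    exact (mul_ne_zero hb0 (hfs t)) h0
  obtain ⟨p, hp, hpβ⟩ := hmα
  change eval₂ f β p = 0 at hpβ
  set w := eval x' (scaleRoots p y') with hw
  have hfw : f w = 0 := by
    have h2 := scaleRoots_eval₂_mul (p := p) f β y'
    rw [mul_comm, hxy, eval₂_at_apply, hpβ, mul_zero] at h2
    exact h2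
  have hw0 : algebraMap (∀ i, R i) (Localization.AtPrime P) w = 0 := by
    apply hinj
    rw [← hf, hfw, map_zero]
  have hwP : zeroInd w ∉ P := zeroInd_notMem_of_algebraMap_eq_zero P hw0
  have hyP : 1 - zeroInd y' ∉ P := by
    refine (zeroInd_mem_or P y').resolve_left ?_
    intro hcon
    apply hfy'
    rw [hf, algebraMap_eq_zero_of_zeroInd_notMem P hcon, map_zero]
  have hdvd : ∀ i, w i = 0 → y' i ≠ 0 → y' i ∣ x' i := by
    intro i hwi hyi
    have hlc : (Pi.evalRingHom R i) p.leadingCoeff ≠ 0 := by
      rw [hp.leadingCoeff, map_one]; exact one_ne_zero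
    apply dvd_of_eval_scaleRoots_eq_zero (p.map (Pi.evalRingHom R i)) (hp.map _) _ _ hyi
    have h3 := map_scaleRoots p y' (Pi.evalRingHom R i) hlc
    have h4 : eval (x' i) ((p.scaleRoots y').map (Pi.evalRingHom R i)) = w i := by
      rw [eval_map]
      exact eval₂_at_apply (Pi.evalRingHom R i) x'
    rw [h3] at h4
    rw [Pi.evalRingHom_apply] at h4
    rw [h4, hwi]
  have hz : ∀ i, ∃ z : R i, w i = 0 → y' i ≠ 0 → x' i = y' i * z := fun i => by
    by_cases h : w i = 0 ∧ y' i ≠ 0
    · obtain ⟨z, hz⟩ := hdvd i h.1 h.2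
      exact ⟨z, fun _ _ => hz⟩
    · exact ⟨0, fun h1 h2 => absurd ⟨h1, h2⟩ h⟩
  choose z hz using hz
  have heP : zeroInd w * (1 - zeroInd y') ∉ P := fun h =>
    (Ideal.IsPrime.mem_or_mem ‹_› h).elim hwP hyP
  have hmul : (zeroInd w * (1 - zeroInd y')) * x' = (zeroInd w * (1 - zeroInd y')) * (y' * z) := by
    funext i
    by_cases h1 : w i = 0
    · by_cases h2 : y' i = 0
      · simp [zeroInd_apply_of_eq y' i h2]
      · simp only [Pi.mul_apply]
        rw [← hz i h1 h2]
    · simp [zeroInd_apply_of_ne w i h1]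
  have hS := algebraMap_eq_of_mul_eq P heP hmul
  have hK : f x' = f y' * f z := by
    rw [hf, hS, map_mul, map_mul, ← hf, ← hf]
  have hβz : β = f z := by
    have : β * f y' = f z * f y' := by rw [hxy, hK, mul_comm]
    exact mul_right_cancel₀ hfy' this
  refine ⟨IsLocalization.mk' (Localization.AtPrime P) z ⟨m, hm⟩, ?_⟩
  have hfm : f m ≠ 0 := hfs ⟨m, hm⟩
  have e3 : f z = algebraMap _ _ (IsLocalization.mk' (Localization.AtPrime P) z ⟨m, hm⟩) * f m := by
    rw [hf, hf, ← map_mul, IsLocalization.mk'_spec]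
  have : algebraMap _ _ (IsLocalization.mk' (Localization.AtPrime P) z ⟨m, hm⟩) * f m
      = α * f m := by
    rw [← e3, ← hβz, hβ', mul_comm]
  exact mul_right_cancel₀ hfm this

end

end Groth.Agent.H66
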