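import Groth.Agent.H66.GrRegSeq
import Groth.Agent.H66.StdGrIrrel
import Groth.Agent.H98.GrStar.ArtinBounded

set_option autoImplicit false
set_option linter.unusedSectionVars false
universe u

/-!
# The standard graded polynomial ring is (strongly) `0`-regular
-/

namespace Groth.Agent.H66.PolyReg

open MvPolynomial Groth.Agent.H98.GrStar Groth.Agent.H66.GrVanish Groth.Agent.H66.GrRegFree
  Groth.Agent.H66.GrRegSeq Groth.Agent.H66.StdGrIrrel

variable (k : Type u) [CommRing k] (n : ℕ)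

/-- copy of `Groth.Agent.H81.GrAB.mem_span_X_image_of_X_mul_mem` (helper81) -/
theorem mem_span_X_image_of_X_mul_mem {σ : Type*} (s : Set σ) (i : σ) (hi : i ∉ s)
    (p : MvPolynomial σ k) (h : X i * p ∈ Ideal.span (X '' s : Set (MvPolynomial σ k))) :
    p ∈ Ideal.span (X '' s : Set (MvPolynomial σ k)) := by
  rw [mem_ideal_span_X_image] at h ⊢
  intro m hm
  have hm' : Finsupp.single i 1 + m ∈ (X i * p).support := by
    rw [support_X_mul]
    exact Finset.mem_map.2 ⟨m, hm, rfl⟩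
  obtain ⟨j, hj, hne⟩ := h _ hm'
  refine ⟨j, hj, ?_⟩
  have hji : j ≠ i := fun e => hi (e ▸ hj)
  rw [Finsupp.add_apply, Finsupp.single_eq_of_ne hji, zero_add] at hne
  exact hne

/-- the ideal `(x_0, …, x_{t-1})` as a homogeneous ideal -/
noncomputable def It (t : ℕ) : HomogeneousIdeal (GrSyz.stdGr k (Fin n)) :=
  ⟨Ideal.span (X '' {j : Fin n | (j : ℕ) < t}),
    Ideal.homogeneous_span _ _ (by
      rintro _ ⟨j, -, rfl⟩
      exact ⟨1, X_mem_stdGr_one k (Fin n) j⟩)⟩

theorem It_toIdeal (t : ℕ) :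
    (It k n t).toIdeal = Ideal.span (X '' {j : Fin n | (j : ℕ) < t}) := rfl

theorem It_zero : (It k n 0).toIdeal = ⊥ := by
  rw [It_toIdeal]
  have : {j : Fin n | (j : ℕ) < 0} = ∅ := by
    ext j
    simp
  rw [this, Set.image_empty, Ideal.span_empty]

theorem It_succ (t : ℕ) (ht : t < n) :
    (It k n (t + 1)).toIdeal = (It k n t).toIdeal ⊔ Ideal.span {X (⟨t, ht⟩ : Fin n)} := by
  rw [It_toIdeal, It_toIdeal, ← Ideal.span_union]
  congr 1
  ext p
  constructor
  · rintro ⟨j, hj, rfl⟩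
    have hj' : (j : ℕ) < t + 1 := hj
    rcases Nat.lt_succ_iff_lt_or_eq.1 hj' with h | h
    · exact Or.inl ⟨j, h, rfl⟩
    · right
      have : j = ⟨t, ht⟩ := Fin.ext h
      rw [this]
      rfl
  · rintro (⟨j, hj, rfl⟩ | h)
    · exact ⟨j, Nat.lt_succ_of_lt hj, rfl⟩
    · rw [Set.mem_singleton_iff] at h
      subst h
      exact ⟨⟨t, ht⟩, Nat.lt_succ_self t, rfl⟩

theorem irrel_le_It :
    (GrSyz.irrel (GrSyz.stdGr k (Fin n))).toIdeal ≤ (It k n n).toIdeal := by
  classical
  change Ideal.span {r : MvPolynomial (Fin n) k | ∃ m : ℤ, 0 < m ∧ r ∈ GrSyz.stdGr k (Fin n) m} ≤ _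
  rw [Ideal.span_le]
  rintro r ⟨m, hm, hr⟩
  rw [GrSyz.mem_stdGr_iff] at hr
  rw [SetLike.mem_coe, ← MvPolynomial.support_sum_monomial_coeff r]
  refine Ideal.sum_mem _ (fun d hd => ?_)
  have hc : MvPolynomial.coeff d r ≠ 0 := MvPolynomial.mem_support_iff.1 hd
  have hw : Finsupp.weight (fun _ : Fin n => (1 : ℤ)) d = m := hr hc
  have hd0 : d ≠ 0 := by
    rintro rfl
    rw [map_zero] at hw
    omega
  obtain ⟨j, hj⟩ : ∃ j, d j ≠ 0 := by
    by_contra hcon
    push_neg at hcon
    exact hd0 (Finsupp.ext hcon)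
  have hsplit : d = Finsupp.single j 1 + (d - Finsupp.single j 1) := by
    ext i
    rw [Finsupp.add_apply, Finsupp.tsub_apply, Finsupp.single_apply]
    by_cases h : j = i
    · subst h
      rw [if_pos rfl]
      omega
    · rw [if_neg h]
      omega
  have hmon : ∀ c : k, MvPolynomial.monomial d c =
      MvPolynomial.X j * MvPolynomial.monomial (d - Finsupp.single j 1) c := by
    intro c
    conv_lhs => rw [hsplit]
    rw [MvPolynomial.X, MvPolynomial.monomial_mul, one_mul]
  rw [hmon, It_toIdeal]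
  exact Ideal.mul_mem_right _ _ (Ideal.subset_span ⟨j, j.2, rfl⟩)

theorem irrel_ne_top [Nontrivial k] :
    (GrSyz.irrel (GrSyz.stdGr k (Fin n))).toIdeal ≠ ⊤ := by
  intro h
  have h1 : (1 : MvPolynomial (Fin n) k) ∈ (It k n n).toIdeal := by
    apply irrel_le_It k n
    rw [h]
    trivial
  rw [It_toIdeal, mem_ideal_span_X_image] at h1
  have h2 : (0 : Fin n →₀ ℕ) ∈ (1 : MvPolynomial (Fin n) k).support := by
    rw [MvPolynomial.mem_support_iff, MvPolynomial.coeff_zero_one]
    exact one_ne_zero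
  obtain ⟨j, -, hj⟩ := h1 0 h2
  exact hj rfl

variable [IsNoetherianRing k]

/-- **the polynomial ring is strongly `0`-regular** -/
theorem strongReg_poly :
    StrongReg (GrSyz.irrel (GrSyz.stdGr k (Fin n))) (selfG (GrSyz.stdGr k (Fin n))) 0 := by
  have hpos : ∀ m : ℤ, m < 0 → ∀ p ∈ GrSyz.stdGr k (Fin n) m, p = 0 :=
    fun m hm p hp => stdGr_neg k (Fin n) m hm p hp
  have ha := irrel_toIdeal (GrSyz.stdGr k (Fin n))
  have hhom := irrel_stdGr_toIdeal k (Fin n)
  have key : ∀ s t : ℕ, t + s = n →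
      StrongReg (GrSyz.irrel (GrSyz.stdGr k (Fin n))) (quotIdealGMod _ (It k n t)) 0 := by
    intro s
    induction s with
    | zero =>
      intro t ht
      have : t = n := by omega
      subst this
      exact strongReg_quot_of_le _ ha (It k t t) (irrel_le_It k t)
    | succ s ih =>
      intro t ht
      have htn : t < n := by omega
      have hreg : ∀ p : MvPolynomial (Fin n) k,
          X (⟨t, htn⟩ : Fin n) * p ∈ (It k n t).toIdeal → p ∈ (It k n t).toIdeal := by
        intro p hp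
        rw [It_toIdeal] at hp ⊢
        have hnot : (⟨t, htn⟩ : Fin n) ∉ {j : Fin n | (j : ℕ) < t} := fun h => lt_irrefl t h
        exact mem_span_X_image_of_X_mul_mem k {j : Fin n | (j : ℕ) < t} ⟨t, htn⟩ hnot p hp
      have hsucc := ih (t + 1) (by omega)
      exact strongReg_quot_of_succ (𝒜 := GrSyz.stdGr k (Fin n))
        (GrSyz.irrel (GrSyz.stdGr k (Fin n))) hpos ha hhom (It k n t) (It k n (t + 1))
        (X (⟨t, htn⟩ : Fin n)) (X_mem_stdGr_one k (Fin n) _) (It_succ k n t htn) hreg 0 hsucc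
  exact strongReg_self_of_quot_bot _ (It k n 0) (It_zero k n) 0 (key n 0 (by omega))

end Groth.Agent.H66.PolyReg
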