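import Groth.Agent.H66.GrSyzReg
import Groth.Agent.H66.PolyReg
import Groth.Agent.H66.GrRegEnd
import Groth.Agent.S15416

set_option autoImplicit false
set_option linter.unusedSectionVars false
universe u

/-!
# `GrSyz.IsRegLE` and `GrSyz.reg` over a standard graded polynomial ring via local cohomology
-/

namespace Groth.Agent.H66.PolyRegLE

open DirectSum Groth.Agent.H98.GrStar Groth.Agent.H66.GrVanish Groth.Agent.H66.GrRegFree
  Groth.Agent.H66.GrSyzReg Groth.Agent.H66.PolyReg Groth.Agent.H66.StdGrIrrel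
  Groth.Agent.H66.GrRegEnd

/-! ### an order lemma in `WithBot (WithTop ℤ)` -/

theorem iInf_coe_of_le (s : WithBot (WithTop ℤ)) :
    (⨅ (r : ℤ) (_ : s ≤ ((r : WithTop ℤ) : WithBot (WithTop ℤ))),
      ((r : WithTop ℤ) : WithBot (WithTop ℤ))) = s := by
  apply le_antisymm
  · induction s using WithBot.recBotCoe with
    | bot =>
      -- the infimum of all integers is `⊥`
      have key : ∀ t : WithBot (WithTop ℤ),
          (∀ r : ℤ, t ≤ ((r : WithTop ℤ) : WithBot (WithTop ℤ))) → t ≤ ⊥ := by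
        intro t hle
        induction t using WithBot.recBotCoe with
        | bot => exact le_rfl
        | coe x =>
          exfalso
          induction x using WithTop.recTopCoe with
          | top =>
            have := hle 0
            rw [WithBot.coe_le_coe] at this
            exact absurd this (by simp)
          | coe m =>
            have := hle (m - 1)
            rw [WithBot.coe_le_coe, WithTop.coe_le_coe] at this
            omega
      exact key _ (fun r => iInf₂_le (f := fun (r : ℤ) (_ : (⊥ : WithBot (WithTop ℤ)) ≤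
          ((r : WithTop ℤ) : WithBot (WithTop ℤ))) => ((r : WithTop ℤ) : WithBot (WithTop ℤ))) r bot_le)
    | coe x =>
      induction x using WithTop.recTopCoe with
      | top =>
        rw [WithBot.coe_top]
        exact le_top
      | coe m =>
        exact iInf₂_le (f := fun (r : ℤ) (_ : (((m : ℤ) : WithTop ℤ) : WithBot (WithTop ℤ)) ≤
          ((r : WithTop ℤ) : WithBot (WithTop ℤ))) => ((r : WithTop ℤ) : WithBot (WithTop ℤ))) m le_rfl
  · exact le_iInf₂ (fun r h => h)

variable (k : Type u) [Field k] (r : ℕ)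
variable {M : Type u} [AddCommGroup M] [Module k M] [Module (MvPolynomial (Fin (r + 1)) k) M]
  [IsScalarTower k (MvPolynomial (Fin (r + 1)) k) M]
  [Module.Finite (MvPolynomial (Fin (r + 1)) k) M]
  (ℳ : ℤ → Submodule k M) [DirectSum.Decomposition ℳ]
  [SetLike.GradedSMul (GrSyz.stdGr k (Fin (r + 1))) ℳ]

/-- the module as a bundled graded module -/
noncomputable abbrev XM : GrLC.GMod.{u} (GrSyz.stdGr k (Fin (r + 1))) :=
  GrLC.GMod.of (GrSyz.stdGr k (Fin (r + 1))) M (asGr ℳ)

/-- **`IsRegLE` is strong regularity of the local cohomology** -/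
theorem isRegLE_iff_strongReg (d : ℤ) :
    GrSyz.IsRegLE (GrSyz.stdGr k (Fin (r + 1))) ℳ
      (GrSyz.irrel (GrSyz.stdGr k (Fin (r + 1)))).toIdeal d ↔
    StrongReg (GrSyz.irrel (GrSyz.stdGr k (Fin (r + 1)))) (XM k r ℳ) d := by
  have hS := strongReg_poly k (r + 1)
  have hhom := irrel_stdGr_toIdeal k (Fin (r + 1))
  have hne := irrel_ne_top k (r + 1)
  constructor
  · rintro ⟨F, hmin, hgen⟩
    exact (isGenLE_iff_strongReg (M := M) (ℳ := ℳ) F
      (GrSyz.irrel (GrSyz.stdGr k (Fin (r + 1)))) hhom hS hne hmin d).1 hgen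
  · intro h
    obtain ⟨F, hmin⟩ := Groth.Agent.S15416.result k r M ℳ
    exact ⟨F, hmin, (isGenLE_iff_strongReg (M := M) (ℳ := ℳ) F
      (GrSyz.irrel (GrSyz.stdGr k (Fin (r + 1)))) hhom hS hne hmin d).2 h⟩

/-- computing `reg` from a characterization of `IsRegLE` -/
theorem reg_eq_of_forall (s : WithBot (WithTop ℤ))
    (h : ∀ d : ℤ, StrongReg (GrSyz.irrel (GrSyz.stdGr k (Fin (r + 1)))) (XM k r ℳ) d ↔
      s ≤ ((d : WithTop ℤ) : WithBot (WithTop ℤ))) :
    GrSyz.reg (GrSyz.stdGr k (Fin (r + 1))) ℳ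
      (GrSyz.irrel (GrSyz.stdGr k (Fin (r + 1)))).toIdeal = s := by
  unfold GrSyz.reg
  rw [← iInf_coe_of_le s]
  refine iInf_congr (fun d => ?_)
  have h1 : GrSyz.IsRegLE (GrSyz.stdGr k (Fin (r + 1))) ℳ
      (GrSyz.irrel (GrSyz.stdGr k (Fin (r + 1)))).toIdeal d ↔
      s ≤ ((d : WithTop ℤ) : WithBot (WithTop ℤ)) :=
    (isRegLE_iff_strongReg k r ℳ d).trans (h d)
  exact iInf_congr_Prop h1 (fun _ => rfl)

end Groth.Agent.H66.PolyRegLE
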