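import Mathlib

/-!
# Algebra for `O_X(n)` generated by `B_n`, `n ≥ (s-1)(l-1)` (weighted generators)
-/

set_option autoImplicit false
universe u

namespace Groth.Agent.H66.TwistGenBoundAlg

open scoped BigOperators

section Alg

variable {R A : Type u} [CommRing R] [CommRing A] [Algebra R A]
variable (𝒜 : ℕ → Submodule R A) [GradedAlgebra 𝒜]
variable {s : ℕ} (f : Fin s → A) (deg : Fin s → ℕ)

/-- the monomial `∏ f_j ^ ν_j` -/
def mon (ν : Fin s → ℕ) : A := ∏ j, f j ^ ν j

/-- the weighted degree of an exponent vector -/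
def wdeg (ν : Fin s → ℕ) : ℕ := ∑ j, ν j * deg j

theorem mon_mem (hf : ∀ i, f i ∈ 𝒜 (deg i)) (ν : Fin s → ℕ) : mon f ν ∈ 𝒜 (wdeg deg ν) := by
  unfold mon wdeg
  have := SetLike.prod_pow_mem_graded 𝒜 deg f (F := Finset.univ) ν (fun k _ => hf k)
  simpa [smul_eq_mul] using this

theorem mon_add (ν ν' : Fin s → ℕ) : mon f (ν + ν') = mon f ν * mon f ν' := by
  unfold mon
  rw [← Finset.prod_mul_distrib]
  exact Finset.prod_congr rfl (fun j _ => by rw [Pi.add_apply, pow_add])

theorem wdeg_add (ν ν' : Fin s → ℕ) : wdeg deg (ν + ν') = wdeg deg ν + wdeg deg ν' := by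
  unfold wdeg
  rw [← Finset.sum_add_distrib]
  exact Finset.sum_congr rfl (fun j _ => by rw [Pi.add_apply, add_mul])

/-- homogeneous components are spanned by monomials of the right weighted degree -/
theorem mem_span_mon (hf : ∀ i, f i ∈ 𝒜 (deg i))
    (hgen : Algebra.adjoin R (Set.range f) = ⊤) (e : ℕ) (a : A) (ha : a ∈ 𝒜 e) :
    a ∈ Submodule.span R {y | ∃ ν : Fin s → ℕ, wdeg deg ν = e ∧ y = mon f ν} := by
  classical
  have ha' : a ∈ (MvPolynomial.aeval f : MvPolynomial (Fin s) R →ₐ[R] A).range := by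
    rw [← Algebra.adjoin_range_eq_range_aeval, hgen]; trivial
  obtain ⟨p, hp⟩ := ha'
  change MvPolynomial.aeval f p = a at hp
  subst hp
  have h1 : MvPolynomial.aeval f p =
      ∑ v ∈ p.support, (MvPolynomial.coeff v p) • mon f (fun j => v j) := by
    conv_lhs => rw [p.as_sum, map_sum]
    refine Finset.sum_congr rfl (fun v _ => ?_)
    rw [MvPolynomial.aeval_monomial, Algebra.smul_def, Finsupp.prod_fintype _ _ (fun i => pow_zero _)]
    rfl
  have h2 : MvPolynomial.aeval f p = GradedAlgebra.proj 𝒜 e (MvPolynomial.aeval f p) := by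
    rw [GradedAlgebra.proj_apply, DirectSum.decompose_of_mem_same 𝒜 ha]
  rw [h2, h1, map_sum]
  refine Submodule.sum_mem _ (fun v _ => ?_)
  rw [map_smul]
  refine Submodule.smul_mem _ _ ?_
  by_cases hv : wdeg deg (fun j => v j) = e
  · rw [GradedAlgebra.proj_apply, DirectSum.decompose_of_mem_same 𝒜 (hv ▸ mon_mem 𝒜 f deg hf _)]
    exact Submodule.subset_span ⟨_, hv, rfl⟩
  · rw [GradedAlgebra.proj_apply, DirectSum.decompose_of_mem_ne 𝒜 (mon_mem 𝒜 f deg hf _) hv]
    exact zero_mem _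

theorem wdeg_single (i : Fin s) (n : ℕ) : wdeg deg (Pi.single i n) = n * deg i := by
  classical
  unfold wdeg
  rw [Finset.sum_eq_single i]
  · rw [Pi.single_eq_same]
  · intro j _ hj
    rw [Pi.single_eq_of_ne hj, zero_mul]
  · intro h; exact absurd (Finset.mem_univ i) h

theorem wdeg_split (i : Fin s) (ν : Fin s → ℕ) :
    wdeg deg ν = ν i * deg i + ∑ j ∈ Finset.univ.erase i, ν j * deg j := by
  classical
  unfold wdeg
  exact (Finset.add_sum_erase _ (fun j => ν j * deg j) (Finset.mem_univ i)).symm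

/-- the combinatorial splitting of a monomial of weighted degree `n + k d_i` -/
theorem exists_split (hdeg : ∀ i, 0 < deg i) (i : Fin s) (n k : ℕ)
    (hn : (s - 1) * (Finset.univ.lcm deg - 1) ≤ n) (μ : Fin s → ℕ)
    (hμ : wdeg deg μ = n + k * deg i) :
    ∃ νb νc : Fin s → ℕ, wdeg deg νb = n ∧ wdeg deg νc = (k + n) * deg i ∧
      νb + νc = μ + Pi.single i n := by
  classical
  set l := Finset.univ.lcm deg with hl
  have hdvd : ∀ j, deg j ∣ l := fun j => Finset.dvd_lcm (Finset.mem_univ j)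
  have hl0 : 0 < l := by
    rw [Nat.pos_iff_ne_zero, hl, Ne, Finset.lcm_eq_zero_iff]
    rintro ⟨j, _, hj⟩
    exact (hdeg j).ne' hj
  set L : Fin s → ℕ := fun j => l / deg j with hL
  have hLmul : ∀ j, L j * deg j = l := fun j => Nat.div_mul_cancel (hdvd j)
  have hLpos : ∀ j, 0 < L j := fun j => Nat.div_pos (Nat.le_of_dvd hl0 (hdvd j)) (hdeg j)
  set ρ := ∑ j ∈ Finset.univ.erase i, (μ j % L j) * deg j with hρ
  set Q := ∑ j ∈ Finset.univ.erase i, μ j / L j with hQ
  -- bound on ρ
  have hρle : ρ ≤ (s - 1) * (l - 1) := by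
    have hcard : (Finset.univ.erase i).card = s - 1 := by
      rw [Finset.card_erase_of_mem (Finset.mem_univ i), Finset.card_univ, Fintype.card_fin]
    calc ρ ≤ ∑ _j ∈ Finset.univ.erase i, (l - 1) := by
          refine Finset.sum_le_sum (fun j _ => ?_)
          have h1 : μ j % L j ≤ L j - 1 := Nat.le_sub_one_of_lt (Nat.mod_lt _ (hLpos j))
          calc (μ j % L j) * deg j ≤ (L j - 1) * deg j := Nat.mul_le_mul_right _ h1
            _ = l - deg j := by rw [Nat.sub_mul, hLmul j, one_mul]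
            _ ≤ l - 1 := Nat.sub_le_sub_left (hdeg j) l
      _ = (s - 1) * (l - 1) := by rw [Finset.sum_const, hcard, smul_eq_mul]
  have hρn : ρ ≤ n := hρle.trans hn
  -- the degree identity
  have hsum : ∑ j ∈ Finset.univ.erase i, μ j * deg j = l * Q + ρ := by
    rw [hQ, hρ, Finset.mul_sum, ← Finset.sum_add_distrib]
    refine Finset.sum_congr rfl (fun j _ => ?_)
    conv_lhs => rw [← Nat.div_add_mod (μ j) (L j)]
    rw [add_mul]
    congr 1
    rw [mul_comm (L j), mul_assoc, hLmul j, mul_comm]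
  have hid : n + k * deg i = μ i * deg i + (l * Q + ρ) := by
    rw [← hμ, wdeg_split deg i μ, hsum]
  have hdiv : deg i ∣ n - ρ := by
    have h1 : (n - ρ) + k * deg i = μ i * deg i + l * Q := by omega
    have h2 : deg i ∣ (n - ρ) + k * deg i := by
      rw [h1]
      exact dvd_add (dvd_mul_left _ _) (Dvd.dvd.mul_right (hdvd i) Q)
    exact (Nat.dvd_add_left (dvd_mul_left _ _)).mp h2
  obtain ⟨N, hN⟩ := hdiv
  have hNn : N ≤ n := by
    have h1 : N ≤ deg i * N := Nat.le_mul_of_pos_left N (hdeg i)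
    omega
  let νb : Fin s → ℕ := fun j => if j = i then N else μ j % L j
  let νc : Fin s → ℕ := fun j => if j = i then μ i + (n - N) else L j * (μ j / L j)
  have hb : wdeg deg νb = n := by
    rw [wdeg_split deg i νb]
    have h1 : νb i = N := if_pos rfl
    have h2 : ∑ j ∈ Finset.univ.erase i, νb j * deg j = ρ := by
      refine Finset.sum_congr rfl (fun j hj => ?_)
      have : νb j = μ j % L j := if_neg (Finset.ne_of_mem_erase hj)
      rw [this]
    rw [h1, h2, mul_comm N]
    omega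
  have hbc : νb + νc = μ + Pi.single i n := by
    funext j
    by_cases hj : j = i
    · subst hj
      simp only [Pi.add_apply, Pi.single_eq_same, νb, νc, if_true]
      omega
    · simp only [Pi.add_apply, Pi.single_eq_of_ne hj, νb, νc, if_neg hj, add_zero]
      rw [add_comm]
      exact Nat.div_add_mod (μ j) (L j)
  refine ⟨νb, νc, hb, ?_, hbc⟩
  have h3 := congrArg (wdeg deg) hbc
  rw [wdeg_add, wdeg_add, hb, hμ, wdeg_single] at h3
  have : (k + n) * deg i = k * deg i + n * deg i := add_mul _ _ _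
  omega

/-- the algebraic splitting: `f_i ^ n • 𝒜_{n + k d_i} ⊆ 𝒜_n * 𝒜_{(k + n) d_i}` -/
theorem pow_mul_mem (hdeg : ∀ i, 0 < deg i) (hf : ∀ i, f i ∈ 𝒜 (deg i))
    (hgen : Algebra.adjoin R (Set.range f) = ⊤) (i : Fin s) (n k : ℕ)
    (hn : (s - 1) * (Finset.univ.lcm deg - 1) ≤ n) (m : A) (hm : m ∈ 𝒜 (n + k * deg i)) :
    f i ^ n * m ∈ 𝒜 n * 𝒜 ((k + n) * deg i) := by
  classical
  have h := mem_span_mon 𝒜 f deg hf hgen _ m hm
  clear hm
  induction h using Submodule.span_induction with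
  | mem y hy =>
    obtain ⟨μ, hμ, rfl⟩ := hy
    obtain ⟨νb, νc, hb, hc, hbc⟩ := exists_split deg hdeg i n k hn μ hμ
    have h1 : f i ^ n * mon f μ = mon f νb * mon f νc := by
      rw [← mon_add, hbc, mon_add, mul_comm]
      congr 1
      unfold mon
      rw [Finset.prod_eq_single i]
      · rw [Pi.single_eq_same]
      · intro j _ hj
        rw [Pi.single_eq_of_ne hj, pow_zero]
      · intro h; exact absurd (Finset.mem_univ i) h
    rw [h1]
    exact Submodule.mul_mem_mul (hb ▸ mon_mem 𝒜 f deg hf νb) (hc ▸ mon_mem 𝒜 f deg hf νc)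
  | zero => rw [mul_zero]; exact zero_mem _
  | add x y _ _ hx hy => rw [mul_add]; exact add_mem hx hy
  | smul r x _ hx => rw [mul_smul_comm]; exact Submodule.smul_mem _ r hx

end Alg

end Groth.Agent.H66.TwistGenBoundAlg
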