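import Mathlib
import Groth.Agent.H66.TwistGenBoundAlg

/-!
# Algebra for closed immersions of `Proj` into projective space (helper66)

* `psi f c` : `y ↦ y / f ^ c` as an `R`-linear map `A → A_f`, and `psi_mem_adjoin`: elements of
  `(span b)^c` divided by `f^c` lie in the `R`-algebra generated by the `b j / f`;
* `veronese_split`, `mem_pow_span_mon`: for weighted generators, `B_{e n} = (B_n)^e` when
  `n = a · lcm`, `a ≥ max(1, s - 1)`;
* `pad_mem_pow`: padding by powers of a degree one element.
-/

set_option autoImplicit false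
universe u

namespace Groth.Agent.H66.ProjVAAlg

open Groth.Agent.H66.TwistGenBoundAlg
open scoped BigOperators

section Loc

variable {R A : Type u} [CommRing R] [CommRing A] [Algebra R A]

/-- `y ↦ y / f ^ c` -/
noncomputable def psi (f : A) (c : ℕ) : A →ₗ[R] Localization (Submonoid.powers f) :=
  (LinearMap.mulRight R (Localization.mk (1 : A) (⟨f ^ c, c, rfl⟩ : Submonoid.powers f))).comp
    (IsScalarTower.toAlgHom R A (Localization (Submonoid.powers f))).toLinearMap

theorem psi_apply (f : A) (c : ℕ) (y : A) :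
    psi (R := R) f c y = Localization.mk y (⟨f ^ c, c, rfl⟩ : Submonoid.powers f) := by
  change algebraMap A (Localization (Submonoid.powers f)) y * Localization.mk (1 : A) _ = _
  rw [← Localization.mk_one_eq_algebraMap, Localization.mk_mul, one_mul, mul_one]

theorem psi_mul (f : A) (c c' : ℕ) (y y' : A) :
    psi (R := R) f (c + c') (y * y') = psi (R := R) f c y * psi (R := R) f c' y' := by
  rw [psi_apply, psi_apply, psi_apply, Localization.mk_mul]
  congr 1
  exact Subtype.ext (pow_add f c c')

theorem psi_pow_self (f : A) (c : ℕ) : psi (R := R) f c (f ^ c) = 1 := by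
  rw [psi_apply]
  exact Localization.mk_self (⟨f ^ c, c, rfl⟩ : Submonoid.powers f)

theorem psi_zero_algebraMap (f : A) (r : R) :
    psi (R := R) f 0 (algebraMap R A r) =
      algebraMap R (Localization (Submonoid.powers f)) r := by
  rw [psi_apply, IsScalarTower.algebraMap_apply R A (Localization (Submonoid.powers f)),
    ← Localization.mk_one_eq_algebraMap]
  congr 1
  exact Subtype.ext (pow_zero f)

/-- elements of `(span b)^c`, divided by `f^c`, lie in the algebra generated by the `b j / f` -/
theorem psi_mem_adjoin {J : Type*} (b : J → A) (f : A) (c : ℕ) (y : A)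
    (hy : y ∈ (Submodule.span R (Set.range b)) ^ c) :
    psi (R := R) f c y ∈ Algebra.adjoin R (Set.range fun j => psi (R := R) f 1 (b j)) := by
  induction c generalizing y with
  | zero =>
    rw [pow_zero, Submodule.mem_one] at hy
    obtain ⟨r, rfl⟩ := hy
    rw [psi_zero_algebraMap]
    exact Subalgebra.algebraMap_mem _ r
  | succ c ih =>
    rw [pow_succ] at hy
    refine Submodule.mul_induction_on hy ?_ ?_
    · intro y' hy' m hm
      rw [psi_mul]
      refine Subalgebra.mul_mem _ (ih y' hy') ?_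
      have hle : Submodule.span R (Set.range b) ≤
          (Subalgebra.toSubmodule (Algebra.adjoin R
            (Set.range fun j => psi (R := R) f 1 (b j)))).comap (psi (R := R) f 1) := by
        rw [Submodule.span_le]
        rintro _ ⟨j, rfl⟩
        exact Algebra.subset_adjoin ⟨j, rfl⟩
      exact hle hm
    · intro y1 y2 h1 h2
      rw [map_add]
      exact Subalgebra.add_mem _ h1 h2

end Loc

section Veronese

variable {R A : Type u} [CommRing R] [CommRing A] [Algebra R A]
variable (𝒜 : ℕ → Submodule R A) [GradedAlgebra 𝒜]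
variable {s : ℕ} (f : Fin s → A) (deg : Fin s → ℕ)

/-- choose a sub-vector with prescribed sum -/
theorem exists_le_sum_eq (q : Fin s → ℕ) (a : ℕ) (ha : a ≤ ∑ j, q j) :
    ∃ q' : Fin s → ℕ, (∀ j, q' j ≤ q j) ∧ ∑ j, q' j = a := by
  induction a with
  | zero => exact ⟨fun _ => 0, fun _ => Nat.zero_le _, by simp⟩
  | succ a ih =>
    obtain ⟨q', hq', hsum⟩ := ih (Nat.le_of_succ_le ha)
    have hex : ∃ j, q' j < q j := by
      by_contra hcon
      push_neg at hcon
      have : ∑ j, q j ≤ ∑ j, q' j := Finset.sum_le_sum (fun j _ => hcon j)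
      omega
    obtain ⟨j₀, hj₀⟩ := hex
    refine ⟨q' + Pi.single j₀ 1, ?_, ?_⟩
    · intro j
      by_cases hj : j = j₀
      · subst hj
        simp only [Pi.add_apply, Pi.single_eq_same]
        omega
      · simp only [Pi.add_apply, Pi.single_eq_of_ne hj, add_zero]
        exact hq' j
    · simp only [Pi.add_apply, Finset.sum_add_distrib, hsum]
      congr 1
      rw [Finset.sum_eq_single j₀]
      · simp
      · intro j _ hj
        exact Pi.single_eq_of_ne hj 1
      · intro h
        exact absurd (Finset.mem_univ j₀) h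

/-- the Veronese splitting of an exponent vector of weighted degree `(e + 2) n`,
`n = a · lcm`, `a ≥ max(1, s - 1)` -/
theorem veronese_split (hdeg : ∀ i, 0 < deg i) (a : ℕ) (has : s - 1 ≤ a) (e : ℕ)
    (ν : Fin s → ℕ) (hν : wdeg deg ν = (e + 2) * (a * Finset.univ.lcm deg)) :
    ∃ μ ν' : Fin s → ℕ, wdeg deg μ = a * Finset.univ.lcm deg ∧
      wdeg deg ν' = (e + 1) * (a * Finset.univ.lcm deg) ∧ μ + ν' = ν := by
  classical
  set l := Finset.univ.lcm deg with hl
  have hdvd : ∀ j, deg j ∣ l := fun j => Finset.dvd_lcm (Finset.mem_univ j)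
  have hl0 : 0 < l := by
    rw [Nat.pos_iff_ne_zero, hl, Ne, Finset.lcm_eq_zero_iff]
    rintro ⟨j, _, hj⟩
    exact (hdeg j).ne' hj
  set L : Fin s → ℕ := fun j => l / deg j with hL
  have hLmul : ∀ j, L j * deg j = l := fun j => Nat.div_mul_cancel (hdvd j)
  have hLpos : ∀ j, 0 < L j := fun j => Nat.div_pos (Nat.le_of_dvd hl0 (hdvd j)) (hdeg j)
  set ρ := ∑ j, (ν j % L j) * deg j with hρ
  set Q := ∑ j, ν j / L j with hQ
  -- the degree identity
  have hsum : wdeg deg ν = l * Q + ρ := by
    unfold wdeg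
    rw [hQ, hρ, Finset.mul_sum, ← Finset.sum_add_distrib]
    refine Finset.sum_congr rfl (fun j _ => ?_)
    conv_lhs => rw [← Nat.div_add_mod (ν j) (L j)]
    rw [add_mul]
    congr 1
    rw [mul_comm (L j), mul_assoc, hLmul j, mul_comm]
  -- bound on ρ
  have hρle : ρ + s ≤ s * l := by
    have h1 : ∀ j, (ν j % L j) * deg j + 1 ≤ l := by
      intro j
      have h1 : ν j % L j ≤ L j - 1 := Nat.le_sub_one_of_lt (Nat.mod_lt _ (hLpos j))
      have h2 : (ν j % L j) * deg j ≤ (L j - 1) * deg j := Nat.mul_le_mul_right _ h1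
      have h3 : (L j - 1) * deg j = l - deg j := by rw [Nat.sub_mul, hLmul j, one_mul]
      have h4 : deg j ≤ l := Nat.le_of_dvd hl0 (hdvd j)
      have := hdeg j
      omega
    calc ρ + s = ∑ j : Fin s, ((ν j % L j) * deg j + 1) := by
          rw [Finset.sum_add_distrib, Finset.sum_const, Finset.card_univ, Fintype.card_fin,
            smul_eq_mul, mul_one]
      _ ≤ ∑ _j : Fin s, l := Finset.sum_le_sum (fun j _ => h1 j)
      _ = s * l := by rw [Finset.sum_const, Finset.card_univ, Fintype.card_fin, smul_eq_mul]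
  -- divisibility
  have hdivρ : l ∣ ρ := by
    have h1 : l ∣ l * Q + ρ := by
      rw [← hsum, hν]
      exact Dvd.dvd.mul_left (dvd_mul_left l a) _
    exact (Nat.dvd_add_right (dvd_mul_right l Q)).mp h1
  obtain ⟨t, ht⟩ := hdivρ
  -- s = 0 is impossible
  have hs : 0 < s ∨ a = 0 := by
    rcases Nat.eq_zero_or_pos s with hs | hs
    · right
      subst hs
      have h0 : wdeg deg ν = 0 := by unfold wdeg; simp
      rw [h0] at hν
      have hl1 : l = 1 := by rw [hl]; simp
      rw [hl1, mul_one] at hν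
      have : 0 < e + 2 := by omega
      rcases Nat.eq_zero_or_pos a with h | h
      · exact h
      · exact absurd hν.symm (Nat.mul_pos this h).ne'
    · exact Or.inl hs
  have hta : t ≤ a := by
    rcases hs with hs | ha0
    · have h1 : l * t + s ≤ s * l := by rw [← ht]; exact hρle
      have h2 : t < s := by
        by_contra hcon
        push_neg at hcon
        have : s * l ≤ l * t := by rw [mul_comm s l]; exact Nat.mul_le_mul_left l hcon
        omega
      omega
    · -- a = 0: then wdeg ν = 0, so ρ = 0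
      subst ha0
      have h0 : l * Q + ρ = 0 := by rw [← hsum, hν]; simp
      have hρ0 : ρ = 0 := by omega
      rw [hρ0] at ht
      rcases Nat.eq_zero_or_pos t with h | h
      · omega
      · exact absurd ht.symm (Nat.mul_pos hl0 h).ne'
  have hQa : a ≤ Q := by
    have h1 : l * Q + l * t = l * ((e + 2) * a) := by
      rw [← ht, ← hsum, hν]; ring
    have h2 : Q + t = (e + 2) * a := by
      rw [← Nat.mul_add] at h1
      exact Nat.eq_of_mul_eq_mul_left hl0 h1
    nlinarith
  obtain ⟨q', hq', hq'sum⟩ := exists_le_sum_eq (fun j => ν j / L j) a hQa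
  have hμle : ∀ j, q' j * L j ≤ ν j := fun j =>
    (Nat.mul_le_mul_right _ (hq' j)).trans (Nat.div_mul_le_self (ν j) (L j))
  have hμ : wdeg deg (fun j => q' j * L j) = a * l := by
    unfold wdeg
    rw [← hq'sum, Finset.sum_mul]
    refine Finset.sum_congr rfl (fun j _ => ?_)
    rw [mul_assoc, hLmul j]
  have hadd : (fun j => q' j * L j) + (fun j => ν j - q' j * L j) = ν := by
    funext j
    simp only [Pi.add_apply]
    have := hμle j
    omega
  refine ⟨fun j => q' j * L j, fun j => ν j - q' j * L j, hμ, ?_, hadd⟩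
  have h1 := wdeg_add deg (fun j => q' j * L j) (fun j => ν j - q' j * L j)
  rw [hadd, hν, hμ] at h1
  have : (e + 2) * (a * l) = a * l + (e + 1) * (a * l) := by ring
  omega

/-- for weighted generators, `B_{e n} = (B_n)^e` when `n = a · lcm`, `a ≥ max(1, s - 1)` -/
theorem mem_pow_span_mon (hdeg : ∀ i, 0 < deg i) (hf : ∀ i, f i ∈ 𝒜 (deg i))
    (hgen : Algebra.adjoin R (Set.range f) = ⊤) (a : ℕ) (has : s - 1 ≤ a) (e : ℕ) (x : A)
    (hx : x ∈ 𝒜 (e * (a * Finset.univ.lcm deg))) :
    x ∈ (Submodule.span R {y | ∃ μ : Fin s → ℕ, wdeg deg μ = a * Finset.univ.lcm deg ∧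
      y = mon f μ}) ^ e := by
  have h1 := mem_span_mon 𝒜 f deg hf hgen _ x hx
  revert h1
  apply Submodule.span_le.mpr
  rintro _ ⟨ν, hν, rfl⟩
  clear hx
  induction e using Nat.twoStepInduction generalizing ν with
  | zero =>
    have hν0 : ν = 0 := by
      funext j
      unfold wdeg at hν
      rw [zero_mul] at hν
      have := (Finset.sum_eq_zero_iff.mp hν) j (Finset.mem_univ j)
      rcases Nat.mul_eq_zero.mp this with h | h
      · exact h
      · exact absurd h (hdeg j).ne'
    subst hν0
    rw [pow_zero]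
    have : mon f (0 : Fin s → ℕ) = 1 := by unfold mon; simp
    rw [this]
    exact Submodule.mem_one.mpr ⟨1, by simp⟩
  | one =>
    rw [pow_one]
    rw [one_mul] at hν
    exact Submodule.subset_span ⟨ν, hν, rfl⟩
  | more e _ ih =>
    obtain ⟨μ, ν', hμ, hν', hadd⟩ := veronese_split deg hdeg a has e ν hν
    rw [← hadd, mon_add, pow_succ']
    exact Submodule.mul_mem_mul (Submodule.subset_span ⟨μ, hμ, rfl⟩) (ih ν' hν')

end Veronese

section Pad

variable {R A : Type u} [CommRing R] [CommRing A] [Algebra R A]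
variable (𝒜 : ℕ → Submodule R A) [GradedAlgebra 𝒜]

/-- padding by powers of `g`: if `A` is generated by homogeneous elements `t` of degrees
`1 ≤ δ t ≤ n` and `M ∋ g ^ n, t g^{n - δ t}`, then `x g^{c n - m} ∈ M ^ c` for `x ∈ A_m`, `c ≥ m`. -/
theorem pad_mem_pow (T : Set A) (hT : Algebra.adjoin R T = ⊤) (δ : A → ℕ) (n : ℕ) (hn : 0 < n)
    (hδ : ∀ t ∈ T, t ∈ 𝒜 (δ t) ∧ 1 ≤ δ t ∧ δ t ≤ n) (g : A)
    (M : Submodule R A) (hgM : g ^ n ∈ M) (hTM : ∀ t ∈ T, t * g ^ (n - δ t) ∈ M)
    (m : ℕ) (x : A) (hx : x ∈ 𝒜 m) (c : ℕ) (hc : m ≤ c) :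
    x * g ^ (c * n - m) ∈ M ^ c := by
  classical
  have hgpow : ∀ c : ℕ, g ^ (c * n) ∈ M ^ c := by
    intro c
    rw [mul_comm, pow_mul]
    exact Submodule.pow_mem_pow M hgM c
  let H : Submonoid A :=
    { carrier := {y | ∃ m, y ∈ 𝒜 m ∧ ∀ c, m ≤ c → y * g ^ (c * n - m) ∈ M ^ c}
      one_mem' := ⟨0, SetLike.GradedOne.one_mem, fun c _ => by
        rw [one_mul, Nat.sub_zero]; exact hgpow c⟩
      mul_mem' := by
        rintro y y' ⟨m, hy, h⟩ ⟨m', hy', h'⟩
        refine ⟨m + m', SetLike.mul_mem_graded hy hy', fun c hc => ?_⟩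
        have h1 := h m le_rfl
        have h2 := h' (c - m) (by omega)
        have h3 := Submodule.mul_mem_mul h1 h2
        rw [← pow_add] at h3
        have hcm : m + (c - m) = c := by omega
        rw [hcm] at h3
        have hm1 : m ≤ m * n := Nat.le_mul_of_pos_right m hn
        have hm2 : m' ≤ (c - m) * n := le_trans (by omega) (Nat.le_mul_of_pos_right (c - m) hn)
        have hexp : (m * n - m) + ((c - m) * n - m') = c * n - (m + m') := by
          have : c * n = m * n + (c - m) * n := by rw [← Nat.add_mul, hcm]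
          omega
        have heq : y * g ^ (m * n - m) * (y' * g ^ ((c - m) * n - m')) =
            y * y' * g ^ (c * n - (m + m')) := by
          rw [← hexp, pow_add]; ring
        rw [heq] at h3
        exact h3 }
  have hTH : T ⊆ (H : Set A) := by
    intro t ht
    obtain ⟨h1, h2, h3⟩ := hδ t ht
    refine ⟨δ t, h1, fun c hc => ?_⟩
    have hc1 : c = (c - 1) + 1 := by omega
    have hexp : c * n - δ t = (n - δ t) + (c - 1) * n := by
      have : c * n = (c - 1) * n + n := by
        conv_lhs => rw [hc1, Nat.add_mul, one_mul]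
      omega
    rw [hexp, pow_add, ← mul_assoc]
    have := Submodule.mul_mem_mul (hTM t ht) (hgpow (c - 1))
    rw [← pow_succ'] at this
    rwa [← hc1] at this
  have hRH : ∀ r : R, algebraMap R A r ∈ H := by
    intro r
    refine ⟨0, ?_, fun c _ => ?_⟩
    · rw [Algebra.algebraMap_eq_smul_one]
      exact Submodule.smul_mem _ _ SetLike.GradedOne.one_mem
    · rw [Nat.sub_zero, Algebra.algebraMap_eq_smul_one, smul_mul_assoc, one_mul]
      exact Submodule.smul_mem _ _ (hgpow c)
  have hA : ∀ x : A, x ∈ Submodule.span R (H : Set A) := by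
    intro x
    have hx : x ∈ Subalgebra.toSubmodule (Algebra.adjoin R T) := by rw [hT]; trivial
    rw [Algebra.adjoin_eq_span] at hx
    exact Submodule.span_mono (Submonoid.closure_le.mpr hTH) hx
  have key : ∀ x : A, ∀ m c, m ≤ c →
      (GradedAlgebra.proj 𝒜 m x) * g ^ (c * n - m) ∈ M ^ c := by
    intro x
    refine Submodule.span_induction (p := fun x _ => ∀ m c, m ≤ c →
      (GradedAlgebra.proj 𝒜 m x) * g ^ (c * n - m) ∈ M ^ c) ?_ ?_ ?_ ?_ (hA x)
    · rintro y ⟨m', hy, h⟩ m c hc
      by_cases hmm : m' = m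
      · subst hmm
        rw [GradedAlgebra.proj_apply, DirectSum.decompose_of_mem_same 𝒜 hy]
        exact h c hc
      · rw [GradedAlgebra.proj_apply, DirectSum.decompose_of_mem_ne 𝒜 hy hmm, zero_mul]
        exact zero_mem _
    · intro m c _
      rw [map_zero, zero_mul]
      exact zero_mem _
    · intro y y' _ _ h h' m c hc
      rw [map_add, add_mul]
      exact add_mem (h m c hc) (h' m c hc)
    · intro r y _ h m c hc
      rw [map_smul, smul_mul_assoc]
      exact Submodule.smul_mem _ _ (h m c hc)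
  have := key x m c hc
  rwa [GradedAlgebra.proj_apply, DirectSum.decompose_of_mem_same 𝒜 hx] at this

/-- a finite subset of a generating set generates a finite type algebra -/
theorem exists_finset_adjoin_eq_top [Algebra.FiniteType R A] (S : Set A)
    (hS : Algebra.adjoin R S = ⊤) :
    ∃ T : Finset A, (T : Set A) ⊆ S ∧ Algebra.adjoin R (T : Set A) = ⊤ := by
  classical
  have key : ∀ x : A, x ∈ Algebra.adjoin R S →
      ∃ T : Finset A, (T : Set A) ⊆ S ∧ x ∈ Algebra.adjoin R (T : Set A) := by
    intro x hx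
    induction hx using Algebra.adjoin_induction with
    | mem x hx =>
      exact ⟨{x}, by simpa using hx, Algebra.subset_adjoin (by simp)⟩
    | algebraMap r => exact ⟨∅, by simp, Subalgebra.algebraMap_mem _ r⟩
    | add x y _ _ hx hy =>
      obtain ⟨T1, h1, h1'⟩ := hx
      obtain ⟨T2, h2, h2'⟩ := hy
      refine ⟨T1 ∪ T2, by rw [Finset.coe_union]; exact Set.union_subset h1 h2, ?_⟩
      rw [Finset.coe_union]
      exact Subalgebra.add_mem _ (Algebra.adjoin_mono Set.subset_union_left h1')
        (Algebra.adjoin_mono Set.subset_union_right h2')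
    | mul x y _ _ hx hy =>
      obtain ⟨T1, h1, h1'⟩ := hx
      obtain ⟨T2, h2, h2'⟩ := hy
      refine ⟨T1 ∪ T2, by rw [Finset.coe_union]; exact Set.union_subset h1 h2, ?_⟩
      rw [Finset.coe_union]
      exact Subalgebra.mul_mem _ (Algebra.adjoin_mono Set.subset_union_left h1')
        (Algebra.adjoin_mono Set.subset_union_right h2')
  obtain ⟨T0, hT0⟩ := (Algebra.FiniteType.out : (⊤ : Subalgebra R A).FG)
  have hall : ∀ x ∈ T0, ∃ T : Finset A, (T : Set A) ⊆ S ∧ x ∈ Algebra.adjoin R (T : Set A) :=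
    fun x _ => key x (by rw [hS]; trivial)
  choose! F hF1 hF2 using hall
  refine ⟨T0.biUnion F, ?_, ?_⟩
  · intro y hy
    rw [Finset.mem_coe, Finset.mem_biUnion] at hy
    obtain ⟨x, hx, hy⟩ := hy
    exact hF1 x hx hy
  · rw [eq_top_iff, ← hT0]
    refine Algebra.adjoin_le ?_
    intro x hx
    refine Algebra.adjoin_mono ?_ (hF2 x hx)
    intro y hy
    rw [Finset.mem_coe, Finset.mem_biUnion]
    exact ⟨x, hx, hy⟩

end Pad

end Groth.Agent.H66.ProjVAAlg
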