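import Groth.Agent.H18.TwistGenCover
import Groth.Agent.H66.TwistGenBoundAlg

/-!
# `O_X(n)` is generated by `B_n` for `n ≥ (s-1)(l-1)` (weighted generators)
-/

set_option autoImplicit false
universe u

open CategoryTheory CategoryTheory.Limits AlgebraicGeometry TopologicalSpace Opposite
open Groth.Agent.H18

namespace Groth.Agent.H66.TwistGenBound

section

variable {R A : Type u} [CommRing R] [CommRing A] [Algebra R A]
variable (𝒜 : ℕ → Submodule R A) [GradedAlgebra 𝒜]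

theorem fracTw_add {i j : ℕ} {a a' b : A} (ha : a ∈ 𝒜 i) (ha' : a' ∈ 𝒜 i) (hb : b ∈ 𝒜 j) {e : ℤ}
    (he : (i : ℤ) = j + e) (V : (Proj 𝒜).Opens)
    (hV : ∀ x : ProjectiveSpectrum 𝒜, x ∈ V → b ∉ x.asHomogeneousIdeal) :
    fracTw 𝒜 (add_mem ha ha') hb he V hV = fracTw 𝒜 ha hb he V hV + fracTw 𝒜 ha' hb he V hV := by
  refine twist_sect_ext 𝒜 e V _ _ (fun z => ?_)
  rw [TwMul.twist_add_val, fracTw_val, fracTw_val, fracTw_val, Localization.add_mk_self]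

theorem fracTw_congr {i j i' j' : ℕ} {a b a' b' : A} (ha : a ∈ 𝒜 i) (hb : b ∈ 𝒜 j)
    (ha' : a' ∈ 𝒜 i') (hb' : b' ∈ 𝒜 j') {e : ℤ}
    (he : (i : ℤ) = j + e) (he' : (i' : ℤ) = j' + e) (V : (Proj 𝒜).Opens)
    (hV : ∀ x : ProjectiveSpectrum 𝒜, x ∈ V → b ∉ x.asHomogeneousIdeal)
    (hV' : ∀ x : ProjectiveSpectrum 𝒜, x ∈ V → b' ∉ x.asHomogeneousIdeal)
    (h : a * b' = a' * b) :
    fracTw 𝒜 ha hb he V hV = fracTw 𝒜 ha' hb' he' V hV' := by
  refine twist_sect_ext 𝒜 e V _ _ (fun z => ?_)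
  rw [fracTw_val, fracTw_val, Localization.mk_eq_mk_iff, Localization.r_iff_exists]
  exact ⟨1, by simp only [OneMemClass.coe_one, one_mul]; rw [mul_comm b' a, h, mul_comm]⟩

theorem fracO_smul_fracTw {n' i j : ℕ} {c t a b : A} (hc : c ∈ 𝒜 n') (ht : t ∈ 𝒜 n')
    (ha : a ∈ 𝒜 i) (hb : b ∈ 𝒜 j) {e : ℤ} (he : (i : ℤ) = j + e) (V : (Proj 𝒜).Opens)
    (hVt : ∀ x : ProjectiveSpectrum 𝒜, x ∈ V → t ∉ x.asHomogeneousIdeal)
    (hVb : ∀ x : ProjectiveSpectrum 𝒜, x ∈ V → b ∉ x.asHomogeneousIdeal) :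
    fracO 𝒜 hc ht V hVt • fracTw 𝒜 ha hb he V hVb =
      fracTw 𝒜 (SetLike.mul_mem_graded hc ha) (SetLike.mul_mem_graded ht hb)
        (by push_cast; rw [he]; ring) V
        (fun x hx h => (x.isPrime.mem_or_mem h).elim (hVt x hx) (hVb x hx)) := by
  refine twist_sect_ext 𝒜 e V _ _ (fun z => ?_)
  rw [twist_smul_val, fracTw_val, fracTw_val, fracO_val, Localization.mk_mul]
  rfl

open TwistGenBoundAlg in
/-- the key local statement: on an open inside `D₊(f_i)`, the section `m / f_i ^ k` of `O(n)` is a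
combination of the global sections `b / 1`, `b ∈ 𝒜 n` -/
theorem fracTw_mem_span {s : ℕ} (f : Fin s → A) (deg : Fin s → ℕ) (hdeg : ∀ i, 0 < deg i)
    (hf : ∀ i, f i ∈ 𝒜 (deg i)) (hgen : Algebra.adjoin R (Set.range f) = ⊤) (i : Fin s) (n k : ℕ)
    (hn : (s - 1) * (Finset.univ.lcm deg - 1) ≤ n) (W : (Proj 𝒜).Opens)
    (hW : ∀ x : ProjectiveSpectrum 𝒜, x ∈ W → f i ∉ x.asHomogeneousIdeal)
    {m : A} (hm : m ∈ 𝒜 (n + k * deg i)) (hfk : f i ^ k ∈ 𝒜 (k * deg i))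
    (he : ((n + k * deg i : ℕ) : ℤ) = ((k * deg i : ℕ) : ℤ) + (n : ℤ)) :
    fracTw 𝒜 hm hfk he W (fun x hx h => hW x hx (x.isPrime.mem_of_pow_mem k h)) ∈
      Submodule.span Γ(Proj 𝒜, W) (Set.range fun b : 𝒜 n =>
        mres (Twist.twist 𝒜 (n : ℤ)) (le_top : W ≤ ⊤)
          (Twist.globalOf 𝒜 b : ProjUP.Γm (Twist.twist 𝒜 (n : ℤ)))) := by
  classical
  have hfkn : f i ^ (k + n) ∈ 𝒜 ((k + n) * deg i) := by
    simpa [smul_eq_mul] using SetLike.pow_mem_graded (k + n) (hf i)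
  have he' : ((n + (k + n) * deg i : ℕ) : ℤ) = (((k + n) * deg i : ℕ) : ℤ) + (n : ℤ) := by
    push_cast; ring
  have hW' : ∀ x : ProjectiveSpectrum 𝒜, x ∈ W → f i ^ (k + n) ∉ x.asHomogeneousIdeal :=
    fun x hx h => hW x hx (x.isPrime.mem_of_pow_mem _ h)
  have h1 : ∀ x : ProjectiveSpectrum 𝒜, x ∈ W → (1 : A) ∉ x.asHomogeneousIdeal :=
    fun z _ => GrMod.one_nin z
  have key : ∀ y : A, y ∈ 𝒜 n * 𝒜 ((k + n) * deg i) →
      ∃ hy : y ∈ 𝒜 (n + (k + n) * deg i), fracTw 𝒜 hy hfkn he' W hW' ∈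
        Submodule.span Γ(Proj 𝒜, W) (Set.range fun b : 𝒜 n =>
          mres (Twist.twist 𝒜 (n : ℤ)) (le_top : W ≤ ⊤)
            (Twist.globalOf 𝒜 b : ProjUP.Γm (Twist.twist 𝒜 (n : ℤ)))) := by
    intro y hy
    refine Submodule.mul_induction_on hy ?_ ?_
    · intro b hb c hc
      refine ⟨SetLike.mul_mem_graded hb hc, ?_⟩
      have he0 : ((n : ℕ) : ℤ) = ((0 : ℕ) : ℤ) + (n : ℤ) := by simp
      have e1 : fracTw 𝒜 (SetLike.mul_mem_graded hb hc) hfkn he' W hW' =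
          fracO 𝒜 hc hfkn W hW' •
            fracTw 𝒜 hb (SetLike.GradedOne.one_mem : (1 : A) ∈ 𝒜 0) he0 W h1 := by
        rw [fracO_smul_fracTw]
        refine fracTw_congr 𝒜 _ _ _ _ _ _ W _ _ ?_
        ring
      rw [e1]
      exact Submodule.smul_mem _ _ (Submodule.subset_span ⟨⟨b, hb⟩, rfl⟩)
    · intro y y' hy hy'
      obtain ⟨h, hmem⟩ := hy
      obtain ⟨h', hmem'⟩ := hy'
      refine ⟨add_mem h h', ?_⟩
      rw [fracTw_add 𝒜 h h']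
      exact add_mem hmem hmem'
  obtain ⟨hy, hmem⟩ := key _ (pow_mul_mem 𝒜 f deg hdeg hf hgen i n k hn m hm)
  have e2 : fracTw 𝒜 hm hfk he W (fun x hx h => hW x hx (x.isPrime.mem_of_pow_mem k h)) =
      fracTw 𝒜 hy hfkn he' W hW' := by
    refine fracTw_congr 𝒜 _ _ _ _ _ _ W _ _ ?_
    rw [pow_add]; ring
  rw [e2]
  exact hmem

/-- `O_X(n)` is generated by `B_n` for `n ≥ (s-1)(l-1)` -/
theorem main {s : ℕ} (f : Fin s → A) (deg : Fin s → ℕ) (hdeg : ∀ i, 0 < deg i)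
    (hf : ∀ i, f i ∈ 𝒜 (deg i)) (hgen : Algebra.adjoin R (Set.range f) = ⊤) (n : ℕ)
    (hn : (s - 1) * (Finset.univ.lcm deg - 1) ≤ n) :
    ProjUP.GeneratedBy (Twist.twist 𝒜 (n : ℤ))
      (fun b : 𝒜 n => (Twist.globalOf 𝒜 b : ProjUP.Γm (Twist.twist 𝒜 (n : ℤ)))) := by
  classical
  refine generatedBy_of_locally_mem_span _ _ ?_
  intro V t x hx
  obtain ⟨i, hi⟩ := exists_notMem_of_adjoin_eq_top 𝒜 f hgen x
  let t' : Twist.sectN (𝒜 := 𝒜) (n : ℤ) (op V) := t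
  obtain ⟨V', mV, iV, i', j', m, u, nin, c, w⟩ := t'.2 ⟨x, hx⟩
  have hV'V : V' ≤ V := leOfHom iV
  let W : (Proj 𝒜).Opens := V' ⊓ Proj.basicOpen 𝒜 (f i)
  have hWV : W ≤ V := inf_le_left.trans hV'V
  have hWf : ∀ z : ProjectiveSpectrum 𝒜, z ∈ W → f i ∉ z.asHomogeneousIdeal := fun z hz => hz.2
  have hWu : ∀ z : ProjectiveSpectrum 𝒜, z ∈ W → u.1 ∉ z.asHomogeneousIdeal :=
    fun z hz => nin ⟨z, hz.1⟩
  refine ⟨W, hWV, ⟨mV, hi⟩, ?_⟩
  rcases c with c | c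
  · -- the section is `m / u` on `W`
    have e0 : mres (Twist.twist 𝒜 (n : ℤ)) hWV t = fracTw 𝒜 m.2 u.2 c W hWu := by
      refine twist_sect_ext 𝒜 _ W _ _ (fun z => ?_)
      rw [fracTw_val]
      exact w ⟨z.1, z.2.1⟩
    rw [e0]
    set d := deg i with hd
    have hd0 : 0 < d := hdeg i
    have hij : i' = j' + n := by exact_mod_cast c
    have hfj : f i ^ j' ∈ 𝒜 (j' * d) := by
      simpa [smul_eq_mul] using SetLike.pow_mem_graded j' (hf i)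
    have hud : u.1 ^ d ∈ 𝒜 (j' * d) := by
      have := SetLike.pow_mem_graded d u.2
      rwa [smul_eq_mul, mul_comm] at this
    have hmu : m.1 * u.1 ^ (d - 1) ∈ 𝒜 (n + j' * d) := by
      have := SetLike.mul_mem_graded m.2 (SetLike.pow_mem_graded (d - 1) u.2)
      have hdeg' : i' + (d - 1) • j' = n + j' * d := by
        rw [smul_eq_mul, hij]
        obtain ⟨d', hd'⟩ : ∃ d', d = d' + 1 := ⟨d - 1, by omega⟩
        rw [hd', Nat.add_sub_cancel]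
        ring
      rwa [hdeg'] at this
    have he : ((n + j' * d : ℕ) : ℤ) = ((j' * d : ℕ) : ℤ) + (n : ℤ) := by push_cast; ring
    have hWud : ∀ z : ProjectiveSpectrum 𝒜, z ∈ W → u.1 ^ d ∉ z.asHomogeneousIdeal :=
      fun z hz h => hWu z hz (z.isPrime.mem_of_pow_mem d h)
    have e1 : fracTw 𝒜 m.2 u.2 c W hWu =
        fracO 𝒜 hfj hud W hWud •
          fracTw 𝒜 hmu hfj he W (fun z hz h => hWf z hz (z.isPrime.mem_of_pow_mem j' h)) := by
      rw [fracO_smul_fracTw]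
      refine fracTw_congr 𝒜 _ _ _ _ _ _ W _ _ ?_
      have : u.1 ^ d = u.1 ^ (d - 1) * u.1 := by
        rw [← pow_succ]; congr 1; omega
      rw [this]; ring
    rw [e1]
    exact Submodule.smul_mem _ _
      (fracTw_mem_span 𝒜 f deg hdeg hf hgen i n j' hn W hWf hmu hfj he)
  · -- the section is zero on `W`
    have e0 : mres (Twist.twist 𝒜 (n : ℤ)) hWV t = 0 := by
      refine twist_sect_ext 𝒜 _ W _ _ (fun z => ?_)
      have := w ⟨z.1, z.2.1⟩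
      rw [c, Localization.mk_zero] at this
      exact this
    rw [e0]
    exact zero_mem _

end

end Groth.Agent.H66.TwistGenBound
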