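import Groth.Agent.H18.VA.Main
import Groth.Agent.H18.TwistAmple2
import Groth.Agent.H18.ProjFracO
import Groth.Agent.H18.ProjSpaceGlobal
import Groth.Agent.H66.TwistGenBound
import Groth.Agent.H66.ProjVAAlg

/-!
# `O_X(n)` very ample on `Proj` relative to `Spec R`, with a closed immersion (helper66)
-/

set_option autoImplicit false
universe u

open CategoryTheory CategoryTheory.Limits AlgebraicGeometry TopologicalSpace Opposite
open HomogeneousLocalization

namespace Groth.Agent.H66.ProjVA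

open Groth.Agent.H18 Groth.Agent.H66.TwistGenBound Groth.Agent.H66.ProjVAAlg

section

variable {R A : Type u} [CommRing R] [CommRing A] [Algebra R A]
variable (𝒜 : ℕ → Submodule R A) [GradedAlgebra 𝒜]

/-- the structure morphism `Proj 𝒜 ⟶ Spec R` -/
noncomputable abbrev str : Proj 𝒜 ⟶ Spec (CommRingCat.of R) :=
  Proj.toSpecZero 𝒜 ≫ Spec.map (CommRingCat.ofHom (algebraMap R (𝒜 0)))

theorem awayToSection_bijective' {f : A} {m : ℕ} (hf : f ∈ 𝒜 m) (hm : 0 < m) :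
    Function.Bijective (Proj.awayToSection 𝒜 f).hom := by
  have := ConcreteCategory.bijective_of_isIso (Proj.basicOpenIsoAway 𝒜 f hf hm).hom
  rwa [Proj.basicOpenIsoAway_hom] at this

/-- the value of the function pulled back from `r : R` is `r / 1` -/
theorem str_appTop_val (r : R) (x : Proj 𝒜) :
    ((((str 𝒜).appTop.hom ((Scheme.ΓSpecIso (CommRingCat.of R)).inv.hom r)).1
      ⟨x, trivial⟩).val) =
      Localization.mk (algebraMap R A r) (1 : x.asHomogeneousIdeal.toIdeal.primeCompl) := by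
  have h : (str 𝒜).appTop.hom ((Scheme.ΓSpecIso (CommRingCat.of R)).inv.hom r) =
      (Proj.toSpecZero 𝒜).appTop.hom
        ((Scheme.ΓSpecIso (.of (𝒜 0))).inv.hom (algebraMap R (𝒜 0) r)) := by
    have h2 := congrArg (fun f => f.hom r) (Scheme.ΓSpecIso_inv_naturality
      (CommRingCat.ofHom (algebraMap R (𝒜 0))))
    dsimp only at h2
    rw [CommRingCat.hom_comp, CommRingCat.hom_comp, RingHom.comp_apply, RingHom.comp_apply] at h2
    rw [Scheme.Hom.comp_appTop, CommRingCat.hom_comp, RingHom.comp_apply]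
    exact congrArg (Proj.toSpecZero 𝒜).appTop.hom h2.symm
  exact (congrArg (fun s : Γ(Proj 𝒜, ⊤) => (s.1 ⟨x, trivial⟩).val) h).trans
    (PSL.toSpecZero_appTop_val 𝒜 (algebraMap R (𝒜 0) r) x)

theorem str_appLE_val (U : (Proj 𝒜).Opens) (hle : U ≤ (str 𝒜) ⁻¹ᵁ ⊤) (r : R) (x : U) :
    ((((str 𝒜).appLE ⊤ U hle).hom ((Scheme.ΓSpecIso (CommRingCat.of R)).inv.hom r)).1 x).val =
      Localization.mk (algebraMap R A r) (1 : x.1.asHomogeneousIdeal.toIdeal.primeCompl) :=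
  str_appTop_val 𝒜 r x.1

/-- the sections of `D₊(b k)` are generated by the ratios `b j / b k` and the scalars -/
theorem closure_eq_top {n : ℕ} (hn : 0 < n) {J : Type*} (b : J → A) (hb : ∀ j, b j ∈ 𝒜 n) (k : J)
    (halg : ∀ e x, x ∈ 𝒜 (e * n) →
      ∃ e', x * (b k) ^ e' ∈ (Submodule.span R (Set.range b)) ^ (e + e'))
    (hle : Proj.basicOpen 𝒜 (b k) ≤ (str 𝒜) ⁻¹ᵁ ⊤) :
    Subring.closure (Set.range (fun j => fracO 𝒜 (hb j) (hb k) (Proj.basicOpen 𝒜 (b k))
        (fun x hx => hx)) ∪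
      Set.range ((str 𝒜).appLE ⊤ (Proj.basicOpen 𝒜 (b k)) hle).hom) = ⊤ := by
  set f := b k with hf
  have hfn : f ∈ 𝒜 n := hb k
  set C := Subring.closure (Set.range (fun j => fracO 𝒜 (hb j) hfn (Proj.basicOpen 𝒜 f)
        (fun x hx => hx)) ∪
      Set.range ((str 𝒜).appLE ⊤ (Proj.basicOpen 𝒜 f) hle).hom) with hC
  have hφ := awayToSection_bijective' 𝒜 hfn hn
  rw [eq_top_iff]
  intro s _
  obtain ⟨z, rfl⟩ := hφ.2 s
  obtain ⟨e, x, hx, rfl⟩ := Away.mk_surjective 𝒜 hfn z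
  let L := Localization (Submonoid.powers f)
  let v : Away 𝒜 f →+* L := algebraMap (Away 𝒜 f) L
  have hv : Function.Injective v := HomogeneousLocalization.val_injective _
  let C' : Subring (Away 𝒜 f) := C.comap (Proj.awayToSection 𝒜 f).hom
  change Away.mk 𝒜 hfn e x hx ∈ C'
  -- the generators
  have hgen1 : ∀ j, ∃ z' ∈ C', v z' = psi (R := R) f 1 (b j) := by
    intro j
    have hj : b j ∈ 𝒜 (1 • n) := by rw [one_smul]; exact hb j
    refine ⟨Away.mk 𝒜 hfn 1 (b j) hj, ?_, ?_⟩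
    · change (Proj.awayToSection 𝒜 f).hom (Away.mk 𝒜 hfn 1 (b j) hj) ∈ C
      rw [awayToSection_eq_fracO]
      refine Subring.subset_closure (Or.inl ⟨j, ?_⟩)
      exact fracO_eq_of_mul_eq 𝒜 _ _ _ _ _ _ _ (by rw [pow_one])
    · rw [psi_apply]
      rfl
  have hgen0 : ∀ r : R, ∃ z' ∈ C', v z' = algebraMap R L r := by
    intro r
    have hr : algebraMap R A r ∈ 𝒜 (0 • n) := by
      rw [zero_smul, Algebra.algebraMap_eq_smul_one]
      exact Submodule.smul_mem _ _ SetLike.GradedOne.one_mem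
    refine ⟨Away.mk 𝒜 hfn 0 (algebraMap R A r) hr, ?_, ?_⟩
    · change (Proj.awayToSection 𝒜 f).hom (Away.mk 𝒜 hfn 0 (algebraMap R A r) hr) ∈ C
      refine Subring.subset_closure (Or.inr
        ⟨(Scheme.ΓSpecIso (CommRingCat.of R)).inv.hom r, ?_⟩)
      rw [awayToSection_eq_fracO]
      refine projSection_ext 𝒜 _ _ (fun y => ?_)
      rw [str_appLE_val, fracO_val]
      congr 1
      exact Subtype.ext (pow_zero f).symm
    · rw [← psi_zero_algebraMap]
      rw [psi_apply]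
      rfl
  have hle' : (Algebra.adjoin R (Set.range fun j => psi (R := R) f 1 (b j))).toSubring ≤
      C'.map v := by
    rw [Algebra.adjoin_eq_ring_closure, Subring.closure_le]
    rintro _ (⟨r, rfl⟩ | ⟨j, rfl⟩)
    · obtain ⟨z', hz', hz'v⟩ := hgen0 r
      exact ⟨z', hz', hz'v⟩
    · obtain ⟨z', hz', hz'v⟩ := hgen1 j
      exact ⟨z', hz', hz'v⟩
  obtain ⟨e', he'⟩ := halg e x (by rw [← smul_eq_mul]; exact hx)
  have h1 := psi_mem_adjoin (R := R) b f (e + e') _ he'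
  rw [psi_mul, psi_pow_self, mul_one] at h1
  obtain ⟨z', hz', hz'v⟩ := hle' h1
  have : z' = Away.mk 𝒜 hfn e x hx := by
    apply hv
    rw [hz'v, psi_apply]
    rfl
  rw [← this]
  exact hz'

theorem val_sectionHom' {X : Scheme.{u}} (M : X.Modules) (σ : Γ(M, (⊤ : X.Opens))) (V : X.Opens) :
    SecTwist.val (sectionHom M σ) V = mres M (le_top : V ≤ ⊤) σ :=
  sectionHom_app_one M σ V

theorem closure_aux {n : ℕ} (hn : 0 < n) {J : Type*} (b : J → A) (hb : ∀ j, b j ∈ 𝒜 n) (k : J)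
    (halg : ∀ e x, x ∈ 𝒜 (e * n) →
      ∃ e', x * (b k) ^ e' ∈ (Submodule.span R (Set.range b)) ^ (e + e'))
    (U : (Proj 𝒜).Opens) (hU : U = Proj.basicOpen 𝒜 (b k)) (hle : U ≤ (str 𝒜) ⁻¹ᵁ ⊤)
    (ρ : J → Γ(Proj 𝒜, U))
    (hρ : ∀ j, SecTwist.val (sectionHom (Twist.twist 𝒜 (n : ℤ)) (secN 𝒜 (hb j))) U =
      ρ j • SecTwist.val (sectionHom (Twist.twist 𝒜 (n : ℤ)) (secN 𝒜 (hb k))) U) :
    Subring.closure (Set.range ρ ∪ Set.range ((str 𝒜).appLE ⊤ U hle).hom) = ⊤ := by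
  subst hU
  have he : ((n : ℕ) : ℤ) = ((0 : ℕ) : ℤ) + (n : ℤ) := by simp
  have h1 : ∀ x : ProjectiveSpectrum 𝒜, x ∈ Proj.basicOpen 𝒜 (b k) →
      (1 : A) ∉ x.asHomogeneousIdeal := fun x _ => GrMod.one_nin x
  have hk : ∀ x : ProjectiveSpectrum 𝒜, x ∈ Proj.basicOpen 𝒜 (b k) →
      b k ∉ x.asHomogeneousIdeal := fun x hx => hx
  have hρ' : ∀ j, ρ j = fracO 𝒜 (hb j) (hb k) (Proj.basicOpen 𝒜 (b k)) hk := by
    intro j
    have h := hρ j
    rw [val_sectionHom', val_sectionHom'] at h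
    have hj' : mres (Twist.twist 𝒜 (n : ℤ)) (le_top : Proj.basicOpen 𝒜 (b k) ≤ ⊤) (secN 𝒜 (hb j)) =
        fracTw 𝒜 (hb j) (SetLike.GradedOne.one_mem : (1 : A) ∈ 𝒜 0) he _ h1 := rfl
    have hk' : mres (Twist.twist 𝒜 (n : ℤ)) (le_top : Proj.basicOpen 𝒜 (b k) ≤ ⊤) (secN 𝒜 (hb k)) =
        fracTw 𝒜 (hb k) (SetLike.GradedOne.one_mem : (1 : A) ∈ 𝒜 0) he _ h1 := rfl
    rw [hj', hk'] at h
    apply smul_fracTw_injective 𝒜 (hb k) (SetLike.GradedOne.one_mem : (1 : A) ∈ 𝒜 0) he _ hk h1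
    change ρ j • fracTw 𝒜 (hb k) _ he _ h1 = fracO 𝒜 (hb j) (hb k) _ hk • fracTw 𝒜 (hb k) _ he _ h1
    refine h.symm.trans ?_
    rw [fracO_smul_fracTw]
    exact fracTw_congr 𝒜 _ _ _ _ _ _ _ _ _ (by ring)
  have hr : Set.range ρ = Set.range (fun j => fracO 𝒜 (hb j) (hb k) (Proj.basicOpen 𝒜 (b k))
      (fun x hx => hx)) := by
    congr 1
    funext j
    exact hρ' j
  rw [hr]
  exact closure_eq_top 𝒜 hn b hb k halg hle

/-- **`O(n)` is very ample relative to `Spec R`** if finitely many `b j ∈ 𝒜 n` are given such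
that the `D₊(b k)`, `k ∈ K`, cover and on these the ratios `b j / b k` generate. -/
theorem isRelVeryAmplePn_twist {n : ℕ} (hn : 0 < n) {J : Type*} [Fintype J] [Nonempty J]
    (b : J → A) (hb : ∀ j, b j ∈ 𝒜 n) (K : Set J)
    (hcov : ∀ x : ProjectiveSpectrum 𝒜, ∃ k ∈ K, b k ∉ x.asHomogeneousIdeal)
    (halg : ∀ k ∈ K, ∀ e x, x ∈ 𝒜 (e * n) →
      ∃ e', x * (b k) ^ e' ∈ (Submodule.span R (Set.range b)) ^ (e + e')) :
    RelAmple.IsRelVeryAmplePn (str 𝒜) (Twist.twist 𝒜 (n : ℤ)) := by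
  have hLT : TwMul.LocTriv 𝒜 (n : ℤ) := by
    intro x
    obtain ⟨k, -, hk⟩ := hcov x
    exact ⟨n, 0, b k, 1, hb k, SetLike.GradedOne.one_mem, by simp, hk, GrMod.one_nin x⟩
  have hQ := isInvertible_twist' 𝒜 (n : ℤ) hLT
  have hgl : ∀ j, CohB1.genLocus _ (sectionHom (Twist.twist 𝒜 (n : ℤ)) (secN 𝒜 (hb j))) =
      Proj.basicOpen 𝒜 (b j) := fun j => genLocus_sectionHom_secN 𝒜 (hb j) hLT
  refine VA.isRelVeryAmplePn_of_homs (str 𝒜) _ hQ
    (fun j => sectionHom (Twist.twist 𝒜 (n : ℤ)) (secN 𝒜 (hb j))) K (fun _ => ⊤) ?_ ?_ ?_ ?_ ?_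
  · intro x
    obtain ⟨k, hkK, hk⟩ := hcov x
    refine ⟨k, hkK, ?_⟩
    rw [hgl]
    exact hk
  · intro k _
    rw [hgl]
    exact Proj.isAffineOpen_basicOpen 𝒜 (b k) (hb k) hn
  · intro k _
    exact isAffineOpen_top _
  · intro k _ x _
    trivial
  · intro k hk ρ hρ
    exact closure_aux 𝒜 hn b hb k (halg k hk) _ (hgl k) _ ρ hρ

/-- an immersion of a proper `Proj` into projective space over `Spec R` is a closed immersion -/
theorem exists_closedImmersion_of_isRelVeryAmplePn [Algebra.FiniteType (𝒜 0) A]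
    (h0 : Function.Surjective (algebraMap R (𝒜 0))) (L : (Proj 𝒜).Modules)
    (h : RelAmple.IsRelVeryAmplePn (str 𝒜) L) :
    ∃ (N : ℕ) (i : Proj 𝒜 ⟶ CohB1.ProjSpaceOver N (Spec (CommRingCat.of R))),
      IsClosedImmersion i ∧
      i ≫ pullback.snd (CohB1.ProjSpace.toSpec N (ULift.{u} ℤ))
        (specULiftZIsTerminal.from (Spec (CommRingCat.of R))) =
        Proj.toSpecZero 𝒜 ≫ Spec.map (CommRingCat.ofHom (algebraMap R (𝒜 0))) ∧
      Nonempty (L ≅ (Scheme.Modules.pullback i).obj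
        (Twist.twistOver N (Spec (CommRingCat.of R)) 1)) := by
  obtain ⟨N, i, hi, hcomp, hiso⟩ := h
  refine ⟨N, i, ?_, hcomp, hiso⟩
  haveI : IsClosedImmersion (Spec.map (CommRingCat.ofHom (algebraMap R (𝒜 0)))) :=
    IsClosedImmersion.spec_of_surjective _ h0
  haveI : UniversallyClosed (str 𝒜) := inferInstance
  haveI : IsSeparated (CohB1.ProjSpace.toSpec N (ULift.{u} ℤ)) := by
    unfold CohB1.ProjSpace.toSpec
    infer_instance
  have hsep : @IsSeparated (CohB1.ProjSpaceOver N (Spec (CommRingCat.of R))) _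
      (pullback.snd (CohB1.ProjSpace.toSpec N (ULift.{u} ℤ))
      (specULiftZIsTerminal.from (Spec (CommRingCat.of R)))) :=
    MorphismProperty.pullback_snd (P := @IsSeparated) _ _ inferInstance
  have huc : UniversallyClosed (i ≫ pullback.snd (CohB1.ProjSpace.toSpec N (ULift.{u} ℤ))
      (specULiftZIsTerminal.from (Spec (CommRingCat.of R)))) := by
    rw [hcomp]
    infer_instance
  haveI : UniversallyClosed i := @UniversallyClosed.of_comp_of_isSeparated _ _ _ i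
    (pullback.snd (CohB1.ProjSpace.toSpec N (ULift.{u} ℤ))
      (specULiftZIsTerminal.from (Spec (CommRingCat.of R)))) huc hsep
  haveI : IsPreimmersion i := inferInstance
  exact IsClosedImmersion.of_isPreimmersion i i.isClosedMap.isClosed_range

end

end Groth.Agent.H66.ProjVA
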