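import Groth.Agent.H66.ProjVA
import Groth.Agent.H18.TwistGenCover

/-!
# Closed immersions of `Proj` into projective space: weighted generators (helper66)
-/

set_option autoImplicit false
universe u

open CategoryTheory CategoryTheory.Limits AlgebraicGeometry TopologicalSpace Opposite
open HomogeneousLocalization

namespace Groth.Agent.H66.ProjVAApp

open Groth.Agent.H18 Groth.Agent.H66.TwistGenBoundAlg Groth.Agent.H66.ProjVAAlg
  Groth.Agent.H66.ProjVA

section

variable {R A : Type u} [CommRing R] [CommRing A] [Algebra R A]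
variable (𝒜 : ℕ → Submodule R A) [GradedAlgebra 𝒜]

instance isScalarTower_zero : IsScalarTower R (𝒜 0) A :=
  IsScalarTower.of_algebraMap_eq (R := R) (S := 𝒜 0) (A := A) (fun _ => rfl)

variable {s : ℕ} (f : Fin s → A) (deg : Fin s → ℕ)

include f deg in
theorem finiteType_zero (hgen : Algebra.adjoin R (Set.range f) = ⊤) :
    Algebra.FiniteType (𝒜 0) A := by
  classical
  haveI : Algebra.FiniteType R A :=
    ⟨⟨Finset.univ.image f, by rw [Finset.coe_image, Finset.coe_univ, Set.image_univ]; exact hgen⟩⟩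
  exact Algebra.FiniteType.of_restrictScalars_finiteType R (𝒜 0) A

theorem wdeg_eq_zero (hdeg : ∀ i, 0 < deg i) (ν : Fin s → ℕ) (hν : wdeg deg ν = 0) : ν = 0 := by
  funext j
  unfold wdeg at hν
  have := (Finset.sum_eq_zero_iff.mp hν) j (Finset.mem_univ j)
  rcases Nat.mul_eq_zero.mp this with h | h
  · exact h
  · exact absurd h (hdeg j).ne'

theorem algebraMap_zero_surjective (hdeg : ∀ i, 0 < deg i) (hf : ∀ i, f i ∈ 𝒜 (deg i))
    (hgen : Algebra.adjoin R (Set.range f) = ⊤) :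
    Function.Surjective (algebraMap R (𝒜 0)) := by
  rintro ⟨x, hx⟩
  have h1 := mem_span_mon 𝒜 f deg hf hgen 0 x hx
  have h2 : {y | ∃ ν : Fin s → ℕ, wdeg deg ν = 0 ∧ y = mon f ν} ⊆ {(1 : A)} := by
    rintro _ ⟨ν, hν, rfl⟩
    rw [wdeg_eq_zero deg hdeg ν hν]
    unfold mon
    simp
  have h3 := Submodule.span_mono (R := R) h2 h1
  rw [Submodule.mem_span_singleton] at h3
  obtain ⟨r, hr⟩ := h3
  refine ⟨r, Subtype.ext ?_⟩
  change algebraMap R A r = x
  rw [Algebra.algebraMap_eq_smul_one, hr]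

theorem finite_monomials (hdeg : ∀ i, 0 < deg i) (n : ℕ) :
    {y : A | ∃ μ : Fin s → ℕ, wdeg deg μ = n ∧ y = mon f μ}.Finite := by
  have h1 : {μ : Fin s → ℕ | wdeg deg μ = n}.Finite := by
    refine Set.Finite.subset (Set.Finite.pi (fun _ : Fin s => Set.finite_Iic n)) ?_
    intro μ hμ j _
    have hμ' : wdeg deg μ = n := hμ
    rw [Set.mem_Iic, ← hμ']
    unfold wdeg
    calc μ j ≤ μ j * deg j := Nat.le_mul_of_pos_right _ (hdeg j)
      _ ≤ ∑ j, μ j * deg j :=
        Finset.single_le_sum (f := fun j => μ j * deg j) (fun _ _ => Nat.zero_le _)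
          (Finset.mem_univ j)
  refine Set.Finite.subset (h1.image (mon f)) ?_
  rintro _ ⟨μ, hμ, rfl⟩
  exact ⟨μ, hμ, rfl⟩

/-- **S13182**: weighted generators, `n = a · lcm`, `a ≥ max(1, s - 1)`. -/
theorem closedImmersion_weighted (hdeg : ∀ i, 0 < deg i) (hf : ∀ i, f i ∈ 𝒜 (deg i))
    (hgen : Algebra.adjoin R (Set.range f) = ⊤) (a : ℕ) (ha : 0 < a) (has : s - 1 ≤ a) :
    ∃ (N : ℕ) (i : Proj 𝒜 ⟶ CohB1.ProjSpaceOver N (Spec (CommRingCat.of R))),
      IsClosedImmersion i ∧
      i ≫ pullback.snd (CohB1.ProjSpace.toSpec N (ULift.{u} ℤ))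
        (specULiftZIsTerminal.from (Spec (CommRingCat.of R))) =
        Proj.toSpecZero 𝒜 ≫ Spec.map (CommRingCat.ofHom (algebraMap R (𝒜 0))) ∧
      Nonempty (Twist.twist 𝒜 ((a * Finset.univ.lcm deg : ℕ) : ℤ) ≅
        (Scheme.Modules.pullback i).obj (Twist.twistOver N (Spec (CommRingCat.of R)) 1)) := by
  classical
  set l := Finset.univ.lcm deg with hl
  have hdvd : ∀ j, deg j ∣ l := fun j => Finset.dvd_lcm (Finset.mem_univ j)
  have hl0 : 0 < l := by
    rw [Nat.pos_iff_ne_zero, hl, Ne, Finset.lcm_eq_zero_iff]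
    rintro ⟨j, _, hj⟩
    exact (hdeg j).ne' hj
  set n := a * l with hn
  have hn0 : 0 < n := Nat.mul_pos ha hl0
  haveI := finiteType_zero 𝒜 f deg hgen
  refine exists_closedImmersion_of_isRelVeryAmplePn 𝒜
    (algebraMap_zero_surjective 𝒜 f deg hdeg hf hgen) _ ?_
  let S₀ : Set A := {y | ∃ μ : Fin s → ℕ, wdeg deg μ = n ∧ y = mon f μ}
  let S : Set A := S₀ ∪ {0}
  have hSfin : S.Finite := (finite_monomials f deg hdeg n).union (Set.finite_singleton 0)
  haveI : Fintype S := hSfin.fintype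
  haveI : Nonempty S := ⟨⟨0, Or.inr rfl⟩⟩
  have hS : ∀ j : S, (j : A) ∈ 𝒜 n := by
    rintro ⟨y, hy | hy⟩
    · obtain ⟨μ, hμ, rfl⟩ := hy
      have := mon_mem 𝒜 f deg hf μ
      rw [hμ] at this
      exact this
    · rw [Set.mem_singleton_iff] at hy
      subst hy
      exact zero_mem _
  have hpow : ∀ i, f i ^ (n / deg i) ∈ S₀ := by
    intro i
    refine ⟨Pi.single i (n / deg i), ?_, ?_⟩
    · rw [wdeg_single]
      exact Nat.div_mul_cancel ((hdvd i).trans (dvd_mul_left l a))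
    · unfold mon
      rw [Finset.prod_eq_single i]
      · rw [Pi.single_eq_same]
      · intro j _ hj
        rw [Pi.single_eq_of_ne hj, pow_zero]
      · intro h
        exact absurd (Finset.mem_univ i) h
  refine isRelVeryAmplePn_twist 𝒜 hn0 (fun j : S => (j : A)) hS
    {j | ∃ i, (j : A) = f i ^ (n / deg i)} ?_ ?_
  · intro x
    obtain ⟨i, hi⟩ := exists_notMem_of_adjoin_eq_top 𝒜 f hgen x
    refine ⟨⟨f i ^ (n / deg i), Or.inl (hpow i)⟩, ⟨i, rfl⟩, ?_⟩
    intro h
    exact hi (x.isPrime.mem_of_pow_mem _ h)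
  · intro k _ e x hx
    refine ⟨0, ?_⟩
    rw [pow_zero, mul_one, add_zero]
    have h1 := mem_pow_span_mon 𝒜 f deg hdeg hf hgen a has e x hx
    have hle : Submodule.span R S₀ ≤ Submodule.span R (Set.range fun j : S => (j : A)) := by
      rw [Subtype.range_coe]
      exact Submodule.span_mono Set.subset_union_left
    exact pow_le_pow_left' hle e h1

end

end Groth.Agent.H66.ProjVAApp
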