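import Groth.Agent.H66.ProjVAApp

/-!
# Closed immersions of `Proj` into projective space: generators of degree `≤ d`, covered by
`D₊(g)`, `g ∈ 𝒜 1` (helper66)
-/

set_option autoImplicit false
universe u

open CategoryTheory CategoryTheory.Limits AlgebraicGeometry TopologicalSpace Opposite
open HomogeneousLocalization

namespace Groth.Agent.H66.ProjVAApp

open Groth.Agent.H18 Groth.Agent.H66.TwistGenBoundAlg Groth.Agent.H66.ProjVAAlg
  Groth.Agent.H66.ProjVA

section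

variable {R A : Type u} [CommRing R] [CommRing A] [Algebra R A]
variable (𝒜 : ℕ → Submodule R A) [GradedAlgebra 𝒜]

/-- **S13183** -/
theorem closedImmersion_degOneCover (d : ℕ)
    (hgen : Algebra.adjoin R (⋃ i ∈ Finset.Icc 1 d, (𝒜 i : Set A)) = ⊤)
    (hcov : (⨆ g : 𝒜 1, Proj.basicOpen 𝒜 (g : A)) = ⊤) [Algebra.FiniteType R A] (n : ℕ)
    (hn : d ≤ n) (hn1 : 0 < n) :
    ∃ (N : ℕ) (i : Proj 𝒜 ⟶ CohB1.ProjSpaceOver N (Spec (CommRingCat.of R))),
      IsClosedImmersion i ∧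
      i ≫ pullback.snd (CohB1.ProjSpace.toSpec N (ULift.{u} ℤ))
        (specULiftZIsTerminal.from (Spec (CommRingCat.of R))) =
        Proj.toSpecZero 𝒜 ≫ Spec.map (CommRingCat.ofHom (algebraMap R (𝒜 0))) ∧
      Nonempty (Twist.twist 𝒜 (n : ℤ) ≅
        (Scheme.Modules.pullback i).obj (Twist.twistOver N (Spec (CommRingCat.of R)) 1)) := by
  classical
  -- finitely many homogeneous generators
  obtain ⟨T, hTS, hT⟩ := exists_finset_adjoin_eq_top _ hgen
  have hTdeg : ∀ t ∈ T, ∃ i, t ∈ 𝒜 i ∧ 1 ≤ i ∧ i ≤ d := by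
    intro t ht
    have := hTS ht
    simp only [Set.mem_iUnion, Finset.mem_Icc, SetLike.mem_coe] at this
    obtain ⟨i, ⟨h1, h2⟩, h3⟩ := this
    exact ⟨i, h3, h1, h2⟩
  choose! δ hδ using hTdeg
  -- as a family indexed by `Fin s`
  let f : Fin T.card → A := fun i => (T.equivFin.symm i : A)
  have hfT : ∀ i, f i ∈ T := fun i => (T.equivFin.symm i).2
  have hrange : Set.range f = (T : Set A) := by
    ext y
    constructor
    · rintro ⟨i, rfl⟩
      exact hfT i
    · intro hy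
      exact ⟨T.equivFin ⟨y, hy⟩, by simp [f]⟩
  have hgen' : Algebra.adjoin R (Set.range f) = ⊤ := by rw [hrange]; exact hT
  haveI : Algebra.FiniteType (𝒜 0) A := Algebra.FiniteType.of_restrictScalars_finiteType R (𝒜 0) A
  have hsurj : Function.Surjective (algebraMap R (𝒜 0)) :=
    algebraMap_zero_surjective 𝒜 f (fun i => δ (f i)) (fun i => (hδ _ (hfT i)).2.1)
      (fun i => (hδ _ (hfT i)).1) hgen'
  refine exists_closedImmersion_of_isRelVeryAmplePn 𝒜 hsurj _ ?_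
  -- compactness and a finite cover
  haveI : CompactSpace (Proj 𝒜) :=
    QuasiCompact.compactSpace_of_compactSpace (Proj.toSpecZero 𝒜)
  have hcov' : (Set.univ : Set (Proj 𝒜)) ⊆ ⋃ g : 𝒜 1, (Proj.basicOpen 𝒜 (g : A) : Set (Proj 𝒜)) := by
    intro x _
    have hx : x ∈ (⨆ g : 𝒜 1, Proj.basicOpen 𝒜 (g : A)) := by rw [hcov]; trivial
    rw [Opens.mem_iSup] at hx
    obtain ⟨g, hg⟩ := hx
    exact Set.mem_iUnion.mpr ⟨g, hg⟩
  obtain ⟨G, hG⟩ := isCompact_univ.elim_finite_subcover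
    (fun g : 𝒜 1 => (Proj.basicOpen 𝒜 (g : A) : Set (Proj 𝒜)))
    (fun g => (Proj.basicOpen 𝒜 (g : A)).2) hcov'
  let B : Finset A := ((T ×ˢ G).image (fun p : A × 𝒜 1 => p.1 * (p.2 : A) ^ (n - δ p.1))) ∪
    (G.image (fun g : 𝒜 1 => (g : A) ^ n)) ∪ {0}
  haveI : Nonempty B := ⟨⟨0, by simp [B]⟩⟩
  have hgn : ∀ g : 𝒜 1, (g : A) ^ n ∈ 𝒜 n := by
    intro g
    have := SetLike.pow_mem_graded n g.2
    rwa [smul_eq_mul, mul_one] at this
  have hB : ∀ j : B, (j : A) ∈ 𝒜 n := by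
    rintro ⟨y, hy⟩
    rw [Finset.mem_union, Finset.mem_union, Finset.mem_image, Finset.mem_image,
      Finset.mem_singleton] at hy
    rcases hy with (⟨⟨t, g⟩, hp, rfl⟩ | ⟨g, -, rfl⟩) | rfl
    · have ht : t ∈ T := (Finset.mem_product.mp hp).1
      have h1 := (hδ t ht).1
      have h2 : (g : A) ^ (n - δ t) ∈ 𝒜 (n - δ t) := by
        have := SetLike.pow_mem_graded (n - δ t) g.2
        rwa [smul_eq_mul, mul_one] at this
      have h3 := SetLike.mul_mem_graded h1 h2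
      have h4 : δ t + (n - δ t) = n := by have := (hδ t ht).2.2; omega
      rw [h4] at h3
      exact h3
    · exact hgn g
    · exact zero_mem _
  have hBmem_g : ∀ g ∈ G, (g : A) ^ n ∈ B := by
    intro g hg
    rw [Finset.mem_union, Finset.mem_union]
    exact Or.inl (Or.inr (Finset.mem_image.mpr ⟨g, hg, rfl⟩))
  have hBmem_t : ∀ t ∈ T, ∀ g ∈ G, t * (g : A) ^ (n - δ t) ∈ B := by
    intro t ht g hg
    rw [Finset.mem_union, Finset.mem_union]
    exact Or.inl (Or.inl (Finset.mem_image.mpr ⟨(t, g), Finset.mem_product.mpr ⟨ht, hg⟩, rfl⟩))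
  refine isRelVeryAmplePn_twist 𝒜 hn1 (fun j : B => (j : A)) hB
    {j | ∃ g ∈ G, (j : A) = (g : A) ^ n} ?_ ?_
  · intro x
    have hx := hG (Set.mem_univ x)
    simp only [Set.mem_iUnion] at hx
    obtain ⟨g, hg, hxg⟩ := hx
    refine ⟨⟨(g : A) ^ n, hBmem_g g hg⟩, ⟨g, hg, rfl⟩, ?_⟩
    intro h
    exact hxg (x.isPrime.mem_of_pow_mem _ h)
  · rintro ⟨_, hk⟩ ⟨g, hg, rfl⟩ e x hx
    refine ⟨e * n, ?_⟩
    have hrB : Set.range (fun j : B => (j : A)) = (B : Set A) := Subtype.range_coe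
    rw [hrB]
    have hpad := pad_mem_pow 𝒜 (T : Set A) hT δ n hn1
      (fun t ht => ⟨(hδ t ht).1, (hδ t ht).2.1, (hδ t ht).2.2.trans hn⟩) (g : A)
      (Submodule.span R (B : Set A)) (Submodule.subset_span (hBmem_g g hg))
      (fun t ht => Submodule.subset_span (hBmem_t t ht g hg)) (e * n) x hx (e + e * n)
      (Nat.le_add_left _ _)
    have hexp : (e + e * n) * n - e * n = n * (e * n) := by
      have : (e + e * n) * n = e * n + n * (e * n) := by ring
      omega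
    rw [hexp, pow_mul] at hpad
    exact hpad

end

end Groth.Agent.H66.ProjVAApp
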