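import Groth.Agent.H66.Descent1
import Mathlib.LinearAlgebra.Determinant
import Mathlib.LinearAlgebra.Trace
import Mathlib.LinearAlgebra.Charpoly.BaseChange
import Mathlib.LinearAlgebra.Matrix.Trace
import Mathlib.RingTheory.Norm.Defs
import Mathlib.RingTheory.Trace.Defs

set_option autoImplicit false
set_option linter.unusedSectionVars false
universe u v w

namespace Groth.Agent.H66

open scoped TensorProduct

section Pi

variable {R : Type*} [CommRing R] {M : Type*} [AddCommGroup M] [Module R M]
  {ι : Type*} [Fintype ι]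

theorem trace_pi [Module.Free R M] [Module.Finite R M] (f : ι → M →ₗ[R] M) :
    LinearMap.trace R _ (LinearMap.pi (fun i ↦ (f i).comp (LinearMap.proj i))) =
      ∑ i, LinearMap.trace R _ (f i) := by
  classical
  let b := Module.Free.chooseBasis R M
  let B := (Pi.basis (fun _ : ι ↦ b)).reindex <|
    (Equiv.sigmaEquivProd _ _).trans (Equiv.prodComm _ _)
  rw [LinearMap.trace_eq_matrix_trace R B]
  simp_rw [LinearMap.trace_eq_matrix_trace R b]
  have : ((LinearMap.toMatrix B B) (LinearMap.pi fun i ↦ f i ∘ₗ LinearMap.proj i)) =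
      Matrix.blockDiagonal (fun i ↦ LinearMap.toMatrix b b (f i)) := by
    ext ⟨i₁, i₂⟩ ⟨j₁, j₂⟩
    unfold B
    simp_rw [LinearMap.toMatrix_apply', Matrix.blockDiagonal_apply, Module.Basis.coe_reindex,
      Function.comp_apply, Module.Basis.repr_reindex_apply, Equiv.symm_trans_apply,
      Equiv.prodComm_symm,
      Equiv.prodComm_apply, Equiv.sigmaEquivProd_symm_apply, Prod.swap_prod_mk, Pi.basis_apply,
      Pi.basis_repr, LinearMap.pi_apply, LinearMap.coe_comp, Function.comp_apply,
      LinearMap.toMatrix_apply', LinearMap.coe_proj, Function.eval, Pi.single_apply]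
    split_ifs with h
    · rw [h]
    · simp only [map_zero, Finsupp.coe_zero, Pi.zero_apply]
  rw [this, Matrix.trace_blockDiagonal]

end Pi

section MatMul

variable {K : Type u} [Field K] {n : ℕ}

/-- A square matrix as the family of its columns. -/
noncomputable def colEquiv : Matrix (Fin n) (Fin n) K ≃ₗ[K] (Fin n → (Fin n → K)) :=
  (Matrix.transposeLinearEquiv (Fin n) (Fin n) K K).trans (Matrix.ofLinearEquiv K).symm

theorem colEquiv_apply (M : Matrix (Fin n) (Fin n) K) (j i : Fin n) : colEquiv M j i = M i j := rfl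

theorem colEquiv_symm_apply (c : Fin n → (Fin n → K)) (i j : Fin n) :
    (colEquiv (K := K)).symm c i j = c j i := rfl

theorem colEquiv_mulLeft (M : Matrix (Fin n) (Fin n) K) :
    ((colEquiv (K := K) (n := n) : Matrix (Fin n) (Fin n) K →ₗ[K] _) ∘ₗ LinearMap.mulLeft K M ∘ₗ
      ((colEquiv (K := K) (n := n)).symm : (Fin n → (Fin n → K)) →ₗ[K] Matrix (Fin n) (Fin n) K)) =
      LinearMap.pi (fun j => (Matrix.toLin' M).comp (LinearMap.proj j)) := by
  apply LinearMap.ext
  intro c
  funext j i
  show colEquiv (M * (colEquiv (K := K)).symm c) j i = (Matrix.toLin' M (c j)) i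
  rw [colEquiv_apply, Matrix.mul_apply, Matrix.toLin'_apply, Matrix.mulVec, dotProduct]
  rfl

theorem det_mulLeft_matrix (M : Matrix (Fin n) (Fin n) K) :
    LinearMap.det (LinearMap.mulLeft K M) = M.det ^ n := by
  rw [← LinearMap.det_conj (LinearMap.mulLeft K M) (colEquiv (K := K) (n := n)), colEquiv_mulLeft,
    LinearMap.det_pi]
  simp only [LinearMap.det_toLin', Finset.prod_const, Finset.card_univ, Fintype.card_fin]

theorem trace_mulLeft_matrix (M : Matrix (Fin n) (Fin n) K) :
    LinearMap.trace K _ (LinearMap.mulLeft K M) = n • M.trace := by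
  have h := LinearMap.trace_conj' (LinearMap.mulLeft K M) (colEquiv (K := K) (n := n))
  rw [← h]
  have h2 : (colEquiv (K := K) (n := n)).conj (LinearMap.mulLeft K M) =
      LinearMap.pi (fun j => (Matrix.toLin' M).comp (LinearMap.proj j)) := by
    rw [← colEquiv_mulLeft]
    rfl
  rw [h2, trace_pi]
  simp only [Matrix.trace_toLin'_eq, Finset.sum_const, Finset.card_univ, Fintype.card_fin]

end MatMul

section Split

variable {k : Type u} [Field k] {K : Type v} [Field K] [Algebra k K]
  {A : Type w} [Ring A] [Algebra k A] [FiniteDimensional k A] {n' : ℕ}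
  (φ : K ⊗[k] A ≃ₐ[K] Matrix (Fin n') (Fin n') K)

theorem baseChange_mulLeft (a : A) :
    (LinearMap.mulLeft k a).baseChange K = LinearMap.mulLeft K ((1 : K) ⊗ₜ[k] a) := by
  apply LinearMap.ext
  intro t
  induction t using TensorProduct.induction_on with
  | zero => rw [map_zero, map_zero]
  | tmul x b =>
    rw [LinearMap.baseChange_tmul, LinearMap.mulLeft_apply, LinearMap.mulLeft_apply,
      Algebra.TensorProduct.tmul_mul_tmul, one_mul]
  | add s t hs ht => rw [map_add, map_add, hs, ht]

theorem mulLeft_conj (t : K ⊗[k] A) :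
    LinearMap.mulLeft K (φ t) =
      (φ.toLinearEquiv : K ⊗[k] A →ₗ[K] _) ∘ₗ LinearMap.mulLeft K t ∘ₗ
        (φ.toLinearEquiv.symm : _ →ₗ[K] K ⊗[k] A) := by
  apply LinearMap.ext
  intro M
  show φ t * M = φ (t * φ.symm M)
  rw [map_mul, AlgEquiv.apply_symm_apply]

theorem algebraMap_norm_eq (a : A) :
    algebraMap k K (Algebra.norm k a) = (φ ((1 : K) ⊗ₜ[k] a)).det ^ n' := by
  have h1 : Algebra.norm k a = LinearMap.det (LinearMap.mulLeft k a) := rfl
  rw [h1, ← LinearMap.det_baseChange (A := K), baseChange_mulLeft, ← det_mulLeft_matrix,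
    mulLeft_conj φ, LinearMap.det_conj]

theorem algebraMap_trace_eq (a : A) :
    algebraMap k K (LinearMap.trace k A (LinearMap.mulLeft k a)) =
      n' • (φ ((1 : K) ⊗ₜ[k] a)).trace := by
  rw [← LinearMap.trace_baseChange, baseChange_mulLeft, ← trace_mulLeft_matrix, mulLeft_conj φ]
  exact (LinearMap.trace_conj' (LinearMap.mulLeft K ((1 : K) ⊗ₜ[k] a)) φ.toLinearEquiv).symm

include φ in
theorem size_eq_of_finrank {n : ℕ} (hn : Module.finrank k A = n ^ 2) : n' = n := by
  have h1 : Module.finrank K (K ⊗[k] A) = Module.finrank k A := Module.finrank_baseChange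
  have h2 : Module.finrank K (K ⊗[k] A) = Module.finrank K (Matrix (Fin n') (Fin n') K) :=
    LinearEquiv.finrank_eq φ.toLinearEquiv
  rw [h1, hn, Module.finrank_matrix, Fintype.card_fin, Module.finrank_self, mul_one, ← sq] at h2
  exact (Nat.pow_left_injective (by norm_num : 2 ≠ 0) h2).symm

end Split

end Groth.Agent.H66
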