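import Mathlib
import Groth.Prelude.Def_W4c1hurwitzcptBd
import Groth.Agent.H97.RootDisk

/-!
# Lattices in `k⟦x⟧` over `k⟦x^p⟧`: bases with valuations distinct modulo `p`
-/

namespace Groth.Agent.H66.RootLattice

open W4c1hurwitzcpt PowerSeries

universe u
variable {p : ℕ} [NeZero p] {k : Type u} [Field k]

/-- the `x`-adic valuation -/
noncomputable def ν (y : RootDisk p k) : ℕ∞ := PowerSeries.order (RootDisk.val y)

theorem ν_smul (r : PowerSeries k) (y : RootDisk p k) :
    ν (r • y) = p • PowerSeries.order r + ν y :=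
  Groth.Agent.H97.order_val_smul r y

theorem ν_eq_top_iff (y : RootDisk p k) : ν y = ⊤ ↔ y = 0 := by
  unfold ν
  rw [PowerSeries.order_eq_top]
  exact map_eq_zero_iff _ RootDisk.val.injective

theorem ν_zero : ν (0 : RootDisk p k) = ⊤ := (ν_eq_top_iff 0).mpr rfl

theorem smul_eq_zero_iff (r : PowerSeries k) (y : RootDisk p k) :
    r • y = 0 ↔ r = 0 ∨ y = 0 := by
  constructor
  · intro h
    rw [← ν_eq_top_iff, ν_smul] at h
    rcases WithTop.add_eq_top.mp h with h | h
    · left
      by_contra hr
      have hfin : PowerSeries.order r ≠ ⊤ := fun h' => hr (PowerSeries.order_eq_top.mp h')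
      obtain ⟨n, hn⟩ := ENat.ne_top_iff_exists.mp hfin
      rw [← hn] at h
      exact absurd h (by
        rw [nsmul_eq_mul]
        exact_mod_cast ENat.coe_ne_top (p * n))
    · right
      exact (ν_eq_top_iff y).mp h
  · rintro (rfl | rfl)
    · simp
    · simp

/-- the element `x ^ r` -/
noncomputable def xpow (r : ℕ) : RootDisk p k := RootDisk.val.symm ((X : PowerSeries k) ^ r)

theorem val_xpow (r : ℕ) : RootDisk.val (xpow (p := p) (k := k) r) = (X : PowerSeries k) ^ r := by
  unfold xpow
  simp

theorem ν_xpow (r : ℕ) : ν (xpow (p := p) (k := k) r) = r := by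
  unfold ν
  rw [val_xpow, PowerSeries.order_X_pow]

/-- `k⟦x⟧` is spanned over `k⟦x^p⟧` by `1, x, …, x^(p-1)` -/
theorem span_xpow : Submodule.span (PowerSeries k)
    (Set.range fun r : Fin p => xpow (p := p) (k := k) r) = ⊤ := by
  classical
  rw [eq_top_iff]
  intro y _
  have hp : 0 < p := Nat.pos_of_ne_zero (NeZero.ne p)
  let f : Fin p → PowerSeries k := fun r =>
    PowerSeries.mk fun n => PowerSeries.coeff (p * n + r) (RootDisk.val y)
  have hy : y = ∑ r : Fin p, f r • xpow (p := p) (k := k) r := by
    apply RootDisk.val.injective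
    rw [map_sum]
    ext m
    rw [map_sum]
    simp only [Groth.Agent.H97.val_smul, val_xpow, PowerSeries.coeff_mul_X_pow',
      PowerSeries.coeff_expand]
    rw [Finset.sum_eq_single (⟨m % p, Nat.mod_lt _ hp⟩ : Fin p)]
    · have h1 : m % p ≤ m := Nat.mod_le _ _
      have h2 : p ∣ m - m % p := Nat.dvd_sub_mod m
      simp only [h1, h2, if_true, f, PowerSeries.coeff_mk]
      rw [Nat.mul_div_cancel' h2, Nat.sub_add_cancel h1]
    · intro r _ hr
      by_cases h1 : (r : ℕ) ≤ m
      · simp only [h1, if_true]
        by_cases h2 : p ∣ m - r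
        · exfalso
          apply hr
          apply Fin.ext
          simp only
          obtain ⟨q, hq⟩ := h2
          have : m = p * q + r := by omega
          rw [this, Nat.mul_add_mod, Nat.mod_eq_of_lt r.2]
        · simp [h2]
      · simp [h1]
    · intro h
      exact absurd (Finset.mem_univ _) h
  rw [hy]
  exact Submodule.sum_mem _ fun r _ => Submodule.smul_mem _ _ (Submodule.subset_span ⟨r, rfl⟩)

/-- dependence: any `p` independent vectors span a finite-index sublattice -/
theorem exists_smul_eq_sum (u : Fin p → RootDisk p k) (hu : LinearIndependent (PowerSeries k) u)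
    (y : RootDisk p k) :
    ∃ (c : PowerSeries k) (a : Fin p → PowerSeries k), c ≠ 0 ∧ c • y = ∑ i, a i • u i := by
  classical
  have hnot : ¬ LinearIndependent (PowerSeries k) (Fin.cons y u : Fin (p + 1) → RootDisk p k) := by
    intro hli
    have h := linearIndependent_le_span _ hli _ (span_xpow (p := p) (k := k))
    rw [Cardinal.mk_fin] at h
    have h2 : Fintype.card (Set.range fun r : Fin p => xpow (p := p) (k := k) r) ≤ p := by
      refine (Fintype.card_range_le _).trans ?_
      simp
    have h3 : (p + 1 : ℕ) ≤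
        Fintype.card (Set.range fun r : Fin p => xpow (p := p) (k := k) r) := by
      exact_mod_cast h
    omega
  rw [Fintype.not_linearIndependent_iff] at hnot
  obtain ⟨d, hd, i, hi⟩ := hnot
  rw [Fin.sum_univ_succ] at hd
  simp only [Fin.cons_zero, Fin.cons_succ] at hd
  have hd0 : d 0 ≠ 0 := by
    intro h0
    rw [h0, zero_smul, zero_add] at hd
    have hall := (Fintype.linearIndependent_iff.mp hu) (fun i => d i.succ) hd
    refine hi ?_
    refine Fin.cases h0 (fun j => hall j) i
  refine ⟨d 0, fun i => -d i.succ, hd0, ?_⟩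
  rw [eq_neg_of_add_eq_zero_left hd]
  simp [Finset.sum_neg_distrib]

/-- the order of a sum with a unique term of least order -/
theorem order_sum_eq {ι : Type*} (s : Finset ι) (φ : ι → PowerSeries k) (i0 : ι) (hi0 : i0 ∈ s)
    (n : ℕ) (h0 : PowerSeries.order (φ i0) = n)
    (h : ∀ i ∈ s, i ≠ i0 → (n : ℕ∞) < PowerSeries.order (φ i)) :
    PowerSeries.order (∑ i ∈ s, φ i) = n := by
  classical
  rw [PowerSeries.order_eq_nat] at h0 ⊢
  have hc : ∀ m : ℕ, m ≤ n → PowerSeries.coeff m (∑ i ∈ s, φ i) = PowerSeries.coeff m (φ i0) := by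
    intro m hm
    rw [map_sum, Finset.sum_eq_single i0]
    · intro i hi hne
      apply PowerSeries.coeff_of_lt_order
      exact lt_of_le_of_lt (by exact_mod_cast hm) (h i hi hne)
    · intro h'
      exact absurd hi0 h'
  refine ⟨by rw [hc n le_rfl]; exact h0.1, fun m hm => ?_⟩
  rw [hc m hm.le]
  exact h0.2 m hm

section family

variable (g : Fin p → RootDisk p k) (v : Fin p → ℕ) (hgv : ∀ r, ν (g r) = v r)
  (hv : ∀ r : Fin p, v r % p = r)

include hgv hv in
/-- valuations of combinations of a family with valuations in distinct classes -/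
theorem ν_sum (a : Fin p → PowerSeries k) (ha : ∃ r, a r ≠ 0) :
    ∃ r0, a r0 ≠ 0 ∧
      ν (∑ r, a r • g r) = ((p * (PowerSeries.order (a r0)).toNat + v r0 : ℕ) : ℕ∞) := by
  classical
  obtain ⟨r1, hr1⟩ := ha
  have hne : (Finset.univ.filter fun r => a r ≠ 0).Nonempty := ⟨r1, by simp [hr1]⟩
  obtain ⟨r0, hr0mem, hr0min⟩ := Finset.exists_min_image _
    (fun r => p * (PowerSeries.order (a r)).toNat + v r) hne
  have hr0 : a r0 ≠ 0 := (Finset.mem_filter.mp hr0mem).2
  have hval : ∀ r, a r ≠ 0 →
      ν (a r • g r) = ((p * (PowerSeries.order (a r)).toNat + v r : ℕ) : ℕ∞) := by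
    intro r hr
    have hfin : PowerSeries.order (a r) ≠ ⊤ := fun h' => hr (PowerSeries.order_eq_top.mp h')
    rw [ν_smul, hgv r, nsmul_eq_mul]
    conv_lhs => rw [← ENat.coe_toNat hfin]
    push_cast
    rfl
  refine ⟨r0, hr0, ?_⟩
  unfold ν
  rw [map_sum]
  apply order_sum_eq Finset.univ _ r0 (Finset.mem_univ _)
  · exact hval r0 hr0
  · intro r _ hne
    by_cases hr : a r = 0
    · rw [hr, zero_smul, map_zero, PowerSeries.order_zero]
      exact ENat.coe_lt_top _
    · have h1 := hval r hr
      unfold ν at h1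
      rw [h1]
      have h2 := hr0min r (by simp [hr])
      have h3 : p * (PowerSeries.order (a r0)).toNat + v r0 ≠
          p * (PowerSeries.order (a r)).toNat + v r := by
        intro heq
        apply hne
        have := congrArg (· % p) heq
        simp only [Nat.mul_add_mod, hv] at this
        exact Fin.ext this.symm
      exact_mod_cast lt_of_le_of_ne h2 h3

include hgv hv in
theorem linearIndependent_family : LinearIndependent (PowerSeries k) g := by
  rw [Fintype.linearIndependent_iff]
  intro a ha
  by_contra hcon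
  push Not at hcon
  obtain ⟨r0, -, h⟩ := ν_sum g v hgv hv a hcon
  rw [ha, ν_zero] at h
  exact absurd h (ENat.top_ne_coe _)

end family

theorem order_eq_zero_of_not_X_dvd {a : PowerSeries k} (h : ¬ (X : PowerSeries k) ∣ a) :
    PowerSeries.order a = 0 := by
  by_contra hne
  apply h
  rw [PowerSeries.X_dvd_iff, ← PowerSeries.coeff_zero_eq_constantCoeff_apply]
  apply PowerSeries.coeff_of_lt_order
  exact_mod_cast pos_iff_ne_zero.mpr hne

/-- a rank `p` lattice in `k⟦x⟧` over `k⟦x^p⟧` has a basis with valuations in distinct classes -/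
theorem exists_good_basis (M : Submodule (PowerSeries k) (RootDisk p k))
    (bM : Module.Basis (Fin p) (PowerSeries k) M) :
    ∃ g : Module.Basis (Fin p) (PowerSeries k) M,
      ∀ r : Fin p, ∃ n : ℕ, ν ((g r : M) : RootDisk p k) = n ∧ n % p = r := by
  classical
  have hp : 0 < p := Nat.pos_of_ne_zero (NeZero.ne p)
  have hbli : LinearIndependent (PowerSeries k) (fun i => ((bM i : M) : RootDisk p k)) :=
    bM.linearIndependent.map' M.subtype (Submodule.ker_subtype _)
  -- every class occurs
  have hclass : ∀ r : Fin p, ∃ n : ℕ, n % p = r ∧ ∃ y ∈ M, ν y = n := by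
    intro r
    obtain ⟨c, a, hc, hca⟩ := exists_smul_eq_sum _ hbli (xpow (p := p) (k := k) r)
    have hfin : PowerSeries.order c ≠ ⊤ := fun h' => hc (PowerSeries.order_eq_top.mp h')
    refine ⟨p * (PowerSeries.order c).toNat + r, ?_, c • xpow (p := p) (k := k) r, ?_, ?_⟩
    · rw [Nat.mul_add_mod, Nat.mod_eq_of_lt r.2]
    · rw [hca]
      exact Submodule.sum_mem _ fun i _ => Submodule.smul_mem _ _ (bM i).2
    · rw [ν_smul, ν_xpow, nsmul_eq_mul]
      conv_lhs => rw [← ENat.coe_toNat hfin]
      push_cast
      rfl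
  have hmin : ∀ r : Fin p, ∃ n : ℕ, (n % p = r ∧ ∃ y ∈ M, ν y = n) ∧
      ∀ m, (m % p = r ∧ ∃ y ∈ M, ν y = m) → n ≤ m :=
    fun r => ⟨Nat.find (hclass r), Nat.find_spec (hclass r),
      fun m hm => Nat.find_min' (hclass r) hm⟩
  choose v hv hvmin using hmin
  choose g hgM hgν using fun r => (hv r).2
  have hvr : ∀ r : Fin p, v r % p = r := fun r => (hv r).1
  have hgli := linearIndependent_family g v hgν hvr
  set N : Submodule (PowerSeries k) (RootDisk p k) :=
    Submodule.span (PowerSeries k) (Set.range g) with hN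
  have hNM : N ≤ M := Submodule.span_le.mpr (by rintro _ ⟨r, rfl⟩; exact hgM r)
  have hgN : ∀ r, g r ∈ N := fun r => Submodule.subset_span ⟨r, rfl⟩
  -- the socle step
  have hsocle : ∀ f ∈ M, (X : PowerSeries k) • f ∈ N → f ∈ N := by
    intro f hfM hf
    obtain ⟨a, ha⟩ := (Submodule.mem_span_range_iff_exists_fun (PowerSeries k)).mp hf
    have hq : ∀ r, ∃ q, (X : PowerSeries k) ∣ a r → a r = X * q := by
      intro r
      by_cases h : (X : PowerSeries k) ∣ a r
      · exact ⟨h.choose, fun _ => h.choose_spec⟩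
      · exact ⟨0, fun h' => absurd h' h⟩
    choose q hq using hq
    set h : RootDisk p k := f - ∑ r, (if (X : PowerSeries k) ∣ a r then q r else 0) • g r with hh
    have hhM : h ∈ M := Submodule.sub_mem _ hfM
      (Submodule.sum_mem _ fun r _ => Submodule.smul_mem _ _ (hgM r))
    set a'' : Fin p → PowerSeries k := fun r => if (X : PowerSeries k) ∣ a r then 0 else a r
      with ha''
    have hth : (X : PowerSeries k) • h = ∑ r, a'' r • g r := by
      rw [hh, smul_sub, ← ha, Finset.smul_sum, ← Finset.sum_sub_distrib]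
      refine Finset.sum_congr rfl fun r _ => ?_
      by_cases hd : (X : PowerSeries k) ∣ a r
      · simp only [ha'', hd, if_true, zero_smul]
        rw [smul_smul, ← hq r hd, sub_self]
      · simp [ha'', hd]
    by_cases hall : ∀ r, a'' r = 0
    · have h0 : (X : PowerSeries k) • h = 0 := by
        rw [hth]; simp [hall]
      rcases (smul_eq_zero_iff _ _).mp h0 with hX | hh0
      · exact absurd hX PowerSeries.X_ne_zero
      · have hf' : f = ∑ r, (if (X : PowerSeries k) ∣ a r then q r else 0) • g r := by
          rw [← sub_eq_zero]; exact hh0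
        rw [hf']
        exact Submodule.sum_mem _ fun r _ => Submodule.smul_mem _ _ (hgN r)
    · exfalso
      push Not at hall
      obtain ⟨r0, hr0, hν⟩ := ν_sum g v hgν hvr a'' hall
      have hnd : ¬ (X : PowerSeries k) ∣ a r0 := by
        intro hd
        simp [ha'', hd] at hr0
      have ha''r0 : a'' r0 = a r0 := by simp [ha'', hnd]
      have hord : (PowerSeries.order (a'' r0)).toNat = 0 := by
        rw [ha''r0, order_eq_zero_of_not_X_dvd hnd]
        rfl
      rw [← hth, ν_smul, PowerSeries.order_X, hord] at hν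
      have hfin : ν h ≠ ⊤ := by
        intro htop
        rw [htop] at hν
        simp at hν
      obtain ⟨n', hn'⟩ := ENat.ne_top_iff_exists.mp hfin
      rw [← hn'] at hν
      have hν' : p + n' = v r0 := by
        have : ((p + n' : ℕ) : ℕ∞) = ((p * 0 + v r0 : ℕ) : ℕ∞) := by
          rw [← hν]; push_cast; simp
        have := ENat.coe_inj.mp this
        omega
      have hmod : n' % p = r0 := by
        have := hvr r0
        rw [← hν', Nat.add_mod_left] at this
        exact this
      have := hvmin r0 n' ⟨hmod, h, hhM, hn'.symm⟩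
      omega
  -- `M / N` is torsion
  have htors : ∀ f ∈ M, ∃ j : ℕ, ((X : PowerSeries k) ^ j) • f ∈ N := by
    intro f _
    obtain ⟨c, a, hc, hca⟩ := exists_smul_eq_sum g hgli f
    obtain ⟨j, u, hu⟩ := IsDiscreteValuationRing.eq_unit_mul_pow_irreducible hc
      (PowerSeries.X_irreducible (R := k))
    refine ⟨j, ?_⟩
    have h1 : ((X : PowerSeries k) ^ j) • f = ((u⁻¹ : (PowerSeries k)ˣ) : PowerSeries k) • (c • f) := by
      rw [smul_smul, hu, ← mul_assoc, Units.inv_mul, one_mul]
    rw [h1, hca]
    exact Submodule.smul_mem _ _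
      (Submodule.sum_mem _ fun r _ => Submodule.smul_mem _ _ (hgN r))
  have hind : ∀ j : ℕ, ∀ f ∈ M, ((X : PowerSeries k) ^ j) • f ∈ N → f ∈ N := by
    intro j
    induction j with
    | zero =>
      intro f _ h
      simpa using h
    | succ j ih =>
      intro f hfM h
      apply hsocle f hfM
      apply ih ((X : PowerSeries k) • f) (M.smul_mem _ hfM)
      rw [smul_smul, ← pow_succ]
      exact h
  have hMN : M ≤ N := fun f hf => by
    obtain ⟨j, hj⟩ := htors f hf
    exact hind j f hf hj
  let g' : Fin p → M := fun r => ⟨g r, hgM r⟩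
  have hli' : LinearIndependent (PowerSeries k) g' :=
    LinearIndependent.of_comp M.subtype hgli
  have hsp' : ⊤ ≤ Submodule.span (PowerSeries k) (Set.range g') := by
    intro x _
    have hx : (x : RootDisk p k) ∈ N := hMN x.2
    obtain ⟨a, ha⟩ := (Submodule.mem_span_range_iff_exists_fun (PowerSeries k)).mp hx
    have hx' : x = ∑ r, a r • g' r := by
      apply Subtype.ext
      rw [← ha, Submodule.coe_sum]
      rfl
    rw [hx']
    exact Submodule.sum_mem _ fun r _ => Submodule.smul_mem _ _ (Submodule.subset_span ⟨r, rfl⟩)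
  refine ⟨Module.Basis.mk hli' hsp', fun r => ⟨v r, ?_, hvr r⟩⟩
  rw [Module.Basis.mk_apply]
  exact hgν r

end Groth.Agent.H66.RootLattice
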