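import Mathlib
import Groth.Agent.H66.RootLattice

/-!
# The simply ramified triple cover: lattices in `k⟦x⟧ × k⟦t⟧` containing `1`
-/

namespace Groth.Agent.H66.RootLattice2

open W4c1hurwitzcpt PowerSeries Groth.Agent.H66.RootLattice

universe u
variable {k : Type u} [Field k]

instance : Module.IsTorsionFree (PowerSeries k) (RootDisk 2 k) :=
  Module.IsTorsionFree.of_smul_eq_zero fun r m h => (smul_eq_zero_iff r m).mp h

theorem main (M : Submodule (PowerSeries k) (RootDisk 2 k × PowerSeries k))
    (h1 : (1 : (RootDisk 2 k × PowerSeries k)) ∈ M)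
    (bM : Module.Basis (Fin 3) (PowerSeries k) M) :
    ∃ f₁ f₂ : RootDisk 2 k,
      ¬ Nat.ModEq 2 (PowerSeries.order (RootDisk.val f₁)).toNat
        (PowerSeries.order (RootDisk.val f₂)).toNat ∧
      M = Submodule.span (PowerSeries k)
        {(1 : (RootDisk 2 k × PowerSeries k)), (f₁, 0), (f₂, 0)} := by
  classical
  -- the sublattice `M₀ = M ∩ (k⟦x⟧ × 0)`
  set M₀ : Submodule (PowerSeries k) (RootDisk 2 k) :=
    M.comap (LinearMap.inl (PowerSeries k) (RootDisk 2 k) (PowerSeries k)) with hM₀
  have hmem₀ : ∀ y : RootDisk 2 k, y ∈ M₀ ↔ ((y, 0) : RootDisk 2 k × PowerSeries k) ∈ M := by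
    intro y
    rw [hM₀, Submodule.mem_comap]
    rfl
  have hsplit : ∀ x : RootDisk 2 k × PowerSeries k, x ∈ M → x.1 - x.2 • (1 : RootDisk 2 k) ∈ M₀ := by
    intro x hx
    rw [hmem₀]
    have : ((x.1 - x.2 • (1 : RootDisk 2 k), 0) : RootDisk 2 k × PowerSeries k) =
        x - x.2 • (1 : RootDisk 2 k × PowerSeries k) := by
      ext <;> simp
    rw [this]
    exact M.sub_mem hx (M.smul_mem _ h1)
  -- `M ≃ R × M₀`
  let φ : M →ₗ[PowerSeries k] (PowerSeries k × M₀) :=
    { toFun := fun x => (x.1.2, ⟨x.1.1 - x.1.2 • (1 : RootDisk 2 k), hsplit x.1 x.2⟩)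
      map_add' := by
        intro x y
        ext
        · simp
        · simp [add_smul]; abel
      map_smul' := by
        intro c x
        ext
        · simp
        · simp [smul_sub, smul_smul] }
  let ψ : (PowerSeries k × M₀) →ₗ[PowerSeries k] M :=
    { toFun := fun z => ⟨((z.2 : RootDisk 2 k) + z.1 • (1 : RootDisk 2 k), z.1), by
        have h2 : (((z.2 : RootDisk 2 k) + z.1 • (1 : RootDisk 2 k), z.1) :
            RootDisk 2 k × PowerSeries k) =
            ((z.2 : RootDisk 2 k), 0) + z.1 • (1 : RootDisk 2 k × PowerSeries k) := by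
          ext <;> simp
        rw [h2]
        exact M.add_mem ((hmem₀ _).mp z.2.2) (M.smul_mem _ h1)⟩
      map_add' := by
        intro x y
        ext
        · simp [add_smul]; abel
        · simp
      map_smul' := by
        intro c x
        ext
        · simp [smul_add, smul_smul]
        · simp }
  let e : M ≃ₗ[PowerSeries k] (PowerSeries k × M₀) :=
    LinearEquiv.ofLinear φ ψ
      (by
        ext z
        · simp [φ, ψ]
        · simp [φ, ψ]
        · simp [φ, ψ]
        · simp [φ, ψ])
      (by
        ext x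
        · simp [φ, ψ]
        · simp [φ, ψ])
  haveI : Module.Finite (PowerSeries k) M := Module.Finite.of_basis bM
  haveI : Module.Finite (PowerSeries k) (PowerSeries k × M₀) := Module.Finite.equiv e
  haveI : Module.Finite (PowerSeries k) M₀ :=
    Module.Finite.of_surjective (LinearMap.snd (PowerSeries k) (PowerSeries k) M₀)
      LinearMap.snd_surjective
  have hrank : Module.finrank (PowerSeries k) M₀ = 2 := by
    have h3 : Module.finrank (PowerSeries k) M = 3 := by
      rw [Module.finrank_eq_card_basis bM]; simp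
    have h4 := e.finrank_eq
    rw [Module.finrank_prod, Module.finrank_self, h3] at h4
    omega
  let b₀ : Module.Basis (Fin 2) (PowerSeries k) M₀ := Module.finBasisOfFinrankEq _ _ hrank
  obtain ⟨g, hg⟩ := exists_good_basis M₀ b₀
  refine ⟨(g 0 : M₀), (g 1 : M₀), ?_, ?_⟩
  · intro hmod
    obtain ⟨n0, hn0, h0⟩ := hg 0
    obtain ⟨n1, hn1, h1'⟩ := hg 1
    unfold ν at hn0 hn1
    rw [hn0, hn1] at hmod
    simp only [ENat.toNat_coe] at hmod
    unfold Nat.ModEq at hmod
    rw [h0, h1'] at hmod
    simp at hmod
  · apply le_antisymm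
    · intro x hx
      have hx0 := hsplit x hx
      have hsp : (⟨_, hx0⟩ : M₀) ∈ Submodule.span (PowerSeries k) (Set.range g) := by
        rw [g.span_eq]; trivial
      obtain ⟨a, ha⟩ := (Submodule.mem_span_range_iff_exists_fun (PowerSeries k)).mp hsp
      have ha' : x.1 - x.2 • (1 : RootDisk 2 k) = a 0 • (g 0 : M₀) + a 1 • (g 1 : M₀) := by
        have := congrArg Subtype.val ha
        rw [Fin.sum_univ_two] at this
        simpa using this.symm
      have hx' : x = x.2 • (1 : RootDisk 2 k × PowerSeries k) +
          (a 0 • (((g 0 : M₀) : RootDisk 2 k), (0 : PowerSeries k)) +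
            a 1 • (((g 1 : M₀) : RootDisk 2 k), (0 : PowerSeries k))) := by
        ext
        · simp only [Prod.fst_add, Prod.smul_fst, Prod.fst_one]
          rw [← ha']
          abel
        · simp
      rw [hx']
      refine Submodule.add_mem _ (Submodule.smul_mem _ _ (Submodule.subset_span (by simp)))
        (Submodule.add_mem _ (Submodule.smul_mem _ _ (Submodule.subset_span (by simp)))
          (Submodule.smul_mem _ _ (Submodule.subset_span (by simp))))
    · rw [Submodule.span_le]
      intro x hx
      simp only [Set.mem_insert_iff, Set.mem_singleton_iff] at hx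
      rcases hx with rfl | rfl | rfl
      · exact h1
      · exact (hmem₀ _).mp (g 0 : M₀).2
      · exact (hmem₀ _).mp (g 1 : M₀).2

end Groth.Agent.H66.RootLattice2
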