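import Mathlib
import Groth.Agent.H15.FinPts

set_option autoImplicit false
set_option linter.style.haveILetI false
set_option linter.unusedSectionVars false

/-!
# Separable degree of the residue field of a finite local algebra under base field extension
-/

namespace Groth.Agent.H66.SepDegBC

open TensorProduct Groth.Agent.H15.FinPts

universe u

variable (k A k' : Type u) [Field k] [CommRing A] [Algebra k A] [Module.Finite k A]
  [Field k'] [Algebra k k']

/-- the sum over the prime spectrum rewritten over the maximal spectrum -/
theorem card_algHom_eq_sum_max (Ω : Type u) [Field Ω] [Algebra k Ω] [IsAlgClosed Ω] :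
    Nat.card (A →ₐ[k] Ω) =
      ∑ᶠ m : MaximalSpectrum A,
        Field.finSepDegree k (IsLocalRing.ResidueField (Localization.AtPrime m.asIdeal)) := by
  haveI : IsArtinianRing A := IsArtinianRing.of_finite k A
  rw [card_algHom_eq_sum k A Ω]
  exact finsum_eq_of_bijective IsArtinianRing.primeSpectrumEquivMaximalSpectrum
    (IsArtinianRing.primeSpectrumEquivMaximalSpectrum (R := A)).bijective (fun p => rfl)

theorem main [IsLocalRing A] :
    Field.finSepDegree k (IsLocalRing.ResidueField A) =
      ∑ᶠ m : MaximalSpectrum (k' ⊗[k] A),
        Field.finSepDegree k' (IsLocalRing.ResidueField (Localization.AtPrime m.asIdeal)) := by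
  let Ω := AlgebraicClosure k'
  rw [← card_algHom_eq_sum_max k' (k' ⊗[k] A) Ω,
    ← Nat.card_congr (AlgHom.liftEquiv k k' A Ω)]
  -- count the homs out of the local algebra
  haveI : Algebra.IsAlgebraic k (IsLocalRing.ResidueField A) := Algebra.IsAlgebraic.of_finite k _
  rw [Field.finSepDegree_eq_of_isAlgClosed k (IsLocalRing.ResidueField A) Ω]
  haveI : IsArtinianRing A := IsArtinianRing.of_finite k A
  refine Nat.card_congr ?_
  exact
    { toFun := fun ψ => ψ.comp (IsScalarTower.toAlgHom k A (IsLocalRing.ResidueField A))
      invFun := fun φ => Ideal.Quotient.liftₐ (IsLocalRing.maximalIdeal A) φ (fun a ha => by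
        have hker : RingHom.ker φ.toRingHom = IsLocalRing.maximalIdeal A := by
          haveI : (RingHom.ker φ.toRingHom).IsPrime := RingHom.ker_isPrime _
          haveI : (RingHom.ker φ.toRingHom).IsMaximal := IsArtinianRing.isMaximal_of_isPrime _
          exact IsLocalRing.eq_maximalIdeal inferInstance
        rw [← hker] at ha
        exact ha)
      left_inv := fun ψ => by
        ext a
        obtain ⟨a, rfl⟩ := Ideal.Quotient.mk_surjective a
        rfl
      right_inv := fun φ => by
        ext a
        rfl }

end Groth.Agent.H66.SepDegBC
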