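import Mathlib
import Groth.Prelude.Def_CAlg2
import Groth.Prelude.Def_Hensel
import Groth.Agent.H66.SmoothGU
import Groth.Agent.H3.StrictHensBaseEquiv
import Groth.Agent.H14.HensProp.BranchCount

/-!
# Geometric branches of smooth algebras

For a smooth ring map `R → S` and a prime `q` of `S` over `p`, the strict henselizations of `R_p`
and `S_q` have the same number of minimal primes.
-/

set_option autoImplicit false
set_option linter.style.haveILetI false
universe u

namespace Groth.Agent.H66.SmoothBranch

open IsLocalRing Groth.Agent.H3.UnionEtale Groth.Agent.H66.PolyUnibranch Groth.Agent.H66.SmoothGU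

section Count

/-- a faithfully flat algebra in which the extension of every minimal prime is prime has as many
minimal primes as the base -/
theorem bijOn_comap_minimalPrimes (A T : Type u) [CommRing A] [CommRing T] [Algebra A T]
    [Module.FaithfullyFlat A T]
    (h : ∀ P ∈ minimalPrimes A, (P.map (algebraMap A T)).IsPrime) :
    Set.BijOn (Ideal.comap (algebraMap A T)) (minimalPrimes T) (minimalPrimes A) := by
  have hmaps : Set.MapsTo (Ideal.comap (algebraMap A T)) (minimalPrimes T) (minimalPrimes A) := by
    intro Q hQ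
    haveI hQp : Q.IsPrime := hQ.1.1
    refine ⟨⟨Ideal.comap_isPrime _ Q, bot_le⟩, ?_⟩
    rintro P' ⟨hP', -⟩ hle
    haveI := hP'
    haveI : Q.LiesOver (Q.comap (algebraMap A T)) := ⟨rfl⟩
    obtain ⟨Q', hQ'le, hQ'p, hQ'o⟩ := Ideal.exists_ideal_le_liesOver_of_le (p := P')
      (q := Q.comap (algebraMap A T)) Q hle
    have hQ'Q : Q ≤ Q' := hQ.2 ⟨hQ'p, bot_le⟩ hQ'le
    rw [hQ'o.over]
    exact Ideal.comap_mono hQ'Q
  refine ⟨hmaps, ?_, ?_⟩
  · intro Q₁ hQ₁ Q₂ hQ₂ h12
    have key : ∀ Q ∈ minimalPrimes T, Q = (Q.comap (algebraMap A T)).map (algebraMap A T) := by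
      intro Q hQ
      have hpr := h _ (hmaps hQ)
      exact le_antisymm (hQ.2 ⟨hpr, bot_le⟩ Ideal.map_comap_le) Ideal.map_comap_le
    have h12' : Q₁.comap (algebraMap A T) = Q₂.comap (algebraMap A T) := h12
    rw [key Q₁ hQ₁, key Q₂ hQ₂, h12']
  · intro P hP
    obtain ⟨Q, hQ, hQP⟩ :=
      Groth.Agent.H14.HensProp.BranchCount.exists_minimalPrimes_comap_eq A T P hP
    exact ⟨Q, hQ, hQP⟩

theorem encard_minimalPrimes_eq (A T : Type u) [CommRing A] [CommRing T] [Algebra A T]
    [Module.FaithfullyFlat A T]
    (h : ∀ P ∈ minimalPrimes A, (P.map (algebraMap A T)).IsPrime) :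
    (minimalPrimes A).encard = (minimalPrimes T).encard :=
  (Set.encard_congr (Set.BijOn.equiv _ (bijOn_comap_minimalPrimes A T h))).symm

end Count

section Core

/-- **Prime ideals of a strictly henselian local ring extend to prime ideals** of flat local
unions of étale images over local rings of smooth algebras at points of the closed fibre. -/
theorem isPrime_map_of_strictlyHenselian
    (R R' T : Type u) [CommRing R] [HenselianLocalRing R]
    [IsSepClosed (ResidueField R)]
    [CommRing R'] [Algebra R R'] [Algebra.Smooth R R']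
    (q : Ideal R') [q.IsPrime] (hq : (maximalIdeal R).map (algebraMap R R') ≤ q)
    [CommRing T] [IsLocalRing T] [Algebra (Localization.AtPrime q) T]
    [IsLocalHom (algebraMap (Localization.AtPrime q) T)] [Module.Flat (Localization.AtPrime q) T]
    (hU : IsUnion (Localization.AtPrime q) T)
    (I : Ideal R) [hIprime : I.IsPrime] :
    (((I.map (algebraMap R R')).map (algebraMap R' (Localization.AtPrime q))).map
      (algebraMap (Localization.AtPrime q) T)).IsPrime := by
  have hIne : I ≠ ⊤ := hIprime.ne_top
  have hIp : I ≤ maximalIdeal R := IsLocalRing.le_maximalIdeal hIne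
  have hqp : q.comap (algebraMap R R') = maximalIdeal R := by
    have hc : (q.comap (algebraMap R R')).IsPrime := Ideal.comap_isPrime _ _
    exact le_antisymm (IsLocalRing.le_maximalIdeal hc.ne_top) (Ideal.map_le_iff_le_comap.mp hq)
  -- the quotient `R₁ = R ⧸ I` is a strictly henselian local domain
  haveI : IsDomain (R ⧸ I) := Ideal.Quotient.isDomain _
  haveI hH : HenselianLocalRing (R ⧸ I) :=
    Groth.Agent.H3.henselianLocalRing_quotient R _ hIne
  haveI : IsSepClosed (ResidueField (R ⧸ I)) := isSepClosed_quot R _ hIne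
  have hmax : (maximalIdeal R).map (Ideal.Quotient.mk I) =
      maximalIdeal (R ⧸ I) :=
    (Groth.Agent.H3.maximalIdeal_quotient R I).symm
  haveI hp' : ((maximalIdeal R).map (Ideal.Quotient.mk I)).IsPrime := by
    rw [hmax]; infer_instance
  haveI : IsLocalization.AtPrime (R ⧸ I)
      ((maximalIdeal R).map (Ideal.Quotient.mk I)) := by
    apply IsLocalization.self
    intro x hx
    have hx' : x ∉ (maximalIdeal R).map (Ideal.Quotient.mk I) := hx
    rw [hmax, IsLocalRing.mem_maximalIdeal, mem_nonunits_iff, not_not] at hx'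
    exact hx'
  -- normalization data
  haveI : IsLocalRing (integralClosure (R ⧸ I) (FractionRing (R ⧸ I))) :=
    isLocalRing_integralClosure _
  haveI : IsIntegrallyClosed
      (integralClosure (R ⧸ I) (FractionRing (R ⧸ I))) :=
    integralClosure.isIntegrallyClosedOfFiniteExtension (FractionRing (R ⧸ I))
  obtain ⟨e, he, hpi⟩ := exists_pi_data (R ⧸ I)
  have hinj := algebraMap_integralClosure_injective (R ⧸ I)
  -- the ideal `K`
  have hK : (I.map (algebraMap R R')).map
      (algebraMap R' (Localization.AtPrime q)) ≠ ⊤ := by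
    intro h
    have h1 : (I.map (algebraMap R R')).map
        (algebraMap R' (Localization.AtPrime q)) ≤ maximalIdeal (Localization.AtPrime q) := by
      rw [← IsLocalization.AtPrime.map_eq_maximalIdeal q (Localization.AtPrime q)]
      apply Ideal.map_mono
      rw [Ideal.map_le_iff_le_comap, hqp]
      exact hIp
    rw [h] at h1
    exact (maximalIdeal.isMaximal _).ne_top (top_le_iff.mp h1)
  haveI : Nontrivial (Localization.AtPrime q ⧸ (I.map (algebraMap R R')).map
      (algebraMap R' (Localization.AtPrime q))) := Ideal.Quotient.nontrivial_iff.mpr hK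
  haveI : IsLocalRing (Localization.AtPrime q ⧸ (I.map (algebraMap R R')).map
      (algebraMap R' (Localization.AtPrime q))) :=
    IsLocalRing.of_surjective' (Ideal.Quotient.mk _) Ideal.Quotient.mk_surjective
  obtain ⟨hd, hgu⟩ := quot_smooth_step R R' I (maximalIdeal R) hIp q hqp
    (R ⧸ I)
    (integralClosure (R ⧸ I) (FractionRing (R ⧸ I))) hinj e he hpi
    (Localization.AtPrime q)
  haveI := hd
  exact isPrime_map_of_gu (Localization.AtPrime q) T hU _ hK hgu

end Core

section Tower

open TensorProduct

/-- unions of étale images pass to intermediate algebras -/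
theorem isUnion_of_tower (B L T : Type u) [CommRing B] [CommRing L] [CommRing T] [Algebra B L]
    [Algebra B T] [Algebra L T] [IsScalarTower B L T] (h : IsUnion B T) : IsUnion L T := by
  intro x
  obtain ⟨B₁, _, _, hB₁, ψ, hψ⟩ := h x
  obtain ⟨b₁, hb₁⟩ := hψ rfl
  let Ψ : L ⊗[B] B₁ →ₐ[L] T :=
    Algebra.TensorProduct.lift (Algebra.ofId L T) ψ (fun _ _ => Commute.all _ _)
  refine ⟨L ⊗[B] B₁, _, _, inferInstance, Ψ, ?_⟩
  rintro _ rfl
  refine ⟨1 ⊗ₜ b₁, ?_⟩
  show Algebra.TensorProduct.lift _ _ _ _ = _
  rw [Algebra.TensorProduct.lift_tmul, map_one, one_mul, hb₁]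

end Tower

section Glue

open TensorProduct

variable (R S A B A₁ T : Type u) [CommRing R] [CommRing S] [Algebra R S] [Algebra.Smooth R S]
  [CommRing A] [Algebra R A] (p : Ideal R) [p.IsPrime] [IsLocalization.AtPrime A p]
  [CommRing B] [Algebra S B] (q : Ideal S) [q.IsPrime] [IsLocalization.AtPrime B q]
  [CommRing A₁] [HenselianLocalRing A₁] [IsSepClosed (ResidueField A₁)] [Algebra A A₁]
  [CommRing T] [IsLocalRing T] [Algebra B T] [IsLocalHom (algebraMap B T)] [Module.Flat B T]

include p q in
/-- **Glueing.** `A = R_p`, `B = S_q` for `R → S` smooth, `A₁` a strictly henselian union of étale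
images over `A`, `T` a flat local union of étale images over `B`, and `g : A₁ → T` a local
homomorphism compatible with `R → S`: then `g` is flat and extends prime ideals to prime ideals. -/
theorem glue (hUA : IsUnion A A₁) (hUB : IsUnion B T) (g : A₁ →+* T) [IsLocalHom g]
    (hcomm : (g.comp (algebraMap A A₁)).comp (algebraMap R A) =
      ((algebraMap B T).comp (algebraMap S B)).comp (algebraMap R S)) :
    (letI := g.toAlgebra; Module.Flat A₁ T) ∧
      ∀ (P : Ideal A₁) [P.IsPrime], (P.map g).IsPrime := by
  -- algebra structures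
  letI algRA₁ : Algebra R A₁ := ((algebraMap A A₁).comp (algebraMap R A)).toAlgebra
  haveI : IsScalarTower R A A₁ := IsScalarTower.of_algebraMap_eq' rfl
  letI algA₁T : Algebra A₁ T := g.toAlgebra
  letI algRT : Algebra R T := (g.comp (algebraMap R A₁)).toAlgebra
  haveI : IsScalarTower R A₁ T := IsScalarTower.of_algebraMap_eq' rfl
  letI algST : Algebra S T := ((algebraMap B T).comp (algebraMap S B)).toAlgebra
  haveI : IsScalarTower S B T := IsScalarTower.of_algebraMap_eq' rfl
  haveI : IsScalarTower R S T := IsScalarTower.of_algebraMap_eq fun r => congr($hcomm r)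
  let Φ : A₁ ⊗[R] S →ₐ[A₁] T := Algebra.TensorProduct.lift (Algebra.ofId A₁ T)
    (IsScalarTower.toAlgHom R S T) (fun _ _ => Commute.all _ _)
  have hΦ2 : ∀ s : S, Φ (1 ⊗ₜ s) = algebraMap S T s := by
    intro s
    show Algebra.TensorProduct.lift _ _ _ _ = _
    rw [Algebra.TensorProduct.lift_tmul, map_one, one_mul]
    rfl
  let q' : Ideal (A₁ ⊗[R] S) := (maximalIdeal T).comap Φ.toRingHom
  haveI : q'.IsPrime := Ideal.comap_isPrime _ _
  have hq' : (maximalIdeal A₁).map (algebraMap A₁ (A₁ ⊗[R] S)) ≤ q' := by
    rw [Ideal.map_le_iff_le_comap]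
    intro a ha
    show Φ (algebraMap A₁ _ a) ∈ maximalIdeal T
    rw [AlgHom.commutes]
    show g a ∈ maximalIdeal T
    rw [mem_maximalIdeal, mem_nonunits_iff] at ha ⊢
    exact fun h => ha (isUnit_of_map_unit g a h)
  have hunits : ∀ y : q'.primeCompl, IsUnit (Φ.toRingHom y) := fun y => by
    have hy : (y : A₁ ⊗[R] S) ∉ q' := y.2
    by_contra hnu
    exact hy ((mem_maximalIdeal _).mpr hnu)
  letI algL'T : Algebra (Localization.AtPrime q') T := (IsLocalization.lift hunits).toAlgebra
  letI algR'T : Algebra (A₁ ⊗[R] S) T := Φ.toRingHom.toAlgebra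
  haveI : IsScalarTower (A₁ ⊗[R] S) (Localization.AtPrime q') T :=
    IsScalarTower.of_algebraMap_eq fun y => (IsLocalization.lift_eq hunits y).symm
  haveI : IsLocalHom (algebraMap (Localization.AtPrime q') T) := by
    refine ⟨fun x hx => ?_⟩
    obtain ⟨⟨y, s⟩, hys⟩ := IsLocalization.surj q'.primeCompl x
    simp only at hys
    have h1 : IsUnit (algebraMap (A₁ ⊗[R] S) T y) := by
      rw [IsScalarTower.algebraMap_apply (A₁ ⊗[R] S) (Localization.AtPrime q') T, ← hys, map_mul]
      refine hx.mul ?_
      rw [← IsScalarTower.algebraMap_apply]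
      exact hunits s
    have h2 : y ∉ q' := fun hy => (mem_maximalIdeal _).mp hy h1
    have h3 : IsUnit (algebraMap (A₁ ⊗[R] S) (Localization.AtPrime q') y) :=
      IsLocalization.map_units _ (⟨y, h2⟩ : q'.primeCompl)
    rw [← hys] at h3
    exact isUnit_of_mul_isUnit_left h3
  -- the `B`-algebra structure on `L'`
  have hunitsB : ∀ s : q.primeCompl, IsUnit (((algebraMap (A₁ ⊗[R] S) (Localization.AtPrime q')).comp
      (Algebra.TensorProduct.includeRight : S →ₐ[R] A₁ ⊗[R] S).toRingHom) s) := by
    intro s
    have h1 : IsUnit (algebraMap S B s) := IsLocalization.map_units B s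
    have h2 : IsUnit (algebraMap S T s) := by
      rw [IsScalarTower.algebraMap_apply S B T]
      exact h1.map _
    have h3 : ((1 : A₁) ⊗ₜ[R] (s : S) : A₁ ⊗[R] S) ∉ q' := by
      intro hmem
      have h4 : Φ (1 ⊗ₜ (s : S)) ∈ maximalIdeal T := hmem
      rw [hΦ2] at h4
      exact (mem_maximalIdeal _).mp h4 h2
    exact IsLocalization.map_units _ (⟨_, h3⟩ : q'.primeCompl)
  letI algBL' : Algebra B (Localization.AtPrime q') :=
    (IsLocalization.lift (M := q.primeCompl) hunitsB).toAlgebra
  have hBL' : ∀ s : S, algebraMap B (Localization.AtPrime q') (algebraMap S B s) =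
      algebraMap (A₁ ⊗[R] S) (Localization.AtPrime q') (1 ⊗ₜ s) :=
    fun s => IsLocalization.lift_eq hunitsB s
  haveI : IsScalarTower B (Localization.AtPrime q') T := by
    refine IsScalarTower.of_algebraMap_eq' ?_
    apply IsLocalization.ringHom_ext q.primeCompl
    ext s
    show algebraMap B T (algebraMap S B s) = algebraMap (Localization.AtPrime q') T
      (algebraMap B (Localization.AtPrime q') (algebraMap S B s))
    rw [hBL', ← IsScalarTower.algebraMap_apply (A₁ ⊗[R] S) (Localization.AtPrime q') T]
    show _ = Φ (1 ⊗ₜ s)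
    rw [hΦ2]
    rfl
  -- the `A`-algebra structure on `B`
  have hunitsA : ∀ r : p.primeCompl, IsUnit (((algebraMap S B).comp (algebraMap R S)) r) := by
    intro r
    have h1 : IsUnit (algebraMap R A r) := IsLocalization.map_units A r
    have h2 : IsUnit (algebraMap B T (algebraMap S B (algebraMap R S r))) := by
      have h3 := congr($hcomm r)
      simp only [RingHom.comp_apply] at h3
      rw [← h3]
      exact (h1.map _).map _
    exact isUnit_of_map_unit (algebraMap B T) _ h2
  letI algAB : Algebra A B := (IsLocalization.lift (M := p.primeCompl) hunitsA).toAlgebra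
  have hAB : ∀ r : R, algebraMap A B (algebraMap R A r) = algebraMap S B (algebraMap R S r) :=
    fun r => IsLocalization.lift_eq hunitsA r
  -- `L'` is a union of étale images over `B`
  have hUBL' : IsUnion B (Localization.AtPrime q') := by
    have hcompat : ((algebraMap (A₁ ⊗[R] S) (Localization.AtPrime q')).comp
        (algebraMap A₁ (A₁ ⊗[R] S))).comp (algebraMap A A₁) =
        (algebraMap B (Localization.AtPrime q')).comp (algebraMap A B) := by
      apply IsLocalization.ringHom_ext p.primeCompl
      ext r
      show algebraMap (A₁ ⊗[R] S) (Localization.AtPrime q') (algebraMap A₁ (A₁ ⊗[R] S)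
          (algebraMap A A₁ (algebraMap R A r))) =
        algebraMap B (Localization.AtPrime q') (algebraMap A B (algebraMap R A r))
      rw [hAB, hBL']
      congr 1
      rw [Algebra.TensorProduct.algebraMap_apply, Algebra.algebraMap_self, RingHom.id_apply,
        ← IsScalarTower.algebraMap_apply R A A₁, Algebra.algebraMap_eq_smul_one (A := A₁) r,
        TensorProduct.smul_tmul, ← Algebra.algebraMap_eq_smul_one]
    have hAL' : ∀ x : A, algebraMap A (Localization.AtPrime q') x =
        algebraMap (A₁ ⊗[R] S) (Localization.AtPrime q') (algebraMap A₁ (A₁ ⊗[R] S)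
          (algebraMap A A₁ x)) := by
      intro x
      rw [IsScalarTower.algebraMap_apply A (A₁ ⊗[R] S) (Localization.AtPrime q'),
        IsScalarTower.algebraMap_apply A A₁ (A₁ ⊗[R] S)]
    haveI : IsScalarTower A B (Localization.AtPrime q') := by
      refine IsScalarTower.of_algebraMap_eq fun x => ?_
      rw [hAL']
      exact congr($hcompat x)
    have hmem1 : ∀ a : A₁, algebraMap (A₁ ⊗[R] S) (Localization.AtPrime q') (a ⊗ₜ 1) ∈
        imageAlg B (Localization.AtPrime q') := by
      intro a
      obtain ⟨A', _, _, hA', φ, hφ⟩ := hUA a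
      obtain ⟨a', ha'⟩ := hφ rfl
      let ψ₀ : A' →+* Localization.AtPrime q' :=
        ((algebraMap (A₁ ⊗[R] S) (Localization.AtPrime q')).comp
          (algebraMap A₁ (A₁ ⊗[R] S))).comp φ.toRingHom
      let ψ : A' →ₐ[A] Localization.AtPrime q' :=
        { ψ₀ with
          commutes' := fun x => by
            show algebraMap (A₁ ⊗[R] S) (Localization.AtPrime q') (algebraMap A₁ (A₁ ⊗[R] S)
              (φ (algebraMap A A' x))) = algebraMap A (Localization.AtPrime q') x
            rw [φ.commutes, hAL'] }
      let Ψ : B ⊗[A] A' →ₐ[B] Localization.AtPrime q' :=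
        Algebra.TensorProduct.lift (Algebra.ofId B (Localization.AtPrime q')) ψ
          (fun _ _ => Commute.all _ _)
      refine ⟨B ⊗[A] A', _, _, inferInstance, Ψ, ?_⟩
      rintro _ rfl
      refine ⟨1 ⊗ₜ a', ?_⟩
      show Algebra.TensorProduct.lift _ _ _ _ = _
      rw [Algebra.TensorProduct.lift_tmul, map_one, one_mul]
      show algebraMap (A₁ ⊗[R] S) (Localization.AtPrime q') (algebraMap A₁ (A₁ ⊗[R] S) (φ a')) = _
      rw [ha', Algebra.TensorProduct.algebraMap_apply, Algebra.algebraMap_self, RingHom.id_apply]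
    have hmem2 : ∀ s : S, algebraMap (A₁ ⊗[R] S) (Localization.AtPrime q') (1 ⊗ₜ s) ∈
        imageAlg B (Localization.AtPrime q') := fun s => by
      rw [← hBL']
      exact (imageAlg B (Localization.AtPrime q')).algebraMap_mem _
    have hmem : ∀ y : A₁ ⊗[R] S, algebraMap (A₁ ⊗[R] S) (Localization.AtPrime q') y ∈
        imageAlg B (Localization.AtPrime q') := by
      intro y
      induction y using TensorProduct.induction_on with
      | zero => rw [map_zero]; exact zero_mem _
      | tmul a s =>
        have h1 : (a ⊗ₜ[R] s : A₁ ⊗[R] S) = (a ⊗ₜ 1) * (1 ⊗ₜ s) := by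
          rw [Algebra.TensorProduct.tmul_mul_tmul, mul_one, one_mul]
        rw [h1, map_mul]
        exact mul_mem (hmem1 a) (hmem2 s)
      | add y z hy hz => rw [map_add]; exact add_mem hy hz
    intro x
    obtain ⟨⟨y, s⟩, hys⟩ := IsLocalization.surj q'.primeCompl x
    simp only at hys
    have hs : algebraMap (A₁ ⊗[R] S) (Localization.AtPrime q') (s : A₁ ⊗[R] S) ∈
        imageAlg B (Localization.AtPrime q') := hmem s
    obtain ⟨sinv, hsinv⟩ := (IsLocalization.map_units (Localization.AtPrime q') s).exists_right_inv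
    have hsinv' : sinv ∈ imageAlg B (Localization.AtPrime q') := InImage.inv hs sinv hsinv
    have hx : x = algebraMap (A₁ ⊗[R] S) (Localization.AtPrime q') y * sinv := by
      rw [← hys, mul_assoc, hsinv, mul_one]
    rw [hx]
    exact mul_mem (hmem y) hsinv'
  -- `T` is a union of étale images over `L'`
  have hUL'T : IsUnion (Localization.AtPrime q') T :=
    isUnion_of_tower B (Localization.AtPrime q') T hUB
  haveI : Module.Flat (Localization.AtPrime q') T := hUBL'.flat_of_flat T
  have hcomp : ((algebraMap (Localization.AtPrime q') T).comp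
      (algebraMap (A₁ ⊗[R] S) (Localization.AtPrime q'))).comp (algebraMap A₁ (A₁ ⊗[R] S)) = g := by
    ext a
    show algebraMap (Localization.AtPrime q') T (algebraMap (A₁ ⊗[R] S) (Localization.AtPrime q')
      (algebraMap A₁ (A₁ ⊗[R] S) a)) = g a
    rw [← IsScalarTower.algebraMap_apply (A₁ ⊗[R] S) (Localization.AtPrime q') T]
    show Φ _ = _
    rw [AlgHom.commutes]
    rfl
  refine ⟨?_, fun P hP => ?_⟩
  · haveI : IsScalarTower A₁ (Localization.AtPrime q') T := by
      refine IsScalarTower.of_algebraMap_eq fun a => ?_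
      rw [IsScalarTower.algebraMap_apply A₁ (A₁ ⊗[R] S) (Localization.AtPrime q')]
      exact congr($(hcomp.symm) a)
    haveI : Module.Flat (A₁ ⊗[R] S) (Localization.AtPrime q') :=
      IsLocalization.flat _ q'.primeCompl
    haveI : Module.Flat A₁ (Localization.AtPrime q') :=
      Module.Flat.trans A₁ (A₁ ⊗[R] S) (Localization.AtPrime q')
    exact Module.Flat.trans A₁ (Localization.AtPrime q') T
  · have h1 := isPrime_map_of_strictlyHenselian A₁ (A₁ ⊗[R] S) T q' hq' hUL'T P
    rw [Ideal.map_map, Ideal.map_map, hcomp] at h1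
    exact h1

end Glue

section Main

/-- **S2129.** For a smooth ring map `R → S` and a prime `q` of `S` over `p`, strict henselizations
of `R_p` and `S_q` have the same number of minimal primes. -/
theorem main {R S Ash Bsh : Type u} [CommRing R] [CommRing S] [Algebra R S]
    [Algebra.Smooth R S] (q : Ideal S) [q.IsPrime] (p : Ideal R) [p.IsPrime] [q.LiesOver p]
    [CommRing Ash] [IsLocalRing Ash] [Algebra (Localization.AtPrime p) Ash]
    [IsLocalHom (algebraMap (Localization.AtPrime p) Ash)]
    [Hensel.IsStrictHenselization (Localization.AtPrime p) Ash]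
    [CommRing Bsh] [IsLocalRing Bsh] [Algebra (Localization.AtPrime q) Bsh]
    [IsLocalHom (algebraMap (Localization.AtPrime q) Bsh)]
    [Hensel.IsStrictHenselization (Localization.AtPrime q) Bsh] :
    (minimalPrimes Ash).encard = (minimalPrimes Bsh).encard := by
  have hA : Hensel.IsStrictHenselization (Localization.AtPrime p) Ash := inferInstance
  have hB : Hensel.IsStrictHenselization (Localization.AtPrime q) Bsh := inferInstance
  obtain ⟨hUA, hffA⟩ := Groth.Agent.H3.HensUnion.package (Or.inr hA)
  obtain ⟨hUB, hffB⟩ := Groth.Agent.H3.HensUnion.package (Or.inr hB)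
  haveI : HenselianLocalRing Ash := hA.henselian
  haveI : IsSepClosed (ResidueField Ash) := hA.isSepClosure.sep_closed
  haveI : HenselianLocalRing Bsh := hB.henselian
  haveI : IsSepClosed (ResidueField Bsh) := hB.isSepClosure.sep_closed
  haveI : Module.Flat (Localization.AtPrime q) Bsh := hffB.toFlat
  let fAB : Localization.AtPrime p →+* Localization.AtPrime q :=
    Localization.localRingHom p q (algebraMap R S) (q.over_def p)
  haveI : IsLocalHom fAB := Localization.isLocalHom_localRingHom p q _ (q.over_def p)
  letI algABsh : Algebra (Localization.AtPrime p) Bsh :=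
    ((algebraMap (Localization.AtPrime q) Bsh).comp fAB).toAlgebra
  haveI : IsLocalHom (algebraMap (Localization.AtPrime p) Bsh) := by
    show IsLocalHom ((algebraMap (Localization.AtPrime q) Bsh).comp fAB)
    infer_instance
  obtain ⟨g, hg, hgloc⟩ := Groth.Agent.H3.StrictHensBaseEquiv.exists_local_map
    (Localization.AtPrime p) Ash Bsh hA
  haveI := hgloc
  have hcomm : (g.comp (algebraMap (Localization.AtPrime p) Ash)).comp
      (algebraMap R (Localization.AtPrime p)) =
      ((algebraMap (Localization.AtPrime q) Bsh).comp (algebraMap S (Localization.AtPrime q))).comp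
        (algebraMap R S) := by
    rw [hg]
    ext r
    show algebraMap (Localization.AtPrime q) Bsh (fAB (algebraMap R _ r)) = _
    rw [Localization.localRingHom_to_map]
    rfl
  obtain ⟨hflat, hprime⟩ := glue R S (Localization.AtPrime p) (Localization.AtPrime q) Ash Bsh p q
    hUA hUB g hcomm
  letI := g.toAlgebra
  haveI := hflat
  haveI : IsLocalHom (algebraMap Ash Bsh) := hgloc
  haveI : Module.FaithfullyFlat Ash Bsh := Module.FaithfullyFlat.of_flat_of_isLocalHom
  exact encard_minimalPrimes_eq Ash Bsh (fun P hP => by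
    haveI := hP.1.1
    exact hprime P)

end Main

end Groth.Agent.H66.SmoothBranch
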