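import Mathlib
import Groth.Prelude.Def_CAlg2
import Groth.Prelude.Def_Hensel
import Groth.Agent.H66.SmoothBranch
import Groth.Agent.H47.SmoothNormal

/-!
# Branches of smooth algebras (henselization version)

For a smooth ring map `R → S` and a prime `q` of `S` over `p` with purely inseparable residue
extension, the henselizations of `R_p` and `S_q` have the same number of minimal primes.
-/

set_option autoImplicit false
set_option linter.style.haveILetI false
universe u

namespace Groth.Agent.H66.SmoothBranchH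

open IsLocalRing Groth.Agent.H3.UnionEtale Groth.Agent.H66.PolyUnibranch Groth.Agent.H66.SmoothGU
  Groth.Agent.H66.SmoothBranch TensorProduct

section PiLeft

open Groth.Agent.H14.HensProp.PiLocal

variable (R A' B : Type u) [CommRing R] [IsLocalRing R] [CommRing A'] [IsLocalRing A']
  [Algebra R A'] [IsLocalHom (algebraMap R A')] [CommRing B] [IsLocalRing B] [Algebra R B]
  [Algebra.IsIntegral R B]
  (e : ℕ) (he : e = 1 ∨ (e.Prime ∧ (e : A') ∈ maximalIdeal A'))
  (hpi : ∀ x : A', ∃ (n : ℕ) (r : R), x ^ e ^ n - algebraMap R A' r ∈ maximalIdeal A')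

omit [IsLocalRing R] [IsLocalHom (algebraMap R A')] [Algebra.IsIntegral R B] in
include he in
theorem add_pow_quot' (u v : (A' ⊗[R] B) ⧸ J R A' B) (n : ℕ) :
    (u + v) ^ e ^ n = u ^ e ^ n + v ^ e ^ n := by
  rcases he with rfl | ⟨hprime, hmem⟩
  · simp
  · obtain ⟨r, hr⟩ := exists_add_pow_prime_pow_eq hprime u v n
    have h0 : ((e : ℕ) : (A' ⊗[R] B) ⧸ J R A' B) = 0 := by
      have : ((e : ℕ) : (A' ⊗[R] B) ⧸ J R A' B) =
          Ideal.Quotient.mk (J R A' B) (algebraMap A' (A' ⊗[R] B) (e : A')) := by
        simp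
      rw [this, Ideal.Quotient.eq_zero_iff_mem]
      exact Ideal.mem_sup_left (Ideal.mem_map_of_mem _ hmem)
    rw [hr, h0]
    ring

omit [IsLocalRing R] [IsLocalHom (algebraMap R A')] [Algebra.IsIntegral R B] in
include he hpi in
theorem exists_pow_eq' (z : A' ⊗[R] B) : ∃ (n : ℕ) (b : B),
    (Ideal.Quotient.mk (J R A' B) z) ^ e ^ n =
      Ideal.Quotient.mk (J R A' B)
        ((Algebra.TensorProduct.includeRight : B →ₐ[R] A' ⊗[R] B) b) := by
  induction z using TensorProduct.induction_on with
  | zero => exact ⟨0, 0, by simp⟩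
  | tmul a b =>
    obtain ⟨n, r, hr⟩ := hpi a
    refine ⟨n, algebraMap R B r * b ^ e ^ n, ?_⟩
    rw [← map_pow, Ideal.Quotient.eq, Algebra.TensorProduct.includeRight_apply,
      Algebra.TensorProduct.tmul_pow]
    have : (a ^ e ^ n) ⊗ₜ[R] (b ^ e ^ n) - (1 : A') ⊗ₜ[R] (algebraMap R B r * b ^ e ^ n) =
        algebraMap A' (A' ⊗[R] B) (a ^ e ^ n - algebraMap R A' r) *
          ((1 : A') ⊗ₜ[R] (b ^ e ^ n)) := by
      rw [Algebra.TensorProduct.algebraMap_apply, Algebra.algebraMap_self_apply,
        Algebra.TensorProduct.tmul_mul_tmul, mul_one, one_mul, TensorProduct.sub_tmul]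
      congr 1
      rw [Algebra.algebraMap_eq_smul_one (A := A') r, TensorProduct.smul_tmul,
        Algebra.smul_def]
    rw [this]
    exact Ideal.mul_mem_right _ _ (Ideal.mem_sup_left (Ideal.mem_map_of_mem _ hr))
  | add z₁ z₂ h₁ h₂ =>
    obtain ⟨n₁, b₁, h₁⟩ := h₁
    obtain ⟨n₂, b₂, h₂⟩ := h₂
    refine ⟨n₁ + n₂, b₁ ^ e ^ n₂ + b₂ ^ e ^ n₁, ?_⟩
    rw [map_add, add_pow_quot' R A' B e he, pow_add, pow_mul, h₁, mul_comm, pow_mul, h₂,
      map_add, map_add, map_pow, map_pow, map_pow, map_pow]

include he hpi in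
/-- the tensor product of a local algebra with purely inseparable residue extension and an integral
local algebra is local -/
theorem isLocalRing_tensor' [Nontrivial (A' ⊗[R] B)] : IsLocalRing (A' ⊗[R] B) := by
  have key : ∀ M₁ M₂ : Ideal (A' ⊗[R] B), M₁.IsMaximal → M₂.IsMaximal → M₁ ≤ M₂ := by
    intro M₁ M₂ hM₁ hM₂ z hz
    obtain ⟨hJ₁, -⟩ := J_le_of_isMaximal R A' B M₁
    obtain ⟨hJ₂, -⟩ := J_le_of_isMaximal R A' B M₂
    have hc₁ := comap_includeRight_eq R A' B M₁
    have hc₂ := comap_includeRight_eq R A' B M₂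
    obtain ⟨n, b, hnb⟩ := exists_pow_eq' R A' B e he hpi z
    rw [← map_pow, Ideal.Quotient.eq] at hnb
    have hpos : 0 < e ^ n := Nat.pos_of_ne_zero (by
      rcases he with rfl | ⟨hprime, -⟩
      · simp
      · exact pow_ne_zero _ hprime.ne_zero)
    have h1 : (Algebra.TensorProduct.includeRight : B →ₐ[R] A' ⊗[R] B) b ∈ M₁ := by
      have h2 := hJ₁ hnb
      have h3 : z ^ e ^ n ∈ M₁ := Ideal.pow_mem_of_mem _ hz _ hpos
      have := M₁.sub_mem h3 h2
      simpa using this
    have h4 : b ∈ maximalIdeal B := by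
      rw [← hc₁]
      exact h1
    have h5 : (Algebra.TensorProduct.includeRight : B →ₐ[R] A' ⊗[R] B) b ∈ M₂ := by
      rw [← hc₂] at h4
      exact h4
    have h6 : z ^ e ^ n ∈ M₂ := by
      have := M₂.add_mem (hJ₂ hnb) h5
      simpa using this
    exact hM₂.isPrime.mem_of_pow_mem _ h6
  obtain ⟨M, hM⟩ := Ideal.exists_maximal (A' ⊗[R] B)
  exact IsLocalRing.of_unique_max_ideal
    ⟨M, hM, fun M' hM' => le_antisymm (key M' M hM' hM) (key M M' hM hM')⟩

end PiLeft

section Loc

variable (W T₂ : Type u) [CommRing W] [CommRing T₂] [Algebra W T₂] [IsLocalRing T₂]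

/-- the contraction of the maximal ideal -/
def Qof : Ideal W := (maximalIdeal T₂).comap (algebraMap W T₂)

instance : (Qof W T₂).IsPrime := Ideal.comap_isPrime _ _

theorem isUnit_of_notMem (y : (Qof W T₂).primeCompl) : IsUnit (algebraMap W T₂ (y : W)) := by
  have hy : (y : W) ∉ Qof W T₂ := y.2
  by_contra hnu
  exact hy ((mem_maximalIdeal _).mpr hnu)

/-- a local algebra is an algebra over the localization at the contraction of its maximal ideal -/
noncomputable def locAlgebra : Algebra (Localization.AtPrime (Qof W T₂)) T₂ :=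
  (IsLocalization.lift (isUnit_of_notMem W T₂)).toAlgebra

attribute [local instance] locAlgebra

theorem locAlgebra_algebraMap (w : W) :
    algebraMap (Localization.AtPrime (Qof W T₂)) T₂ (algebraMap W _ w) = algebraMap W T₂ w :=
  IsLocalization.lift_eq (isUnit_of_notMem W T₂) w

instance locTower : IsScalarTower W (Localization.AtPrime (Qof W T₂)) T₂ :=
  IsScalarTower.of_algebraMap_eq fun w => (locAlgebra_algebraMap W T₂ w).symm

instance locIsLocalHom : IsLocalHom (algebraMap (Localization.AtPrime (Qof W T₂)) T₂) := by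
  refine ⟨fun x hx => ?_⟩
  obtain ⟨⟨y, s⟩, hys⟩ := IsLocalization.surj (Qof W T₂).primeCompl x
  simp only at hys
  have h1 : IsUnit (algebraMap W T₂ y) := by
    rw [← locAlgebra_algebraMap, ← hys, map_mul]
    refine hx.mul ?_
    rw [locAlgebra_algebraMap]
    exact isUnit_of_notMem W T₂ s
  have h2 : y ∉ Qof W T₂ := fun hy => (mem_maximalIdeal _).mp hy h1
  have h3 : IsUnit (algebraMap W (Localization.AtPrime (Qof W T₂)) y) :=
    IsLocalization.map_units _ (⟨y, h2⟩ : (Qof W T₂).primeCompl)
  rw [← hys] at h3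
  exact isUnit_of_mul_isUnit_left h3

end Loc

section TowerMem

/-- images of étale algebras over `L` give images of étale algebras over any `L`-algebra `V` -/
theorem mem_imageAlg_of_tower (L V T T₂ : Type u) [CommRing L] [CommRing V] [CommRing T]
    [CommRing T₂] [Algebra L V] [Algebra L T] [Algebra L T₂] [Algebra V T₂] [Algebra T T₂]
    [IsScalarTower L V T₂] [IsScalarTower L T T₂] (hU : IsUnion L T) (t : T) :
    algebraMap T T₂ t ∈ imageAlg V T₂ := by
  obtain ⟨C, _, _, hC, φ, hφ⟩ := hU t
  obtain ⟨c, hc⟩ := hφ rfl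
  let ψ : C →ₐ[L] T₂ := (IsScalarTower.toAlgHom L T T₂).comp φ
  let Φ : V ⊗[L] C →ₐ[V] T₂ :=
    Algebra.TensorProduct.lift (Algebra.ofId V T₂) ψ (fun _ _ => Commute.all _ _)
  refine ⟨V ⊗[L] C, _, _, inferInstance, Φ, ?_⟩
  rintro _ rfl
  refine ⟨1 ⊗ₜ c, ?_⟩
  show Algebra.TensorProduct.lift _ _ _ _ = _
  rw [Algebra.TensorProduct.lift_tmul, map_one, one_mul]
  show algebraMap T T₂ (φ c) = _
  rw [hc]

end TowerMem

section Core

attribute [local instance] locAlgebra

variable (R R' T : Type u) [CommRing R] [HenselianLocalRing R]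
  [CommRing R'] [Algebra R R'] [Algebra.Smooth R R']
  (q : Ideal R') [q.IsPrime]
  [CommRing T] [IsLocalRing T] [Algebra (Localization.AtPrime q) T]
  [IsLocalHom (algebraMap (Localization.AtPrime q) T)] [Module.Flat (Localization.AtPrime q) T]
  (I : Ideal R) [hIprime : I.IsPrime]

local notation "Dν" => integralClosure (R ⧸ I) (FractionRing (R ⧸ I))

/-- **Prime ideals of a henselian local ring extend to prime ideals** of flat local unions of étale
images, with purely inseparable residue field extension, over local rings of smooth algebras at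
points of the closed fibre. -/
theorem isPrime_map_of_henselian (hq : (maximalIdeal R).map (algebraMap R R') ≤ q)
    (hU : IsUnion (Localization.AtPrime q) T)
    (e : ℕ) (he : e = 1 ∨ (e.Prime ∧ (e : T) ∈ maximalIdeal T))
    (hpi : ∀ t : T, ∃ (n : ℕ) (r : R), t ^ e ^ n - algebraMap (Localization.AtPrime q) T
      (algebraMap R' (Localization.AtPrime q) (algebraMap R R' r)) ∈ maximalIdeal T) :
    (((I.map (algebraMap R R')).map (algebraMap R' (Localization.AtPrime q))).map
      (algebraMap (Localization.AtPrime q) T)).IsPrime := by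
  have hIne : I ≠ ⊤ := hIprime.ne_top
  have hIp : I ≤ maximalIdeal R := IsLocalRing.le_maximalIdeal hIne
  -- algebra structures
  letI algR'T : Algebra R' T := ((algebraMap (Localization.AtPrime q) T).comp
    (algebraMap R' (Localization.AtPrime q))).toAlgebra
  haveI : IsScalarTower R' (Localization.AtPrime q) T := IsScalarTower.of_algebraMap_eq' rfl
  letI algRT : Algebra R T := ((algebraMap R' T).comp (algebraMap R R')).toAlgebra
  haveI : IsScalarTower R R' T := IsScalarTower.of_algebraMap_eq' rfl
  haveI : IsScalarTower R (Localization.AtPrime q) T := IsScalarTower.of_algebraMap_eq fun r => by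
    rw [IsScalarTower.algebraMap_apply R R' (Localization.AtPrime q)]
    rfl
  haveI : Module.Flat R (Localization.AtPrime q) := Module.Flat.trans R R' _
  haveI hlocRL : IsLocalHom (algebraMap R (Localization.AtPrime q)) := by
    refine ⟨fun r hr => ?_⟩
    by_contra hnu
    have h1 : r ∈ maximalIdeal R := (IsLocalRing.mem_maximalIdeal r).mpr hnu
    have h2 : algebraMap R R' r ∈ q := hq (Ideal.mem_map_of_mem _ h1)
    have h3 : algebraMap R' (Localization.AtPrime q) (algebraMap R R' r) ∈
        maximalIdeal (Localization.AtPrime q) :=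
      (IsLocalization.AtPrime.to_map_mem_maximal_iff _ q _).mpr h2
    rw [← IsScalarTower.algebraMap_apply] at h3
    exact (IsLocalRing.mem_maximalIdeal _).mp h3 hr
  haveI hlocRT : IsLocalHom (algebraMap R T) := by
    rw [IsScalarTower.algebraMap_eq R (Localization.AtPrime q) T]
    infer_instance
  haveI : Module.Flat R T := Module.Flat.trans R (Localization.AtPrime q) T
  haveI : Module.Flat R' T := Module.Flat.trans R' (Localization.AtPrime q) T
  -- the henselian local domain `R ⧸ I` and its normalization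
  haveI : IsDomain (R ⧸ I) := Ideal.Quotient.isDomain _
  haveI hH : HenselianLocalRing (R ⧸ I) :=
    Groth.Agent.H3.henselianLocalRing_quotient R _ hIne
  haveI : IsLocalRing Dν := isLocalRing_integralClosure _
  haveI : IsIntegrallyClosed Dν :=
    integralClosure.isIntegrallyClosedOfFiniteExtension (FractionRing (R ⧸ I))
  have hinj := algebraMap_integralClosure_injective (R ⧸ I)
  haveI : Algebra.IsIntegral R Dν := Algebra.IsIntegral.trans (R ⧸ I)
  -- the injection `T ⧸ I T → T ⊗ Dν`
  let jAlg : (R ⧸ I) →ₐ[R] Dν := IsScalarTower.toAlgHom R (R ⧸ I) Dν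
  have hjinj : Function.Injective jAlg.toLinearMap := hinj
  have hθ : Function.Injective (Algebra.TensorProduct.map (AlgHom.id T T) jAlg) :=
    Module.Flat.lTensor_preserves_injective_linearMap (M := T) jAlg.toLinearMap hjinj
  let θ : (T ⧸ I.map (algebraMap R T)) →+* T ⊗[R] Dν :=
    ((Algebra.TensorProduct.map (AlgHom.id T T) jAlg).toRingHom).comp
      (Algebra.TensorProduct.quotIdealMapEquivTensorQuot T I).toAlgHom.toRingHom
  have hθinj : Function.Injective θ :=
    hθ.comp (Algebra.TensorProduct.quotIdealMapEquivTensorQuot T I).injective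
  have hIT : I.map (algebraMap R T) ≠ ⊤ := by
    intro h
    have h1 : I.map (algebraMap R T) ≤ maximalIdeal T := by
      rw [Ideal.map_le_iff_le_comap]
      intro r hr
      rw [Ideal.mem_comap, IsLocalRing.mem_maximalIdeal]
      intro hu
      exact (IsLocalRing.mem_maximalIdeal r).mp (hIp hr) (isUnit_of_map_unit (algebraMap R T) r hu)
    rw [h] at h1
    exact (maximalIdeal.isMaximal T).ne_top (top_le_iff.mp h1)
  haveI : Nontrivial (T ⧸ I.map (algebraMap R T)) := Ideal.Quotient.nontrivial_iff.mpr hIT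
  haveI : Nontrivial (T ⊗[R] Dν) := hθinj.nontrivial
  -- `T ⊗ Dν` is local
  haveI hT₂loc : IsLocalRing (T ⊗[R] Dν) := isLocalRing_tensor' R T Dν e he hpi
  -- the normal ring `W = R' ⊗ Dν`
  have hn1 : EGA4.IsNormalRing Dν := Groth.Agent.H47.SN.isNormalRing_of_isIntegrallyClosed Dν
  have hn2 : EGA4.IsNormalRing (Dν ⊗[R] R') :=
    Groth.Agent.H47.SN.isNormalRing_of_smooth Dν (Dν ⊗[R] R') hn1
  have hn3 : EGA4.IsNormalRing (R' ⊗[R] Dν) :=
    Groth.Agent.H47.isNormalRing_of_ringEquiv (Algebra.TensorProduct.comm R Dν R').toRingEquiv hn2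
  let Ψ : R' ⊗[R] Dν →ₐ[R'] T ⊗[R] Dν :=
    Algebra.TensorProduct.map (Algebra.ofId R' T) (AlgHom.id R Dν)
  letI algWT₂ : Algebra (R' ⊗[R] Dν) (T ⊗[R] Dν) := Ψ.toRingHom.toAlgebra
  haveI : IsScalarTower R' (R' ⊗[R] Dν) (T ⊗[R] Dν) :=
    IsScalarTower.of_algebraMap_eq fun x => (Ψ.commutes x).symm
  have hΨ : ∀ (x : R') (d : Dν), algebraMap (R' ⊗[R] Dν) (T ⊗[R] Dν) (x ⊗ₜ d) =
      (algebraMap R' T x) ⊗ₜ d := by
    intro x d
    show Ψ (x ⊗ₜ d) = _
    rw [Algebra.TensorProduct.map_tmul]
    rfl
  have hpush : Algebra.IsPushout R' T (R' ⊗[R] Dν) (T ⊗[R] Dν) :=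
    Algebra.IsPushout.tensorProduct_tensorProduct R Dν R' T (by
      ext d
      show algebraMap (R' ⊗[R] Dν) (T ⊗[R] Dν) ((1 : R') ⊗ₜ d) = (1 : T) ⊗ₜ d
      rw [hΨ, map_one])
  haveI : Module.Flat (R' ⊗[R] Dν) (T ⊗[R] Dν) :=
    Module.Flat.isBaseChange R' (R' ⊗[R] Dν) T (T ⊗[R] Dν) hpush.symm.out
  -- localize `W` at the contraction `Q` of the maximal ideal
  obtain ⟨hWd, hWic⟩ := hn3 (Qof (R' ⊗[R] Dν) (T ⊗[R] Dν))
  haveI := hWd
  haveI := hWic
  haveI : Module.Flat (Localization.AtPrime (Qof (R' ⊗[R] Dν) (T ⊗[R] Dν))) (T ⊗[R] Dν) :=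
    (Module.flat_iff_of_isLocalization (Localization.AtPrime (Qof (R' ⊗[R] Dν) (T ⊗[R] Dν)))
      (Qof (R' ⊗[R] Dν) (T ⊗[R] Dν)).primeCompl (T ⊗[R] Dν)).mpr inferInstance
  -- the `L`-algebra structure on `W_Q`
  have hunitsL : ∀ s : q.primeCompl, IsUnit
      (((algebraMap (R' ⊗[R] Dν) (Localization.AtPrime (Qof (R' ⊗[R] Dν) (T ⊗[R] Dν)))).comp
        (algebraMap R' (R' ⊗[R] Dν))) s) := by
    intro s
    have h1 : IsUnit (algebraMap R' (Localization.AtPrime q) s) := IsLocalization.map_units _ s
    have h2 : IsUnit (algebraMap R' T s) := by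
      rw [IsScalarTower.algebraMap_apply R' (Localization.AtPrime q) T]
      exact h1.map _
    have h3 : algebraMap R' (R' ⊗[R] Dν) (s : R') ∉ Qof (R' ⊗[R] Dν) (T ⊗[R] Dν) := by
      intro hmem
      have h4 : algebraMap (R' ⊗[R] Dν) (T ⊗[R] Dν) (algebraMap R' (R' ⊗[R] Dν) (s : R')) ∈
          maximalIdeal (T ⊗[R] Dν) := hmem
      rw [← IsScalarTower.algebraMap_apply R' (R' ⊗[R] Dν) (T ⊗[R] Dν),
        IsScalarTower.algebraMap_apply R' T (T ⊗[R] Dν)] at h4
      exact (mem_maximalIdeal _).mp h4 (h2.map _)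
    exact IsLocalization.map_units _ (⟨_, h3⟩ : (Qof (R' ⊗[R] Dν) (T ⊗[R] Dν)).primeCompl)
  letI algLWQ : Algebra (Localization.AtPrime q)
      (Localization.AtPrime (Qof (R' ⊗[R] Dν) (T ⊗[R] Dν))) :=
    (IsLocalization.lift (M := q.primeCompl) hunitsL).toAlgebra
  have hLWQ : ∀ x : R', algebraMap (Localization.AtPrime q)
      (Localization.AtPrime (Qof (R' ⊗[R] Dν) (T ⊗[R] Dν))) (algebraMap R' _ x) =
      algebraMap (R' ⊗[R] Dν) _ (algebraMap R' (R' ⊗[R] Dν) x) :=
    fun x => IsLocalization.lift_eq hunitsL x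
  haveI : IsScalarTower (Localization.AtPrime q)
      (Localization.AtPrime (Qof (R' ⊗[R] Dν) (T ⊗[R] Dν))) (T ⊗[R] Dν) := by
    refine IsScalarTower.of_algebraMap_eq' ?_
    apply IsLocalization.ringHom_ext q.primeCompl
    ext x
    show algebraMap (Localization.AtPrime q) (T ⊗[R] Dν) (algebraMap R' _ x) =
      algebraMap (Localization.AtPrime (Qof (R' ⊗[R] Dν) (T ⊗[R] Dν))) (T ⊗[R] Dν)
        (algebraMap (Localization.AtPrime q) _ (algebraMap R' _ x))
    rw [hLWQ, locAlgebra_algebraMap,
      ← IsScalarTower.algebraMap_apply R' (R' ⊗[R] Dν) (T ⊗[R] Dν),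
      ← IsScalarTower.algebraMap_apply R' (Localization.AtPrime q) (T ⊗[R] Dν)]
  -- `T ⊗ Dν` is a union of étale images over `W_Q`
  have hUW : IsUnion (Localization.AtPrime (Qof (R' ⊗[R] Dν) (T ⊗[R] Dν))) (T ⊗[R] Dν) := by
    have hmem1 : ∀ t : T, (t ⊗ₜ[R] (1 : Dν) : T ⊗[R] Dν) ∈
        imageAlg (Localization.AtPrime (Qof (R' ⊗[R] Dν) (T ⊗[R] Dν))) (T ⊗[R] Dν) := by
      intro t
      have h1 := mem_imageAlg_of_tower (Localization.AtPrime q)
        (Localization.AtPrime (Qof (R' ⊗[R] Dν) (T ⊗[R] Dν))) T (T ⊗[R] Dν) hU t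
      rw [Algebra.TensorProduct.algebraMap_apply, Algebra.algebraMap_self, RingHom.id_apply] at h1
      exact h1
    have hmem2 : ∀ d : Dν, ((1 : T) ⊗ₜ[R] d : T ⊗[R] Dν) ∈
        imageAlg (Localization.AtPrime (Qof (R' ⊗[R] Dν) (T ⊗[R] Dν))) (T ⊗[R] Dν) := by
      intro d
      have h1 : ((1 : T) ⊗ₜ[R] d : T ⊗[R] Dν) =
          algebraMap (Localization.AtPrime (Qof (R' ⊗[R] Dν) (T ⊗[R] Dν))) (T ⊗[R] Dν)
            (algebraMap (R' ⊗[R] Dν) _ ((1 : R') ⊗ₜ d)) := by
        rw [locAlgebra_algebraMap, hΨ, map_one]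
      rw [h1]
      exact Subalgebra.algebraMap_mem _ _
    intro x
    induction x using TensorProduct.induction_on with
    | zero => exact zero_mem (imageAlg _ _)
    | tmul t d =>
      have h1 : (t ⊗ₜ[R] d : T ⊗[R] Dν) = (t ⊗ₜ 1) * (1 ⊗ₜ d) := by
        rw [Algebra.TensorProduct.tmul_mul_tmul, mul_one, one_mul]
      rw [h1]
      exact mul_mem (hmem1 t) (hmem2 d)
    | add y z hy hz => exact add_mem (s := imageAlg _ _) hy hz
  obtain ⟨hd, -⟩ := isDomain_and_isIntegrallyClosed
    (A := Localization.AtPrime (Qof (R' ⊗[R] Dν) (T ⊗[R] Dν))) (B := T ⊗[R] Dν) hUW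
  haveI := hd
  haveI : IsDomain (T ⧸ I.map (algebraMap R T)) := hθinj.isDomain θ
  have hprime : (I.map (algebraMap R T)).IsPrime := (Ideal.Quotient.isDomain_iff_prime _).mp inferInstance
  rw [Ideal.map_map, Ideal.map_map]
  exact hprime

end Core

section GluePkg

variable (R S A B A₁ T : Type u) [CommRing R] [CommRing S] [Algebra R S] [Algebra.Smooth R S]
  [CommRing A] [Algebra R A] (p : Ideal R) [p.IsPrime] [IsLocalization.AtPrime A p]
  [CommRing B] [Algebra S B] (q : Ideal S) [q.IsPrime] [IsLocalization.AtPrime B q]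
  [CommRing A₁] [IsLocalRing A₁] [Algebra A A₁] [Algebra R A₁] [IsScalarTower R A A₁]
  [CommRing T] [IsLocalRing T] [Algebra B T] [IsLocalHom (algebraMap B T)] [Module.Flat B T]

include p q in
/-- **Glueing package.** `A = R_p`, `B = S_q` for `R → S` smooth, `A₁` a local union of étale
images over `A`, `T` a flat local union of étale images over `B`, and `g : A₁ → T` a local
homomorphism compatible with `R → S`: then `T` is a flat local union of étale images over the
local ring of `A₁ ⊗_R S` at the contraction of its maximal ideal, and `g` is flat. -/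
theorem glue_pkg (hUA : IsUnion A A₁) (hUB : IsUnion B T) (g : A₁ →+* T) [IsLocalHom g]
    (hcomm : (g.comp (algebraMap A A₁)).comp (algebraMap R A) =
      ((algebraMap B T).comp (algebraMap S B)).comp (algebraMap R S)) :
    ∃ (q' : Ideal (A₁ ⊗[R] S)) (_ : q'.IsPrime) (_ : Algebra (Localization.AtPrime q') T)
      (_ : IsLocalHom (algebraMap (Localization.AtPrime q') T))
      (_ : Module.Flat (Localization.AtPrime q') T),
      (maximalIdeal A₁).map (algebraMap A₁ (A₁ ⊗[R] S)) ≤ q' ∧
      IsUnion (Localization.AtPrime q') T ∧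
      ((algebraMap (Localization.AtPrime q') T).comp
        (algebraMap (A₁ ⊗[R] S) (Localization.AtPrime q'))).comp (algebraMap A₁ (A₁ ⊗[R] S)) = g ∧
      (letI := g.toAlgebra; Module.Flat A₁ T) := by
  -- algebra structures
  letI algA₁T : Algebra A₁ T := g.toAlgebra
  letI algRT : Algebra R T := (g.comp (algebraMap R A₁)).toAlgebra
  haveI : IsScalarTower R A₁ T := IsScalarTower.of_algebraMap_eq' rfl
  letI algST : Algebra S T := ((algebraMap B T).comp (algebraMap S B)).toAlgebra
  haveI : IsScalarTower S B T := IsScalarTower.of_algebraMap_eq' rfl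
  haveI : IsScalarTower R S T := IsScalarTower.of_algebraMap_eq fun r => by
    show g (algebraMap R A₁ r) = _
    rw [IsScalarTower.algebraMap_apply R A A₁]
    exact congr($hcomm r)
  let Φ : A₁ ⊗[R] S →ₐ[A₁] T := Algebra.TensorProduct.lift (Algebra.ofId A₁ T)
    (IsScalarTower.toAlgHom R S T) (fun _ _ => Commute.all _ _)
  have hΦ2 : ∀ s : S, Φ (1 ⊗ₜ s) = algebraMap S T s := by
    intro s
    show Algebra.TensorProduct.lift _ _ _ _ = _
    rw [Algebra.TensorProduct.lift_tmul, map_one, one_mul]
    rfl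
  let q' : Ideal (A₁ ⊗[R] S) := (maximalIdeal T).comap Φ.toRingHom
  haveI : q'.IsPrime := Ideal.comap_isPrime _ _
  have hq' : (maximalIdeal A₁).map (algebraMap A₁ (A₁ ⊗[R] S)) ≤ q' := by
    rw [Ideal.map_le_iff_le_comap]
    intro a ha
    show Φ (algebraMap A₁ _ a) ∈ maximalIdeal T
    rw [AlgHom.commutes]
    show g a ∈ maximalIdeal T
    rw [mem_maximalIdeal, mem_nonunits_iff] at ha ⊢
    exact fun h => ha (isUnit_of_map_unit g a h)
  have hunits : ∀ y : q'.primeCompl, IsUnit (Φ.toRingHom y) := fun y => by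
    have hy : (y : A₁ ⊗[R] S) ∉ q' := y.2
    by_contra hnu
    exact hy ((mem_maximalIdeal _).mpr hnu)
  letI algL'T : Algebra (Localization.AtPrime q') T := (IsLocalization.lift hunits).toAlgebra
  letI algR'T : Algebra (A₁ ⊗[R] S) T := Φ.toRingHom.toAlgebra
  haveI : IsScalarTower (A₁ ⊗[R] S) (Localization.AtPrime q') T :=
    IsScalarTower.of_algebraMap_eq fun y => (IsLocalization.lift_eq hunits y).symm
  haveI : IsLocalHom (algebraMap (Localization.AtPrime q') T) := by
    refine ⟨fun x hx => ?_⟩
    obtain ⟨⟨y, s⟩, hys⟩ := IsLocalization.surj q'.primeCompl x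
    simp only at hys
    have h1 : IsUnit (algebraMap (A₁ ⊗[R] S) T y) := by
      rw [IsScalarTower.algebraMap_apply (A₁ ⊗[R] S) (Localization.AtPrime q') T, ← hys, map_mul]
      refine hx.mul ?_
      rw [← IsScalarTower.algebraMap_apply]
      exact hunits s
    have h2 : y ∉ q' := fun hy => (mem_maximalIdeal _).mp hy h1
    have h3 : IsUnit (algebraMap (A₁ ⊗[R] S) (Localization.AtPrime q') y) :=
      IsLocalization.map_units _ (⟨y, h2⟩ : q'.primeCompl)
    rw [← hys] at h3
    exact isUnit_of_mul_isUnit_left h3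
  -- the `B`-algebra structure on `L'`
  have hunitsB : ∀ s : q.primeCompl, IsUnit (((algebraMap (A₁ ⊗[R] S) (Localization.AtPrime q')).comp
      (Algebra.TensorProduct.includeRight : S →ₐ[R] A₁ ⊗[R] S).toRingHom) s) := by
    intro s
    have h1 : IsUnit (algebraMap S B s) := IsLocalization.map_units B s
    have h2 : IsUnit (algebraMap S T s) := by
      rw [IsScalarTower.algebraMap_apply S B T]
      exact h1.map _
    have h3 : ((1 : A₁) ⊗ₜ[R] (s : S) : A₁ ⊗[R] S) ∉ q' := by
      intro hmem
      have h4 : Φ (1 ⊗ₜ (s : S)) ∈ maximalIdeal T := hmem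
      rw [hΦ2] at h4
      exact (mem_maximalIdeal _).mp h4 h2
    exact IsLocalization.map_units _ (⟨_, h3⟩ : q'.primeCompl)
  letI algBL' : Algebra B (Localization.AtPrime q') :=
    (IsLocalization.lift (M := q.primeCompl) hunitsB).toAlgebra
  have hBL' : ∀ s : S, algebraMap B (Localization.AtPrime q') (algebraMap S B s) =
      algebraMap (A₁ ⊗[R] S) (Localization.AtPrime q') (1 ⊗ₜ s) :=
    fun s => IsLocalization.lift_eq hunitsB s
  haveI : IsScalarTower B (Localization.AtPrime q') T := by
    refine IsScalarTower.of_algebraMap_eq' ?_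
    apply IsLocalization.ringHom_ext q.primeCompl
    ext s
    show algebraMap B T (algebraMap S B s) = algebraMap (Localization.AtPrime q') T
      (algebraMap B (Localization.AtPrime q') (algebraMap S B s))
    rw [hBL', ← IsScalarTower.algebraMap_apply (A₁ ⊗[R] S) (Localization.AtPrime q') T]
    show _ = Φ (1 ⊗ₜ s)
    rw [hΦ2]
    rfl
  -- the `A`-algebra structure on `B`
  have hunitsA : ∀ r : p.primeCompl, IsUnit (((algebraMap S B).comp (algebraMap R S)) r) := by
    intro r
    have h1 : IsUnit (algebraMap R A r) := IsLocalization.map_units A r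
    have h2 : IsUnit (algebraMap B T (algebraMap S B (algebraMap R S r))) := by
      have h3 := congr($hcomm r)
      simp only [RingHom.comp_apply] at h3
      rw [← h3]
      exact (h1.map _).map _
    exact isUnit_of_map_unit (algebraMap B T) _ h2
  letI algAB : Algebra A B := (IsLocalization.lift (M := p.primeCompl) hunitsA).toAlgebra
  have hAB : ∀ r : R, algebraMap A B (algebraMap R A r) = algebraMap S B (algebraMap R S r) :=
    fun r => IsLocalization.lift_eq hunitsA r
  -- `L'` is a union of étale images over `B`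
  have hUBL' : IsUnion B (Localization.AtPrime q') := by
    have hcompat : ((algebraMap (A₁ ⊗[R] S) (Localization.AtPrime q')).comp
        (algebraMap A₁ (A₁ ⊗[R] S))).comp (algebraMap A A₁) =
        (algebraMap B (Localization.AtPrime q')).comp (algebraMap A B) := by
      apply IsLocalization.ringHom_ext p.primeCompl
      ext r
      show algebraMap (A₁ ⊗[R] S) (Localization.AtPrime q') (algebraMap A₁ (A₁ ⊗[R] S)
          (algebraMap A A₁ (algebraMap R A r))) =
        algebraMap B (Localization.AtPrime q') (algebraMap A B (algebraMap R A r))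
      rw [hAB, hBL']
      congr 1
      rw [Algebra.TensorProduct.algebraMap_apply, Algebra.algebraMap_self, RingHom.id_apply,
        ← IsScalarTower.algebraMap_apply R A A₁, Algebra.algebraMap_eq_smul_one (A := A₁) r,
        TensorProduct.smul_tmul, ← Algebra.algebraMap_eq_smul_one]
    have hAL' : ∀ x : A, algebraMap A (Localization.AtPrime q') x =
        algebraMap (A₁ ⊗[R] S) (Localization.AtPrime q') (algebraMap A₁ (A₁ ⊗[R] S)
          (algebraMap A A₁ x)) := by
      intro x
      rw [IsScalarTower.algebraMap_apply A (A₁ ⊗[R] S) (Localization.AtPrime q'),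
        IsScalarTower.algebraMap_apply A A₁ (A₁ ⊗[R] S)]
    haveI : IsScalarTower A B (Localization.AtPrime q') := by
      refine IsScalarTower.of_algebraMap_eq fun x => ?_
      rw [hAL']
      exact congr($hcompat x)
    have hmem1 : ∀ a : A₁, algebraMap (A₁ ⊗[R] S) (Localization.AtPrime q') (a ⊗ₜ 1) ∈
        imageAlg B (Localization.AtPrime q') := by
      intro a
      obtain ⟨A', _, _, hA', φ, hφ⟩ := hUA a
      obtain ⟨a', ha'⟩ := hφ rfl
      let ψ₀ : A' →+* Localization.AtPrime q' :=
        ((algebraMap (A₁ ⊗[R] S) (Localization.AtPrime q')).comp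
          (algebraMap A₁ (A₁ ⊗[R] S))).comp φ.toRingHom
      let ψ : A' →ₐ[A] Localization.AtPrime q' :=
        { ψ₀ with
          commutes' := fun x => by
            show algebraMap (A₁ ⊗[R] S) (Localization.AtPrime q') (algebraMap A₁ (A₁ ⊗[R] S)
              (φ (algebraMap A A' x))) = algebraMap A (Localization.AtPrime q') x
            rw [φ.commutes, hAL'] }
      let Ψ : B ⊗[A] A' →ₐ[B] Localization.AtPrime q' :=
        Algebra.TensorProduct.lift (Algebra.ofId B (Localization.AtPrime q')) ψ
          (fun _ _ => Commute.all _ _)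
      refine ⟨B ⊗[A] A', _, _, inferInstance, Ψ, ?_⟩
      rintro _ rfl
      refine ⟨1 ⊗ₜ a', ?_⟩
      show Algebra.TensorProduct.lift _ _ _ _ = _
      rw [Algebra.TensorProduct.lift_tmul, map_one, one_mul]
      show algebraMap (A₁ ⊗[R] S) (Localization.AtPrime q') (algebraMap A₁ (A₁ ⊗[R] S) (φ a')) = _
      rw [ha', Algebra.TensorProduct.algebraMap_apply, Algebra.algebraMap_self, RingHom.id_apply]
    have hmem2 : ∀ s : S, algebraMap (A₁ ⊗[R] S) (Localization.AtPrime q') (1 ⊗ₜ s) ∈
        imageAlg B (Localization.AtPrime q') := fun s => by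
      rw [← hBL']
      exact (imageAlg B (Localization.AtPrime q')).algebraMap_mem _
    have hmem : ∀ y : A₁ ⊗[R] S, algebraMap (A₁ ⊗[R] S) (Localization.AtPrime q') y ∈
        imageAlg B (Localization.AtPrime q') := by
      intro y
      induction y using TensorProduct.induction_on with
      | zero => rw [map_zero]; exact zero_mem _
      | tmul a s =>
        have h1 : (a ⊗ₜ[R] s : A₁ ⊗[R] S) = (a ⊗ₜ 1) * (1 ⊗ₜ s) := by
          rw [Algebra.TensorProduct.tmul_mul_tmul, mul_one, one_mul]
        rw [h1, map_mul]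
        exact mul_mem (hmem1 a) (hmem2 s)
      | add y z hy hz => rw [map_add]; exact add_mem hy hz
    intro x
    obtain ⟨⟨y, s⟩, hys⟩ := IsLocalization.surj q'.primeCompl x
    simp only at hys
    have hs : algebraMap (A₁ ⊗[R] S) (Localization.AtPrime q') (s : A₁ ⊗[R] S) ∈
        imageAlg B (Localization.AtPrime q') := hmem s
    obtain ⟨sinv, hsinv⟩ := (IsLocalization.map_units (Localization.AtPrime q') s).exists_right_inv
    have hsinv' : sinv ∈ imageAlg B (Localization.AtPrime q') := InImage.inv hs sinv hsinv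
    have hx : x = algebraMap (A₁ ⊗[R] S) (Localization.AtPrime q') y * sinv := by
      rw [← hys, mul_assoc, hsinv, mul_one]
    rw [hx]
    exact mul_mem (hmem y) hsinv'
  -- `T` is a union of étale images over `L'`
  have hUL'T : IsUnion (Localization.AtPrime q') T :=
    isUnion_of_tower B (Localization.AtPrime q') T hUB
  haveI : Module.Flat (Localization.AtPrime q') T := hUBL'.flat_of_flat T
  have hcomp : ((algebraMap (Localization.AtPrime q') T).comp
      (algebraMap (A₁ ⊗[R] S) (Localization.AtPrime q'))).comp (algebraMap A₁ (A₁ ⊗[R] S)) = g := by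
    ext a
    show algebraMap (Localization.AtPrime q') T (algebraMap (A₁ ⊗[R] S) (Localization.AtPrime q')
      (algebraMap A₁ (A₁ ⊗[R] S) a)) = g a
    rw [← IsScalarTower.algebraMap_apply (A₁ ⊗[R] S) (Localization.AtPrime q') T]
    show Φ _ = _
    rw [AlgHom.commutes]
    rfl
  refine ⟨q', inferInstance, algL'T, inferInstance, inferInstance, hq', hUL'T, hcomp, ?_⟩
  haveI : IsScalarTower A₁ (Localization.AtPrime q') T := by
    refine IsScalarTower.of_algebraMap_eq fun a => ?_
    rw [IsScalarTower.algebraMap_apply A₁ (A₁ ⊗[R] S) (Localization.AtPrime q')]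
    exact congr($(hcomp.symm) a)
  haveI : Module.Flat (A₁ ⊗[R] S) (Localization.AtPrime q') :=
    IsLocalization.flat _ q'.primeCompl
  haveI : Module.Flat A₁ (Localization.AtPrime q') :=
    Module.Flat.trans A₁ (A₁ ⊗[R] S) (Localization.AtPrime q')
  exact Module.Flat.trans A₁ (Localization.AtPrime q') T

end GluePkg

section MainH

/-- a local homomorphism maps the maximal ideal into the maximal ideal -/
theorem map_mem_maximalIdeal {A B : Type u} [CommRing A] [CommRing B] [IsLocalRing A] [IsLocalRing B]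
    (f : A →+* B) [IsLocalHom f] {a : A} (ha : a ∈ maximalIdeal A) : f a ∈ maximalIdeal B := by
  rw [mem_maximalIdeal, mem_nonunits_iff] at ha ⊢
  exact fun hu => ha (isUnit_of_map_unit f a hu)

/-- **S2130.** For a smooth ring map `R → S` and a prime `q` of `S` over `p` with purely inseparable
residue field extension, henselizations of `R_p` and `S_q` have the same number of minimal
primes. -/
theorem mainH {R S Ah Bh : Type u} [CommRing R] [CommRing S]
    [Algebra R S] [Algebra.Smooth R S] (q : Ideal S) [q.IsPrime] (p : Ideal R) [p.IsPrime]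
    [q.LiesOver p]
    (hpi : @IsPurelyInseparable p.ResidueField q.ResidueField _ _
      (Ideal.ResidueField.mapₐ p q (Algebra.ofId R S) (q.over_def p)).toRingHom.toAlgebra)
    [CommRing Ah] [IsLocalRing Ah] [Algebra (Localization.AtPrime p) Ah]
    [IsLocalHom (algebraMap (Localization.AtPrime p) Ah)]
    [Hensel.IsHenselization (Localization.AtPrime p) Ah]
    [CommRing Bh] [IsLocalRing Bh] [Algebra (Localization.AtPrime q) Bh]
    [IsLocalHom (algebraMap (Localization.AtPrime q) Bh)]
    [Hensel.IsHenselization (Localization.AtPrime q) Bh] :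
    (minimalPrimes Ah).encard = (minimalPrimes Bh).encard := by
  have hA : Hensel.IsHenselization (Localization.AtPrime p) Ah := inferInstance
  have hB : Hensel.IsHenselization (Localization.AtPrime q) Bh := inferInstance
  obtain ⟨hUA, hffA⟩ := Groth.Agent.H3.HensUnion.package (Or.inl hA)
  obtain ⟨hUB, hffB⟩ := Groth.Agent.H3.HensUnion.package (Or.inl hB)
  haveI : HenselianLocalRing Ah := hA.henselian
  haveI : HenselianLocalRing Bh := hB.henselian
  haveI : Module.Flat (Localization.AtPrime q) Bh := hffB.toFlat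
  let fAB : Localization.AtPrime p →+* Localization.AtPrime q :=
    Localization.localRingHom p q (algebraMap R S) (q.over_def p)
  haveI : IsLocalHom fAB := Localization.isLocalHom_localRingHom p q _ (q.over_def p)
  letI algABh : Algebra (Localization.AtPrime p) Bh :=
    ((algebraMap (Localization.AtPrime q) Bh).comp fAB).toAlgebra
  haveI hlocABh : IsLocalHom (algebraMap (Localization.AtPrime p) Bh) := by
    show IsLocalHom ((algebraMap (Localization.AtPrime q) Bh).comp fAB)
    infer_instance
  obtain ⟨g, hg, -⟩ := hA.universal Bh (algebraMap (Localization.AtPrime p) Bh) hlocABh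
  have hg' : g.comp (algebraMap (Localization.AtPrime p) Ah) =
      algebraMap (Localization.AtPrime p) Bh := hg
  have hmax : (maximalIdeal (Localization.AtPrime p)).map
      (algebraMap (Localization.AtPrime p) Bh) ≤ maximalIdeal Bh := by
    rw [Ideal.map_le_iff_le_comap]
    intro r hr
    exact map_mem_maximalIdeal _ hr
  -- `g` is local
  haveI hgloc : IsLocalHom g := by
    refine ⟨fun x hx => ?_⟩
    by_contra hnu
    obtain ⟨a, ha⟩ := Groth.Agent.H14.HensProp.BranchCount.exists_sub_mem
      (Localization.AtPrime p) Ah x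
    have hy : x - algebraMap (Localization.AtPrime p) Ah a ∈ maximalIdeal Ah := by
      have h1 : (maximalIdeal (Localization.AtPrime p)).map
          (algebraMap (Localization.AtPrime p) Ah) ≤ maximalIdeal Ah := by
        rw [Ideal.map_le_iff_le_comap]
        intro r hr
        exact map_mem_maximalIdeal _ hr
      exact h1 ha
    have hx' : x ∈ maximalIdeal Ah := (mem_maximalIdeal x).mpr hnu
    have ha' : a ∈ maximalIdeal (Localization.AtPrime p) := by
      rw [mem_maximalIdeal, mem_nonunits_iff]
      intro hau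
      have h1 : IsUnit (algebraMap (Localization.AtPrime p) Ah a) := hau.map _
      have h2 : algebraMap (Localization.AtPrime p) Ah a ∈ maximalIdeal Ah := by
        have := (maximalIdeal Ah).sub_mem hx' hy
        simpa using this
      exact (mem_maximalIdeal _).mp h2 h1
    have h2 : g x = algebraMap (Localization.AtPrime p) Bh a +
        g (x - algebraMap (Localization.AtPrime p) Ah a) := by
      rw [map_sub, ← hg']
      simp
    have h3 : algebraMap (Localization.AtPrime p) Bh a ∈ maximalIdeal Bh :=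
      map_mem_maximalIdeal _ ha'
    have h4 : g (x - algebraMap (Localization.AtPrime p) Ah a) ∈ maximalIdeal Bh := by
      have h5 : g (x - algebraMap (Localization.AtPrime p) Ah a) ∈
          ((maximalIdeal (Localization.AtPrime p)).map
            (algebraMap (Localization.AtPrime p) Ah)).map g := Ideal.mem_map_of_mem g ha
      rw [Ideal.map_map, hg'] at h5
      exact hmax h5
    have h7 : g x ∈ maximalIdeal Bh := by
      rw [h2]
      exact Ideal.add_mem _ h3 h4
    exact (mem_maximalIdeal _).mp h7 hx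
  letI algRAh : Algebra R Ah :=
    ((algebraMap (Localization.AtPrime p) Ah).comp (algebraMap R (Localization.AtPrime p))).toAlgebra
  haveI : IsScalarTower R (Localization.AtPrime p) Ah := IsScalarTower.of_algebraMap_eq' rfl
  have hcomm : (g.comp (algebraMap (Localization.AtPrime p) Ah)).comp
      (algebraMap R (Localization.AtPrime p)) =
      ((algebraMap (Localization.AtPrime q) Bh).comp (algebraMap S (Localization.AtPrime q))).comp
        (algebraMap R S) := by
    rw [hg']
    ext r
    show algebraMap (Localization.AtPrime q) Bh (fAB (algebraMap R _ r)) = _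
    rw [Localization.localRingHom_to_map]
    rfl
  obtain ⟨q', hq'prime, algL'T, hL'loc, hL'flat, hq', hUL', hcomp, hflat⟩ :=
    glue_pkg R S (Localization.AtPrime p) (Localization.AtPrime q) Ah Bh p q hUA hUB g hcomm
  -- purely inseparable data
  obtain ⟨e, hedef⟩ : ∃ e : ℕ, e = ringExpChar p.ResidueField := ⟨_, rfl⟩
  haveI hE : ExpChar p.ResidueField e := hedef ▸ ringExpChar.expChar _
  have he : e = 1 ∨ (e.Prime ∧ ((e : ℕ) : Bh) ∈ maximalIdeal Bh) := by
    cases hE with
    | zero => exact Or.inl rfl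
    | prime hprime =>
      refine Or.inr ⟨hprime, ?_⟩
      have h1 : ((e : ℕ) : Localization.AtPrime p) ∈ maximalIdeal (Localization.AtPrime p) := by
        refine (IsLocalRing.residue_eq_zero_iff (R := Localization.AtPrime p) _).mp ?_
        rw [map_natCast]
        exact CharP.cast_eq_zero _ e
      have h2 := map_mem_maximalIdeal (algebraMap (Localization.AtPrime p) Bh) h1
      rwa [map_natCast] at h2
  have hpi' : ∀ t : Bh, ∃ (n : ℕ) (r : Ah), t ^ e ^ n - algebraMap (Localization.AtPrime q') Bh
      (algebraMap (Ah ⊗[R] S) (Localization.AtPrime q') (algebraMap Ah (Ah ⊗[R] S) r)) ∈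
      maximalIdeal Bh := by
    intro t
    obtain ⟨b, hb⟩ := Groth.Agent.H14.HensProp.BranchCount.exists_sub_mem
      (Localization.AtPrime q) Bh t
    have hb' : t - algebraMap (Localization.AtPrime q) Bh b ∈ maximalIdeal Bh := by
      have h1 : (maximalIdeal (Localization.AtPrime q)).map
          (algebraMap (Localization.AtPrime q) Bh) ≤ maximalIdeal Bh := by
        rw [Ideal.map_le_iff_le_comap]
        intro r hr
        exact map_mem_maximalIdeal _ hr
      exact h1 hb
    letI := (Ideal.ResidueField.mapₐ p q (Algebra.ofId R S) (q.over_def p)).toRingHom.toAlgebra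
    haveI := hpi
    obtain ⟨n, y, hy⟩ := IsPurelyInseparable.pow_mem p.ResidueField e
      (residue (Localization.AtPrime q) b)
    obtain ⟨a, rfl⟩ := residue_surjective y
    have h1 : residue (Localization.AtPrime q) (fAB a) =
        (residue (Localization.AtPrime q) b) ^ e ^ n := by
      rw [← hy]
      rfl
    have h2 : b ^ e ^ n - fAB a ∈ maximalIdeal (Localization.AtPrime q) := by
      refine (IsLocalRing.residue_eq_zero_iff (R := Localization.AtPrime q) _).mp ?_
      rw [map_sub, map_pow, h1, sub_self]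
    refine ⟨n, algebraMap (Localization.AtPrime p) Ah a, ?_⟩
    have h3 : algebraMap (Localization.AtPrime q') Bh
        (algebraMap (Ah ⊗[R] S) (Localization.AtPrime q') (algebraMap Ah (Ah ⊗[R] S)
          (algebraMap (Localization.AtPrime p) Ah a))) =
        algebraMap (Localization.AtPrime q) Bh (fAB a) := by
      have h4 := congr($hcomp (algebraMap (Localization.AtPrime p) Ah a))
      simp only [RingHom.comp_apply] at h4
      rw [h4, ← RingHom.comp_apply, hg']
      rfl
    rw [h3]
    have h4 : t ^ e ^ n - (algebraMap (Localization.AtPrime q) Bh b) ^ e ^ n ∈ maximalIdeal Bh := by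
      obtain ⟨c, hc⟩ := sub_dvd_pow_sub_pow t (algebraMap (Localization.AtPrime q) Bh b) (e ^ n)
      rw [hc]
      exact Ideal.mul_mem_right _ _ hb'
    have h5 : algebraMap (Localization.AtPrime q) Bh (b ^ e ^ n - fAB a) ∈ maximalIdeal Bh :=
      map_mem_maximalIdeal _ h2
    have h6 : t ^ e ^ n - algebraMap (Localization.AtPrime q) Bh (fAB a) =
        (t ^ e ^ n - (algebraMap (Localization.AtPrime q) Bh b) ^ e ^ n) +
          algebraMap (Localization.AtPrime q) Bh (b ^ e ^ n - fAB a) := by
      rw [map_sub, map_pow]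
      ring
    rw [h6]
    exact Ideal.add_mem _ h4 h5
  have hprime : ∀ P : Ideal Ah, P.IsPrime → (P.map g).IsPrime := by
    intro P hP
    have h1 := isPrime_map_of_henselian Ah (Ah ⊗[R] S) Bh q' P hq' hUL' e he hpi'
    rw [Ideal.map_map, Ideal.map_map, hcomp] at h1
    exact h1
  letI := g.toAlgebra
  haveI := hflat
  haveI : IsLocalHom (algebraMap Ah Bh) := hgloc
  haveI : Module.FaithfullyFlat Ah Bh := Module.FaithfullyFlat.of_flat_of_isLocalHom
  exact encard_minimalPrimes_eq Ah Bh (fun P hP => hprime P hP.1.1)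

end MainH

end Groth.Agent.H66.SmoothBranchH
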