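import Mathlib
import Groth.Agent.S12482

/-!
# The split conormal sequence of a smooth quotient of a smooth algebra by a regular sequence

`Ω_{B/k} × B^p ≃ B ⊗_A Ω_{A/k}` for `B = A/(x_1, …, x_p)`.
-/

set_option autoImplicit false
universe u

open scoped TensorProduct
open KaehlerDifferential

namespace Groth.Agent.H66.SmoothQuotTheta

/-- the conormal module of an ideal generated by a weakly regular sequence is free -/
theorem nonempty_cotangent_basis {A : Type u} [CommRing A] (p : ℕ) (x : Fin p → A)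
    (hreg : RingTheory.Sequence.IsWeaklyRegular A (List.ofFn x)) (I : Ideal A)
    (hI : I = Ideal.span (Set.range x)) :
    Nonempty (Module.Basis (Fin p) (A ⧸ I) I.Cotangent) := by
  subst hI
  obtain ⟨b, -⟩ := Groth.Agent.S12482.result A p x hreg
  exact ⟨b⟩

/-- transport of cotangent spaces along an equality of ideals -/
theorem nonempty_cotangent_equiv {P : Type u} [CommRing P] (J I : Ideal P) (h : J = I) :
    Nonempty (J.Cotangent ≃ₗ[P] I.Cotangent) := by
  subst h
  exact ⟨LinearEquiv.refl _ _⟩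

variable (k : Type u) [CommRing k] (A : Type u) [CommRing A] [Algebra k A]

/-- the split conormal sequence -/
theorem nonempty_theta [Algebra.FormallySmooth k A] (xs : List A)
    (hreg : RingTheory.Sequence.IsWeaklyRegular A xs)
    [Algebra.FormallySmooth k (A ⧸ Ideal.ofList xs)] :
    Nonempty ((Ω[(A ⧸ Ideal.ofList xs)⁄k] × (Fin xs.length → (A ⧸ Ideal.ofList xs)))
      ≃ₗ[A ⧸ Ideal.ofList xs] ((A ⧸ Ideal.ofList xs) ⊗[A] Ω[A⁄k])) := by
  classical
  have hI : Ideal.ofList xs = Ideal.span (Set.range xs.get) := by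
    rw [Set.range_list_get]
  obtain ⟨bC⟩ := nonempty_cotangent_basis xs.length xs.get (by rwa [List.ofFn_get]) _ hI
  have hsurj : Function.Surjective (algebraMap A (A ⧸ Ideal.ofList xs)) :=
    Ideal.Quotient.mk_surjective
  obtain ⟨l, hl⟩ := (Algebra.FormallySmooth.iff_split_injection (R := k)
    (P := A) (A := A ⧸ Ideal.ofList xs) hsurj).mp inferInstance
  have hex := KaehlerDifferential.exact_kerCotangentToTensor_mapBaseChange k
    A (A ⧸ Ideal.ofList xs) hsurj
  have hg := KaehlerDifferential.mapBaseChange_surjective k A (A ⧸ Ideal.ofList xs) hsurj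
  have hex' : Function.Exact (kerCotangentToTensor k A (A ⧸ Ideal.ofList xs))
      ((KaehlerDifferential.mapBaseChange k A (A ⧸ Ideal.ofList xs)).restrictScalars A) := hex
  obtain ⟨e, -, -⟩ := hex'.splitInjectiveEquiv hg ⟨l, hl⟩
  have hker : RingHom.ker (algebraMap A (A ⧸ Ideal.ofList xs)) = Ideal.ofList xs :=
    Ideal.mk_ker
  obtain ⟨eK⟩ := nonempty_cotangent_equiv _ _ hker
  let e2 : (Ideal.ofList xs).Cotangent ≃ₗ[A] (Fin xs.length → (A ⧸ Ideal.ofList xs)) :=
    bC.equivFun.restrictScalars A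
  let e3 : ((A ⧸ Ideal.ofList xs) ⊗[A] Ω[A⁄k]) ≃ₗ[A]
      (Ω[(A ⧸ Ideal.ofList xs)⁄k] × (Fin xs.length → (A ⧸ Ideal.ofList xs))) :=
    e ≪≫ₗ (LinearEquiv.prodCongr (eK ≪≫ₗ e2) (LinearEquiv.refl _ _)) ≪≫ₗ
      LinearEquiv.prodComm _ _ _
  exact ⟨(e3.extendScalarsOfSurjective hsurj).symm⟩

end Groth.Agent.H66.SmoothQuotTheta
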