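import Mathlib

/-!
# Additive truncated polynomials in characteristic p, and endomorphisms of A[X]/(X^{p^2}) (helper66)
-/

set_option autoImplicit false

open Polynomial

namespace Groth.Agent.H66.TruncAdd

universe u

/-- for `2 ≤ n < p²`, `n ≠ p`, some binomial coefficient `C(n,i)`, `0<i<n`, is prime to `p` -/
theorem exists_choose_not_dvd (p : ℕ) [hp : Fact p.Prime] (n : ℕ) (h2 : 2 ≤ n) (hn : n < p ^ 2)
    (hnp : n ≠ p) : ∃ i, 0 < i ∧ i < n ∧ ¬ p ∣ n.choose i := by
  have hp0 : 0 < p := hp.out.pos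
  have hp2 : 2 ≤ p := hp.out.two_le
  have hb : n / p < p := by
    apply Nat.div_lt_of_lt_mul
    rw [← pow_two]; exact hn
  have ha : n % p < p := Nat.mod_lt _ hp0
  have hdecomp : n % p + p * (n / p) = n := Nat.mod_add_div n p
  have hlucas : ∀ k, n.choose k ≡ (n % p).choose (k % p) * (n / p).choose (k / p) [MOD p] :=
    fun k => Choose.choose_modEq_choose_mod_mul_choose_div_nat
  obtain ⟨b, hbdef⟩ : ∃ b, b = n / p := ⟨_, rfl⟩
  obtain ⟨a, hadef⟩ : ∃ a, a = n % p := ⟨_, rfl⟩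
  rw [← hbdef, ← hadef] at hdecomp hlucas
  rw [← hbdef] at hb
  rw [← hadef] at ha
  by_cases ha0 : a = 0
  · -- n = p * b, b ≥ 2
    subst ha0
    have hb1 : b ≠ 0 := by
      rintro rfl
      rw [mul_zero] at hdecomp
      omega
    have hb2 : b ≠ 1 := by
      rintro rfl
      rw [mul_one] at hdecomp
      omega
    have hpn : p < n := by
      have h3 : 2 ≤ b := by omega
      have h4 : p * 2 ≤ p * b := Nat.mul_le_mul_left p h3
      omega
    refine ⟨p, hp0, hpn, ?_⟩
    have hl := hlucas p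
    rw [Nat.mod_self, Nat.div_self hp0, Nat.choose_zero_right, one_mul,
      Nat.choose_one_right] at hl
    rw [Nat.ModEq.dvd_iff hl (dvd_refl p)]
    intro hd
    exact absurd (Nat.le_of_dvd (Nat.pos_of_ne_zero hb1) hd) (not_le.mpr hb)
  · by_cases hb0 : b = 0
    · -- n = a < p
      subst hb0
      have hnlt : n < p := by
        rw [mul_zero] at hdecomp
        omega
      refine ⟨1, one_pos, by omega, ?_⟩
      rw [Nat.choose_one_right]
      intro hd
      exact absurd (Nat.le_of_dvd (by omega) hd) (not_le.mpr hnlt)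
    · refine ⟨a, Nat.pos_of_ne_zero ha0, ?_, ?_⟩
      · have : p ≤ p * b := Nat.le_mul_of_pos_right _ (Nat.pos_of_ne_zero hb0)
        omega
      · have hl := hlucas a
        rw [Nat.mod_eq_of_lt ha, Nat.choose_self, Nat.div_eq_of_lt ha, Nat.choose_zero_right,
          one_mul] at hl
        rw [Nat.ModEq.dvd_iff hl (dvd_refl p)]
        intro hd
        exact absurd (Nat.le_of_dvd one_pos hd) (not_le.mpr (by omega))

section part2

variable (p : ℕ) [hp : Fact p.Prime] (A : Type u) [CommRing A] [CharP A p]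

theorem coeff_one_comp (g h : A[X]) (h0 : h.coeff 0 = 0) :
    (g.comp h).coeff 1 = g.coeff 1 * h.coeff 1 := by
  have key : ∀ f : A[X], f.coeff 1 = (derivative f).eval 0 := by
    intro f
    rw [← coeff_zero_eq_eval_zero, coeff_derivative]
    simp
  rw [key, derivative_comp, eval_mul, eval_comp, ← coeff_zero_eq_eval_zero h, h0, ← key, ← key,
    mul_comm]

theorem part2_aux (I : Ideal A[X]) (hI : I = Ideal.span ({X ^ p ^ 2} : Set A[X])) (a₁ ap : A)
    (φ : (A[X] ⧸ I) →ₐ[A] (A[X] ⧸ I))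
    (hφ : φ (Ideal.Quotient.mk I X) = Ideal.Quotient.mk I (C a₁ * X + C ap * X ^ p)) :
    Function.Bijective φ ↔ IsUnit a₁ := by
  classical
  have hp2 : 2 ≤ p := hp.out.two_le
  have h0p : (0 : ℕ) ≠ p := by omega
  have h1p : (1 : ℕ) ≠ p := by omega
  let π : A[X] →ₐ[A] (A[X] ⧸ I) := Ideal.Quotient.mkₐ A I
  have hπ : ∀ g, π g = Ideal.Quotient.mk I g := fun g => rfl
  obtain ⟨h, hh⟩ : ∃ h : A[X], h = C a₁ * X + C ap * X ^ p := ⟨_, rfl⟩
  rw [← hh] at hφ
  have hcomp : ∀ g : A[X], φ (π g) = π (g.comp h) := by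
    intro g
    have h1 : (φ.comp π) = (π.comp (aeval h)) := by
      apply Polynomial.algHom_ext
      simp only [AlgHom.comp_apply, aeval_X]
      exact hφ
    have h2 := DFunLike.congr_fun h1 g
    simp only [AlgHom.comp_apply] at h2
    rw [h2]
    rfl
  have hπsurj : Function.Surjective π := Ideal.Quotient.mk_surjective
  have hh0 : h.coeff 0 = 0 := by
    simp [hh, coeff_X_pow, h0p]
  have hh1 : h.coeff 1 = a₁ := by
    simp [hh, coeff_X_pow, h1p]
  constructor
  · rintro ⟨-, hsurj⟩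
    obtain ⟨b, hb⟩ := hsurj (π X)
    obtain ⟨g, rfl⟩ := hπsurj b
    rw [hcomp, hπ, hπ, Ideal.Quotient.eq, hI, Ideal.mem_span_singleton, X_pow_dvd_iff] at hb
    have h1 := hb 1 (by
      have : 4 ≤ p ^ 2 := by nlinarith
      omega)
    rw [coeff_sub, coeff_one_comp A g h hh0, hh1, coeff_X_one, sub_eq_zero] at h1
    exact IsUnit.of_mul_eq_one_right _ h1
  · intro hu
    obtain ⟨u, rfl⟩ := hu
    have hxN : π (X ^ p ^ 2) = 0 := by
      rw [hπ, Ideal.Quotient.eq_zero_iff_mem, hI]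
      exact Ideal.subset_span rfl
    have hx : ∃ x', φ x' = π X := by
      let c : A := ((u⁻¹ : Aˣ) : A) * ap
      have hz : φ (π (C ((u⁻¹ : Aˣ) : A) * X)) = π (X + C c * X ^ p) := by
        rw [hcomp]
        congr 1
        simp only [hh, c, mul_comp, C_comp, X_comp, C_mul]
        have hinv : C ((u⁻¹ : Aˣ) : A) * C (u : A) = (1 : A[X]) := by
          rw [← C_mul, Units.inv_mul, C_1]
        calc C ((u⁻¹ : Aˣ) : A) * (C (u : A) * X + C ap * X ^ p)
            = (C ((u⁻¹ : Aˣ) : A) * C (u : A)) * X + C ((u⁻¹ : Aˣ) : A) * C ap * X ^ p := by ring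
          _ = _ := by rw [hinv]; ring
      have hzp : (X + C c * X ^ p : A[X]) ^ p = X ^ p + C (c ^ p) * X ^ (p ^ 2) := by
        rw [add_pow_char, mul_pow, ← C_pow, ← pow_mul, pow_two]
      obtain ⟨w, hw⟩ : ∃ w, w = π (C ((u⁻¹ : Aˣ) : A) * X) := ⟨_, rfl⟩
      rw [← hw] at hz
      have hxp : φ (w ^ p) = π (X ^ p) := by
        rw [map_pow, hz, ← map_pow, hzp, map_add, map_mul π (C (c ^ p)), hxN, mul_zero, add_zero]
      have hφC : φ (π (C c)) = π (C c) := by
        rw [hcomp, C_comp]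
      refine ⟨w - π (C c) * w ^ p, ?_⟩
      rw [map_sub, map_mul, hxp, hz, hφC, ← map_mul, ← map_sub]
      congr 1
      ring
    obtain ⟨x', hx'⟩ := hx
    have hsurj : Function.Surjective φ := by
      intro b
      obtain ⟨g, rfl⟩ := hπsurj b
      refine ⟨aeval x' g, ?_⟩
      rw [← aeval_algHom_apply, hx']
      conv_rhs => rw [← aeval_X_left_apply g]
      rw [aeval_algHom_apply]
    have hfin : Module.Finite A (A[X] ⧸ I) := by
      rw [hI]
      exact (Polynomial.monic_X_pow (p ^ 2) : (X ^ p ^ 2 : A[X]).Monic).finite_adjoinRoot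
    have hinj : Function.Injective φ := fun a b hab =>
      OrzechProperty.injective_of_surjective_endomorphism φ.toLinearMap hsurj hab
    exact ⟨hinj, hsurj⟩

theorem part2 (a₁ ap : A)
    (φ : (A[X] ⧸ Ideal.span ({X ^ p ^ 2} : Set A[X])) →ₐ[A]
      (A[X] ⧸ Ideal.span ({X ^ p ^ 2} : Set A[X])))
    (hφ : φ (Ideal.Quotient.mk (Ideal.span ({X ^ p ^ 2} : Set A[X])) X) =
      Ideal.Quotient.mk (Ideal.span ({X ^ p ^ 2} : Set A[X])) (C a₁ * X + C ap * X ^ p)) :
    Function.Bijective φ ↔ IsUnit a₁ :=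
  part2_aux p A _ rfl a₁ ap φ hφ

end part2

end Groth.Agent.H66.TruncAdd
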