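import Mathlib
import Groth.Agent.H66.TruncAdd

/-!
# Additive truncated polynomials in characteristic p: part 1 (helper66)
-/

set_option autoImplicit false

open Polynomial

namespace Groth.Agent.H66.TruncAdd

universe u

section part1

variable (A : Type u) [CommRing A]

theorem hasseDeriv_map' {B : Type*} [CommRing B] (φ : A →+* B) (k : ℕ) (f : A[X]) :
    hasseDeriv k (f.map φ) = (hasseDeriv k f).map φ := by
  ext n
  rw [hasseDeriv_coeff, coeff_map, coeff_map, hasseDeriv_coeff, map_mul, map_natCast]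

/-- the comparison map `A[X₀,X₁] → A[X][Y]` -/
noncomputable def Ψ : MvPolynomial (Fin 2) A →ₐ[A] A[X][X] :=
  MvPolynomial.aeval ![C X, X]

theorem Ψ_X0 : Ψ A (MvPolynomial.X 0) = C X := by simp [Ψ]

theorem Ψ_X1 : Ψ A (MvPolynomial.X 1) = X := by simp [Ψ]

theorem algebraMap_eq' (a : A) : algebraMap A A[X][X] a = C (C a) := rfl

theorem aeval_Y (q : A[X]) : aeval (X : A[X][X]) q = q.map C := by
  rw [aeval_def, eval₂_eq_eval_map]
  have : algebraMap A A[X][X] = (C : A[X] →+* A[X][X]).comp (C : A →+* A[X]) := rfl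
  rw [this, ← Polynomial.map_map, eval_map, eval₂_C_X]

theorem aeval_CX (q : A[X]) : aeval (C X : A[X][X]) q = C q := by
  have h1 : (C X : A[X][X]) = (CAlgHom : A[X] →ₐ[A] A[X][X]) X := rfl
  rw [h1, aeval_algHom_apply, aeval_X_left_apply]
  rfl

theorem aeval_sum (q : A[X]) : aeval (C X + X : A[X][X]) q = taylor X (q.map C) := by
  rw [taylor_apply, comp, eval₂_map, add_comm, aeval_def]
  rfl

/-- the coefficient functional -/
theorem coeff_D (q : A[X]) (i j : ℕ) :
    ((aeval (C X + X : A[X][X]) q - aeval (C X : A[X][X]) q - aeval (X : A[X][X]) q).coeff j).coeff i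
      = ((i + j).choose j : A) * q.coeff (i + j) - (if j = 0 then q.coeff i else 0)
        - (if i = 0 then q.coeff j else 0) := by
  rw [aeval_sum, aeval_CX, aeval_Y, coeff_sub, coeff_sub, coeff_sub, coeff_sub, taylor_coeff,
    hasseDeriv_map', eval_map, eval₂_C_X, hasseDeriv_coeff, coeff_C, coeff_map, coeff_C]
  congr 2
  · split_ifs <;> simp
  
theorem coeff_mem_span (N : ℕ) (F : A[X][X])
    (hF : F ∈ Ideal.span ({C (X ^ N), X ^ N} : Set A[X][X])) (i j : ℕ) (hi : i < N) (hj : j < N) :
    (F.coeff j).coeff i = 0 := by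
  obtain ⟨G, H, rfl⟩ := Ideal.mem_span_pair.mp hF
  have e1 : (H * X ^ N).coeff j = 0 := by
    rw [coeff_mul_X_pow', if_neg (not_le.mpr hj)]
  rw [coeff_add, coeff_add, coeff_mul_C, e1, coeff_zero, add_zero, coeff_mul_X_pow',
    if_neg (not_le.mpr hi)]

variable (p : ℕ) [hp : Fact p.Prime] [CharP A p]

theorem part1 (q : A[X]) (hq : q.natDegree < p ^ 2) :
    (Polynomial.aeval (MvPolynomial.X 0 + MvPolynomial.X 1 : MvPolynomial (Fin 2) A) q -
        Polynomial.aeval (MvPolynomial.X 0 : MvPolynomial (Fin 2) A) q -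
        Polynomial.aeval (MvPolynomial.X 1 : MvPolynomial (Fin 2) A) q ∈
      Ideal.span ({MvPolynomial.X 0 ^ p ^ 2, MvPolynomial.X 1 ^ p ^ 2} :
        Set (MvPolynomial (Fin 2) A)) ↔
    ∃ a₁ ap : A, q = Polynomial.C a₁ * X + Polynomial.C ap * X ^ p) := by
  classical
  have hp2 : 2 ≤ p := hp.out.two_le
  have hpN : p < p ^ 2 := by nlinarith
  constructor
  · intro hmem
    -- transport to A[X][Y]
    have h1 := Ideal.mem_map_of_mem (Ψ A : MvPolynomial (Fin 2) A →+* A[X][X]) hmem
    rw [Ideal.map_span, Set.image_pair] at h1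
    have h2 : (Ψ A : MvPolynomial (Fin 2) A →+* A[X][X])
        (Polynomial.aeval (MvPolynomial.X 0 + MvPolynomial.X 1 : MvPolynomial (Fin 2) A) q -
        Polynomial.aeval (MvPolynomial.X 0 : MvPolynomial (Fin 2) A) q -
        Polynomial.aeval (MvPolynomial.X 1 : MvPolynomial (Fin 2) A) q) =
        aeval (C X + X : A[X][X]) q - aeval (C X : A[X][X]) q - aeval (X : A[X][X]) q := by
      simp only [RingHom.coe_coe, map_sub, ← aeval_algHom_apply, map_add, Ψ_X0, Ψ_X1]
    have h3 : (Ψ A : MvPolynomial (Fin 2) A →+* A[X][X]) (MvPolynomial.X 0 ^ p ^ 2) =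
        C (X ^ p ^ 2) := by
      simp only [RingHom.coe_coe, map_pow, Ψ_X0]
    have h4 : (Ψ A : MvPolynomial (Fin 2) A →+* A[X][X]) (MvPolynomial.X 1 ^ p ^ 2) =
        X ^ p ^ 2 := by
      simp only [RingHom.coe_coe, map_pow, Ψ_X1]
    rw [h2, h3, h4] at h1
    have key : ∀ i j, i < p ^ 2 → j < p ^ 2 →
        ((i + j).choose j : A) * q.coeff (i + j) - (if j = 0 then q.coeff i else 0)
        - (if i = 0 then q.coeff j else 0) = 0 := by
      intro i j hi hj
      rw [← coeff_D]
      exact coeff_mem_span A (p ^ 2) _ h1 i j hi hj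
    have hc0 : q.coeff 0 = 0 := by
      have := key 0 0 (by positivity) (by positivity)
      simp at this
      exact this
    have hcn : ∀ n, 2 ≤ n → n ≠ p → q.coeff n = 0 := by
      intro n hn2 hnp
      by_cases hnN : n < p ^ 2
      · obtain ⟨i, hi0, hin, hnd⟩ := exists_choose_not_dvd p n hn2 hnN hnp
        have := key (n - i) i (by omega) (by omega)
        rw [if_neg (by omega), if_neg (by omega), sub_zero, sub_zero,
          show n - i + i = n by omega] at this
        have hu : IsUnit ((n.choose i : ℕ) : A) := (CharP.isUnit_natCast_iff hp.out).mpr hnd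
        exact (hu.mul_right_eq_zero).mp this
      · exact coeff_eq_zero_of_natDegree_lt (by omega)
    refine ⟨q.coeff 1, q.coeff p, ?_⟩
    ext n
    rw [coeff_add, coeff_C_mul, coeff_C_mul, coeff_X, coeff_X_pow]
    by_cases hn1 : n = 1
    · subst hn1
      rw [if_pos rfl, if_neg (by omega)]; simp
    · by_cases hnp : n = p
      · subst hnp
        rw [if_neg (Ne.symm hn1), if_pos rfl]; simp
      · rw [if_neg (Ne.symm hn1), if_neg hnp]
        by_cases h0 : n = 0
        · subst h0; simp [hc0]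
        · simp [hcn n (by omega) hnp]
  · rintro ⟨a₁, ap, rfl⟩
    have hchar : (MvPolynomial.X 0 + MvPolynomial.X 1 : MvPolynomial (Fin 2) A) ^ p =
        MvPolynomial.X 0 ^ p + MvPolynomial.X 1 ^ p := add_pow_char _ _ _
    have : Polynomial.aeval (MvPolynomial.X 0 + MvPolynomial.X 1 : MvPolynomial (Fin 2) A)
          (C a₁ * X + C ap * X ^ p) -
        Polynomial.aeval (MvPolynomial.X 0 : MvPolynomial (Fin 2) A) (C a₁ * X + C ap * X ^ p) -
        Polynomial.aeval (MvPolynomial.X 1 : MvPolynomial (Fin 2) A) (C a₁ * X + C ap * X ^ p)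
        = 0 := by
      simp only [map_add, map_mul, aeval_C, aeval_X, map_pow, hchar]
      ring
    rw [this]
    exact Ideal.zero_mem _

end part1

end Groth.Agent.H66.TruncAdd
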