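import Mathlib
import Groth.Agent.H66.UnibranchGD
import Groth.Agent.H66.SmoothGU3
import Groth.Agent.H24.UnivOpenFinite

/-!
# Quasi-finite algebras over geometrically unibranch rings are universally open

Ring-level core of: `f : X ⟶ Y` locally quasi-finite, `Y` locally Noetherian with geometrically
unibranch local rings, every irreducible component of `X` dominating a component of `Y` ⇒ `f`
universally open.
-/

set_option autoImplicit false
universe u

open TensorProduct IsLocalRing CategoryTheory CategoryTheory.Limits AlgebraicGeometry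

namespace Groth.Agent.H66.UnibranchUO

section Criterion

variable {A B : Type u} [CommRing A] [CommRing B] [Algebra A B]

/-- every element of a tensor product is a finite sum of pure tensors, indexed by `Fin d` -/
theorem exists_sum_tmul (A' : Type u) [CommRing A'] [Algebra A A'] (g : A' ⊗[A] B) :
    ∃ (d : ℕ) (a' : Fin d → A') (b : Fin d → B), ∑ i, a' i ⊗ₜ[A] b i = g := by
  induction g using TensorProduct.induction_on with
  | zero => exact ⟨0, Fin.elim0, Fin.elim0, by simp⟩
  | tmul x y => exact ⟨1, fun _ => x, fun _ => y, by simp⟩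
  | add x y hx hy =>
    obtain ⟨d₁, a₁, b₁, rfl⟩ := hx
    obtain ⟨d₂, a₂, b₂, rfl⟩ := hy
    refine ⟨d₁ + d₂, Fin.append a₁ a₂, Fin.append b₁ b₂, ?_⟩
    rw [Fin.sum_univ_add]
    simp

/-- **The `𝔸ⁿ` criterion, ring form**: if `Spec B[x₁..x_d] → Spec A[x₁..x_d]` is open for all `d`,
then `Spec (A' ⊗ B) → Spec A'` is open for every `A`-algebra `A'`. -/
theorem isOpenMap_comap_includeLeft_of_forall
    (hopen : ∀ d : ℕ, IsOpenMap
      (PrimeSpectrum.comap (MvPolynomial.map (σ := Fin d) (algebraMap A B))))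
    (A' : Type u) [CommRing A'] [Algebra A A'] :
    IsOpenMap (PrimeSpectrum.comap
      (Algebra.TensorProduct.includeLeftRingHom : A' →+* A' ⊗[A] B)) := by
  rw [PrimeSpectrum.isTopologicalBasis_basic_opens.isOpenMap_iff]
  rintro _ ⟨g, rfl⟩
  obtain ⟨d, a', b, rfl⟩ := exists_sum_tmul A' g
  have hpb := (isPullback_SpecMap_of_isPushout _ _ _ _
    (Groth.Agent.H24.isPushout_theta (A := A) (B := B) A' a')).flip
  have himg := Scheme.image_preimage_eq_of_isPullback hpb
    (PrimeSpectrum.basicOpen (Groth.Agent.H24.linForm b) :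
      Set (PrimeSpectrum (MvPolynomial (Fin d) B)))
  have e : (PrimeSpectrum.basicOpen (∑ i, a' i ⊗ₜ[A] b i) : Set (PrimeSpectrum (A' ⊗[A] B))) =
      PrimeSpectrum.comap (Groth.Agent.H24.ThetaHom (A := A) (B := B) A' a') ⁻¹'
        (PrimeSpectrum.basicOpen (Groth.Agent.H24.linForm b) :
          Set (PrimeSpectrum (MvPolynomial (Fin d) B))) := by
    rw [← Groth.Agent.H24.ThetaHom_linForm]
    ext x
    simp
  change IsOpen (PrimeSpectrum.comap Algebra.TensorProduct.includeLeftRingHom ''
    (PrimeSpectrum.basicOpen (∑ i, a' i ⊗ₜ[A] b i) : Set (PrimeSpectrum (A' ⊗[A] B))))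
  rw [e]
  have := (hopen d _ (PrimeSpectrum.basicOpen (Groth.Agent.H24.linForm b)).2).preimage
    (PrimeSpectrum.continuous_comap (Groth.Agent.H24.thetaHom (A := A) A' a'))
  convert this using 1
  exact himg

set_option backward.isDefEq.respectTransparency false in
/-- scheme form of the criterion over an affine base -/
theorem universallyOpen_SpecMap_of_forall
    (hopen : ∀ d : ℕ, IsOpenMap
      (PrimeSpectrum.comap (MvPolynomial.map (σ := Fin d) (algebraMap A B)))) :
    UniversallyOpen (Spec.map (CommRingCat.ofHom (algebraMap A B))) := by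
  apply Groth.Agent.H24.universallyOpen_of_forall_spec
  intro R' ψ
  algebraize [ψ.hom]
  have s := CommRingCat.isPushout_tensorProduct A R' B
  have hpb := (isPullback_SpecMap_of_isPushout _ _ _ _ s).flip
  have h1 : IsOpenMap (Spec.map (CommRingCat.ofHom
      (Algebra.TensorProduct.includeLeftRingHom : R' →+* R' ⊗[A] B))) :=
    isOpenMap_comap_includeLeft_of_forall hopen R'
  exact (Groth.Agent.H24.prop_iff_of_isPullback (topologically IsOpenMap) (Iso.refl _)
    (by rw [Iso.refl_hom, Category.id_comp]; rfl) hpb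
    (IsPullback.of_hasPullback (Spec.map (CommRingCat.ofHom (algebraMap A B))) (Spec.map ψ))).mp h1

end Criterion

section Poly

variable (A B : Type u) [CommRing A] [CommRing B] [Algebra A B]

/-- if the local ring at `𝔭` has prime nilradical, there is only one minimal prime below `𝔭` -/
theorem minimalPrimes_unique_of_isPrime_nilradical (𝔭 : Ideal A) [𝔭.IsPrime]
    (h : (nilradical (Localization.AtPrime 𝔭)).IsPrime) {m₁ m₂ : Ideal A}
    (h₁ : m₁ ∈ minimalPrimes A) (h₂ : m₂ ∈ minimalPrimes A) (h₁' : m₁ ≤ 𝔭) (h₂' : m₂ ≤ 𝔭) :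
    m₁ = m₂ := by
  have key : ∀ m : Ideal A, m ∈ minimalPrimes A → m ≤ 𝔭 →
      m = (nilradical (Localization.AtPrime 𝔭)).comap (algebraMap A (Localization.AtPrime 𝔭)) := by
    intro m hm hle
    haveI : m.IsPrime := hm.1.1
    have hdisj : Disjoint (𝔭.primeCompl : Set A) (m : Set A) := by
      rw [Set.disjoint_left]
      intro x hx hx'
      exact hx (hle hx')
    haveI : (m.map (algebraMap A (Localization.AtPrime 𝔭))).IsPrime :=
      IsLocalization.isPrime_of_isPrime_disjoint 𝔭.primeCompl _ m ‹_› hdisj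
    have hcomap : (m.map (algebraMap A (Localization.AtPrime 𝔭))).comap
        (algebraMap A (Localization.AtPrime 𝔭)) = m :=
      IsLocalization.comap_map_of_isPrime_disjoint 𝔭.primeCompl _ ‹_› hdisj
    have h1 : (nilradical (Localization.AtPrime 𝔭)).comap (algebraMap A (Localization.AtPrime 𝔭))
        ≤ m := by
      rw [← hcomap]
      exact Ideal.comap_mono (nilradical_le_prime _)
    haveI : ((nilradical (Localization.AtPrime 𝔭)).comap
        (algebraMap A (Localization.AtPrime 𝔭))).IsPrime := Ideal.comap_isPrime _ _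
    exact le_antisymm (hm.2 ⟨inferInstance, bot_le⟩ h1) h1
  rw [key m₁ h₁ h₁', key m₂ h₂ h₂']

attribute [local instance] MvPolynomial.algebraMvPolynomial

theorem isPrime_map_C {d : ℕ} (I : Ideal B) [I.IsPrime] :
    (I.map (MvPolynomial.C : B →+* MvPolynomial (Fin d) B)).IsPrime := by
  rw [← Ideal.Quotient.isDomain_iff_prime]
  exact (MvPolynomial.quotientEquivQuotientMvPolynomial (σ := Fin d) I).toRingEquiv.symm.toMulEquiv.isDomain _

variable [Algebra.FinitePresentation A B] [Algebra.QuasiFinite A B]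

theorem hasGoingDown_mvPolynomial
    (hGU : ∀ (𝔭 : Ideal A) [𝔭.IsPrime], CAlg2.IsGeomUnibranch (Localization.AtPrime 𝔭))
    (hdom : ∀ q ∈ minimalPrimes B, q.under A ∈ minimalPrimes A) (d : ℕ) :
    Algebra.HasGoingDown (MvPolynomial (Fin d) A) (MvPolynomial (Fin d) B) := by
  let e : MvPolynomial (Fin d) A ⊗[A] B ≃ₐ[MvPolynomial (Fin d) A] MvPolynomial (Fin d) B :=
    Algebra.IsPushout.equiv A (MvPolynomial (Fin d) A) B (MvPolynomial (Fin d) B)
  haveI : Algebra.FiniteType (MvPolynomial (Fin d) A) (MvPolynomial (Fin d) B) :=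
    Algebra.FiniteType.equiv inferInstance e
  haveI : Algebra.QuasiFinite (MvPolynomial (Fin d) A) (MvPolynomial (Fin d) B) :=
    (Algebra.QuasiFinite.iff_of_algEquiv e).mp inferInstance
  haveI : Algebra.Smooth A (MvPolynomial (Fin d) A) := ⟨inferInstance, inferInstance⟩
  refine ⟨fun {p'} _ Q _ hlt => ?_⟩
  haveI : Q.LiesOver (Q.under (MvPolynomial (Fin d) A)) := ⟨rfl⟩
  -- the local ring at `p` is unibranch
  have hunib : CAlg2.IsUnibranch (Localization.AtPrime (Q.under (MvPolynomial (Fin d) A))) :=
    (Groth.Agent.H66.SmoothGU.gu_smooth A (MvPolynomial (Fin d) A)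
      ((Q.under (MvPolynomial (Fin d) A)).comap (algebraMap A (MvPolynomial (Fin d) A)))
      (Q.under (MvPolynomial (Fin d) A)) rfl
      (Localization.AtPrime ((Q.under (MvPolynomial (Fin d) A)).comap
        (algebraMap A (MvPolynomial (Fin d) A)))) (hGU _)
      (Localization.AtPrime (Q.under (MvPolynomial (Fin d) A)))).1
  -- a minimal prime of `B` below `Q ∩ B`
  obtain ⟨qB, hqBmin, hqBle⟩ := Ideal.exists_minimalPrimes_le
    (show (⊥ : Ideal B) ≤ Q.comap (MvPolynomial.C : B →+* MvPolynomial (Fin d) B) from bot_le)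
  haveI hqBprime : qB.IsPrime := hqBmin.1.1
  haveI : (qB.map (MvPolynomial.C : B →+* MvPolynomial (Fin d) B)).IsPrime := isPrime_map_C B qB
  have hq₀ : qB.map (MvPolynomial.C : B →+* MvPolynomial (Fin d) B) ≤ Q :=
    Ideal.map_le_iff_le_comap.mpr hqBle
  have hpAmin : qB.under A ∈ minimalPrimes A := hdom qB hqBmin
  have hpAle : qB.under A ≤ (Q.under (MvPolynomial (Fin d) A)).under A := by
    intro a ha
    have h1 : algebraMap A B a ∈ qB := ha
    have h2 : (MvPolynomial.C (algebraMap A B a) : MvPolynomial (Fin d) B) ∈ Q := hqBle h1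
    rw [Ideal.under_def, Ideal.mem_comap, Ideal.under_def, Ideal.mem_comap,
      MvPolynomial.algebraMap_eq, MvPolynomial.algebraMap_def, MvPolynomial.map_C]
    exact h2
  have hnil : (nilradical (Localization.AtPrime
      ((Q.under (MvPolynomial (Fin d) A)).under A))).IsPrime :=
    (Ideal.Quotient.isDomain_iff_prime _).mp (hGU _).1.1
  have hgen : ∀ p'' : Ideal (MvPolynomial (Fin d) A), p''.IsPrime →
      p'' ≤ Q.under (MvPolynomial (Fin d) A) →
      (qB.map (MvPolynomial.C : B →+* MvPolynomial (Fin d) B)).under (MvPolynomial (Fin d) A)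
        ≤ p'' := by
    intro p'' hp'' hle f hf
    rw [Ideal.under_def, Ideal.mem_comap, MvPolynomial.algebraMap_def,
      MvPolynomial.mem_map_C_iff] at hf
    haveI : (p''.under A).IsPrime := Ideal.comap_isPrime _ _
    obtain ⟨m'', hm''min, hm''le⟩ := Ideal.exists_minimalPrimes_le
      (show (⊥ : Ideal A) ≤ p''.under A from bot_le)
    have hm''le' : m'' ≤ (Q.under (MvPolynomial (Fin d) A)).under A :=
      hm''le.trans (Ideal.comap_mono hle)
    have heq : m'' = qB.under A :=
      minimalPrimes_unique_of_isPrime_nilradical A _ hnil hm''min hpAmin hm''le' hpAle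
    have hcoeff : ∀ m, MvPolynomial.coeff m f ∈ p''.under A := by
      intro m
      apply hm''le
      rw [heq]
      have := hf m
      rw [MvPolynomial.coeff_map] at this
      exact this
    rw [f.as_sum]
    refine Ideal.sum_mem _ fun m _ => ?_
    have h3 : MvPolynomial.monomial m (MvPolynomial.coeff m f) =
        MvPolynomial.C (MvPolynomial.coeff m f) * MvPolynomial.monomial m (1 : A) := by
      rw [MvPolynomial.C_mul_monomial, mul_one]
    rw [h3]
    exact Ideal.mul_mem_right _ _ (hcoeff m)
  obtain ⟨q', hq'prime, hq'le, hq'under⟩ :=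
    Groth.Agent.H66.UnibranchGD.going_down (MvPolynomial (Fin d) A) (MvPolynomial (Fin d) B)
      (Q.under (MvPolynomial (Fin d) A)) Q
      (Localization.AtPrime (Q.under (MvPolynomial (Fin d) A))) hunib
      (qB.map (MvPolynomial.C : B →+* MvPolynomial (Fin d) B)) hq₀ hgen p' hlt.le
  exact ⟨q', hq'le, hq'prime, ⟨hq'under.symm⟩⟩

/-- **Quasi-finite over geometrically unibranch with dominating components is universally open**
(affine form). -/
theorem universallyOpen_SpecMap
    (hGU : ∀ (𝔭 : Ideal A) [𝔭.IsPrime], CAlg2.IsGeomUnibranch (Localization.AtPrime 𝔭))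
    (hdom : ∀ q ∈ minimalPrimes B, q.under A ∈ minimalPrimes A) :
    UniversallyOpen (Spec.map (CommRingCat.ofHom (algebraMap A B))) := by
  apply universallyOpen_SpecMap_of_forall
  intro d
  let e : MvPolynomial (Fin d) A ⊗[A] B ≃ₐ[MvPolynomial (Fin d) A] MvPolynomial (Fin d) B :=
    Algebra.IsPushout.equiv A (MvPolynomial (Fin d) A) B (MvPolynomial (Fin d) B)
  haveI : Algebra.FinitePresentation (MvPolynomial (Fin d) A) (MvPolynomial (Fin d) B) :=
    Algebra.FinitePresentation.equiv e
  haveI := hasGoingDown_mvPolynomial A B hGU hdom d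
  have := PrimeSpectrum.isOpenMap_comap_of_hasGoingDown_of_finitePresentation
    (R := MvPolynomial (Fin d) A) (S := MvPolynomial (Fin d) B)
  rwa [MvPolynomial.algebraMap_def] at this

end Poly

end Groth.Agent.H66.UnibranchUO
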