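import Mathlib

/-!
# Diagonalization of matrices over the fraction field of a valuation ring (helper66)
-/

set_option autoImplicit false

open Matrix

namespace Groth.Agent.H66.ValDiag

universe u v

variable {R : Type u} [CommRing R] {K : Type u} [Field K] [Algebra R K]

/-- `Ξ = A D B` with `A`, `B` invertible over `R` and `D` diagonal. -/
def Q {ι : Type v} [Fintype ι] [DecidableEq ι] (Ξ : Matrix ι ι K) : Prop :=
  ∃ (A B : Matrix ι ι R) (d : ι → K), IsUnit A.det ∧ IsUnit B.det ∧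
    Ξ = A.map (algebraMap R K) * Matrix.diagonal d * B.map (algebraMap R K)

theorem Q_zero {ι : Type v} [Fintype ι] [DecidableEq ι] : Q (R := R) (0 : Matrix ι ι K) := by
  refine ⟨1, 1, 0, by simp, by simp, ?_⟩
  have : Matrix.diagonal (0 : ι → K) = 0 := by
    ext i j; simp [Matrix.diagonal]
  rw [this]; simp

theorem Q_submatrix {ι : Type v} [Fintype ι] [DecidableEq ι] (M : Matrix ι ι K)
    (σ τ : Equiv.Perm ι) (h : Q (R := R) M) : Q (R := R) (M.submatrix σ τ) := by
  obtain ⟨A, B, d, hA, hB, hM⟩ := h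
  refine ⟨A.submatrix σ id, B.submatrix id τ, d, ?_, ?_, ?_⟩
  · rw [Matrix.det_permute]
    exact (IsUnit.mul ((Equiv.Perm.sign σ).isUnit.map (Int.castRingHom R)) hA : _)
  · rw [Matrix.det_permute']
    exact (IsUnit.mul ((Equiv.Perm.sign τ).isUnit.map (Int.castRingHom R)) hB : _)
  · rw [hM, Matrix.submatrix_mul _ _ σ id τ Function.bijective_id,
      Matrix.submatrix_mul _ _ σ id id Function.bijective_id]
    simp [Matrix.submatrix_map]

theorem Q_reindex {ι ι' : Type v} [Fintype ι] [DecidableEq ι] [Fintype ι'] [DecidableEq ι']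
    (e : ι ≃ ι') (M : Matrix ι ι K) (h : Q (R := R) M) :
    Q (R := R) (Matrix.reindex e e M) := by
  obtain ⟨A, B, d, hA, hB, hM⟩ := h
  refine ⟨Matrix.reindex e e A, Matrix.reindex e e B, d ∘ e.symm, ?_, ?_, ?_⟩
  · rw [Matrix.det_reindex_self]; exact hA
  · rw [Matrix.det_reindex_self]; exact hB
  · rw [hM]
    simp only [Matrix.reindex_apply]
    rw [Matrix.submatrix_mul _ _ e.symm e.symm e.symm e.symm.bijective,
      Matrix.submatrix_mul _ _ e.symm e.symm e.symm e.symm.bijective]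
    congr 1
    · congr 1
      ext i j
      simp [Matrix.diagonal, Matrix.submatrix]
  
theorem diag_unit_eq (x : K) :
    (Matrix.of fun (_ _ : Unit) => x) = Matrix.diagonal (fun _ : Unit => x) := by
  ext i j
  simp

/-- the inductive step on `Unit ⊕ ι` once the pivot is in the corner -/
theorem Q_step_corner {ι : Type v} [Fintype ι] [DecidableEq ι]
    (ih : ∀ M : Matrix ι ι K, Q (R := R) M)
    (Ξ : Matrix (Unit ⊕ ι) (Unit ⊕ ι) K) (r : (Unit ⊕ ι) → (Unit ⊕ ι) → R)
    (hr : ∀ i j, Ξ i j = algebraMap R K (r i j) * Ξ (Sum.inl ()) (Sum.inl ())) :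
    Q (R := R) Ξ := by
  set ξ := Ξ (Sum.inl ()) (Sum.inl ()) with hξ
  let u : Matrix ι Unit R := Matrix.of fun i _ => r (Sum.inr i) (Sum.inl ())
  let w : Matrix Unit ι R := Matrix.of fun _ j => r (Sum.inl ()) (Sum.inr j)
  let Δ : Matrix Unit Unit K := Matrix.diagonal (fun _ : Unit => ξ)
  let uK : Matrix ι Unit K := u.map (algebraMap R K)
  let wK : Matrix Unit ι K := w.map (algebraMap R K)
  let M' : Matrix ι ι K := Ξ.toBlocks₂₂ - uK * Δ * wK
  obtain ⟨A', B', d', hA', hB', hM'⟩ := ih M'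
  have h11 : Ξ.toBlocks₁₁ = Δ := by
    ext i j
    simp [Δ, Matrix.toBlocks₁₁, hξ]
  have h12 : Ξ.toBlocks₁₂ = Δ * wK := by
    ext i j
    simp [Δ, wK, w, Matrix.toBlocks₁₂, Matrix.mul_apply, hr (Sum.inl ()) (Sum.inr j), mul_comm]
  have h21 : Ξ.toBlocks₂₁ = uK * Δ := by
    ext i j
    simp [Δ, uK, u, Matrix.toBlocks₂₁, Matrix.mul_apply, hr (Sum.inr i) (Sum.inl ())]
  have h22 : Ξ.toBlocks₂₂ = uK * Δ * wK + M' := by
    simp [M']
  let E : Matrix (Unit ⊕ ι) (Unit ⊕ ι) R := Matrix.fromBlocks 1 0 u 1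
  let F : Matrix (Unit ⊕ ι) (Unit ⊕ ι) R := Matrix.fromBlocks 1 w 0 1
  refine ⟨E * Matrix.fromBlocks 1 0 0 A', Matrix.fromBlocks 1 0 0 B' * F,
    Sum.elim (fun _ => ξ) d', ?_, ?_, ?_⟩
  · rw [Matrix.det_mul, Matrix.det_fromBlocks_zero₁₂, Matrix.det_fromBlocks_zero₁₂]
    simpa using hA'
  · rw [Matrix.det_mul, Matrix.det_fromBlocks_zero₂₁, Matrix.det_fromBlocks_zero₂₁]
    simpa using hB'
  · rw [← Matrix.fromBlocks_diagonal]
    have hmapE : (E * Matrix.fromBlocks 1 0 0 A').map (algebraMap R K) =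
        Matrix.fromBlocks 1 0 uK 1 * Matrix.fromBlocks 1 0 0 (A'.map (algebraMap R K)) := by
      rw [Matrix.map_mul]
      simp only [E, Matrix.fromBlocks_map, uK]
      simp [Matrix.map_one, Matrix.map_zero]
    have hmapF : (Matrix.fromBlocks 1 0 0 B' * F).map (algebraMap R K) =
        Matrix.fromBlocks 1 0 0 (B'.map (algebraMap R K)) * Matrix.fromBlocks 1 wK 0 1 := by
      rw [Matrix.map_mul]
      simp only [F, Matrix.fromBlocks_map, wK]
      simp [Matrix.map_one, Matrix.map_zero]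
    rw [hmapE, hmapF]
    conv_lhs => rw [← Matrix.fromBlocks_toBlocks Ξ, h11, h12, h21, h22, hM']
    simp only [Matrix.fromBlocks_multiply]
    simp [Δ, Matrix.mul_assoc, add_comm]

end Groth.Agent.H66.ValDiag
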