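import Mathlib
import Groth.Agent.H66.ValDiag

/-!
# Diagonalization over a valuation ring: pivot choice, induction, normalization (helper66)
-/

set_option autoImplicit false

open Matrix

namespace Groth.Agent.H66.ValDiag

universe u v

variable {R : Type u} [CommRing R] [IsDomain R] [ValuationRing R]
  {K : Type u} [Field K] [Algebra R K] [IsFractionRing R K]

theorem exists_mul_of_val_le (x y : K) (hy : y ≠ 0)
    (h : ValuationRing.valuation R K x ≤ ValuationRing.valuation R K y) :
    ∃ r : R, x = algebraMap R K r * y := by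
  have h1 : ValuationRing.valuation R K (x / y) ≤ 1 := by
    rw [map_div₀]
    have hvy : ValuationRing.valuation R K y ≠ 0 := by
      rw [Ne, map_eq_zero]; exact hy
    exact div_le_one_of_le₀ h zero_le'
  obtain ⟨r, hr⟩ := (ValuationRing.mem_integer_iff R K (x / y)).mp h1
  refine ⟨r, ?_⟩
  rw [hr, div_mul_cancel₀ _ hy]

theorem Q_step {ι : Type v} [Fintype ι] [DecidableEq ι]
    (ih : ∀ M : Matrix ι ι K, Q (R := R) M)
    (Ξ : Matrix (Unit ⊕ ι) (Unit ⊕ ι) K) : Q (R := R) Ξ := by
  classical
  by_cases h0 : Ξ = 0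
  · rw [h0]; exact Q_zero
  let v := ValuationRing.valuation R K
  obtain ⟨p, -, hp⟩ := Finset.exists_max_image
    (Finset.univ : Finset ((Unit ⊕ ι) × (Unit ⊕ ι))) (fun p => v (Ξ p.1 p.2))
    ⟨(Sum.inl (), Sum.inl ()), Finset.mem_univ _⟩
  have hξ0 : Ξ p.1 p.2 ≠ 0 := by
    intro hz
    apply h0
    ext i j
    have := hp (i, j) (Finset.mem_univ _)
    simp only [hz, map_zero, le_zero_iff, map_eq_zero] at this
    simpa using this
  let σ : Equiv.Perm (Unit ⊕ ι) := Equiv.swap (Sum.inl ()) p.1
  let τ : Equiv.Perm (Unit ⊕ ι) := Equiv.swap (Sum.inl ()) p.2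
  let Ξ₁ := Ξ.submatrix σ τ
  have h00 : Ξ₁ (Sum.inl ()) (Sum.inl ()) = Ξ p.1 p.2 := by
    simp [Ξ₁, σ, τ]
  have hr : ∀ i j, ∃ r : R, Ξ₁ i j = algebraMap R K r * Ξ₁ (Sum.inl ()) (Sum.inl ()) := by
    intro i j
    rw [h00]
    exact exists_mul_of_val_le _ _ hξ0 (hp (σ i, τ j) (Finset.mem_univ _))
  choose r hr' using hr
  have hQ1 : Q (R := R) Ξ₁ := Q_step_corner ih Ξ₁ r hr'
  have hback : Ξ = Ξ₁.submatrix σ.symm τ.symm := by
    ext i j
    simp [Ξ₁]
  rw [hback]
  exact Q_submatrix Ξ₁ σ.symm τ.symm hQ1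

theorem Q_fin (n : ℕ) : ∀ Ξ : Matrix (Fin n) (Fin n) K, Q (R := R) Ξ := by
  induction n with
  | zero =>
    intro Ξ
    have : Ξ = 0 := by ext i; exact i.elim0
    rw [this]; exact Q_zero
  | succ n ih =>
    intro Ξ
    let e : Fin (n + 1) ≃ Unit ⊕ Fin n :=
      (finSuccEquiv n).trans ((Equiv.optionEquivSumPUnit (Fin n)).trans (Equiv.sumComm _ _))
    have h1 : Q (R := R) (Matrix.reindex e e Ξ) := Q_step ih _
    have h2 := Q_reindex e.symm _ h1
    have h3 : Matrix.reindex e.symm e.symm (Matrix.reindex e e Ξ) = Ξ := by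
      ext i j; simp
    rw [h3] at h2
    exact h2

/-- normalization of determinants to one -/
theorem normalize {n : ℕ} (Ξ : Matrix (Fin n) (Fin n) K) (h : Q (R := R) Ξ) :
    ∃ (A B : Matrix (Fin n) (Fin n) R) (d : Fin n → K), A.det = 1 ∧ B.det = 1 ∧
      Ξ = A.map (algebraMap R K) * Matrix.diagonal d * B.map (algebraMap R K) := by
  classical
  obtain ⟨A, B, d, hA, hB, hM⟩ := h
  cases n with
  | zero =>
    exact ⟨A, B, d, Matrix.det_isEmpty, Matrix.det_isEmpty, hM⟩
  | succ n =>
    obtain ⟨a, ha⟩ := hA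
    obtain ⟨b, hb⟩ := hB
    let T : R → Matrix (Fin (n + 1)) (Fin (n + 1)) R :=
      fun x => Matrix.diagonal (fun i => if i = 0 then x else 1)
    have hTdet : ∀ x : R, (T x).det = x := by
      intro x
      simp only [T, Matrix.det_diagonal]
      rw [Finset.prod_eq_single (0 : Fin (n + 1))]
      · simp
      · intro i _ hi; simp [hi]
      · intro h; exact absurd (Finset.mem_univ _) h
    have hTmul : ∀ x y : R, T x * T y = T (x * y) := by
      intro x y
      simp only [T, Matrix.diagonal_mul_diagonal]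
      congr 1
      ext i
      by_cases hi : i = 0 <;> simp [hi]
    have hT1 : T 1 = 1 := by
      simp only [T]
      rw [← Matrix.diagonal_one]
      congr 1
      ext i
      by_cases hi : i = 0 <;> simp [hi]
    have hTmap : ∀ x : R, (T x).map (algebraMap R K) =
        Matrix.diagonal (fun i => if i = 0 then algebraMap R K x else 1) := by
      intro x
      simp only [T]
      rw [Matrix.diagonal_map (map_zero _)]
      congr 1
      ext i
      by_cases hi : i = 0 <;> simp [hi]
    refine ⟨A * T (a⁻¹ : Rˣ), T (b⁻¹ : Rˣ) * B,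
      fun i => (if i = 0 then algebraMap R K a else 1) * d i *
        (if i = 0 then algebraMap R K b else 1), ?_, ?_, ?_⟩
    · rw [Matrix.det_mul, hTdet, ← ha, Units.mul_inv]
    · rw [Matrix.det_mul, hTdet, ← hb, Units.inv_mul]
    · have hd : Matrix.diagonal (fun i => (if i = 0 then algebraMap R K a else 1) * d i *
          (if i = 0 then algebraMap R K b else 1)) =
          (T a).map (algebraMap R K) * Matrix.diagonal d * (T b).map (algebraMap R K) := by
        rw [hTmap, hTmap, Matrix.diagonal_mul_diagonal, Matrix.diagonal_mul_diagonal]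
      rw [hd, Matrix.map_mul, Matrix.map_mul]
      have e1 : (T (a⁻¹ : Rˣ)).map (algebraMap R K) * (T a).map (algebraMap R K) = 1 := by
        rw [← Matrix.map_mul, hTmul, Units.inv_mul, hT1, Matrix.map_one _ (map_zero _) (map_one _)]
      have e2 : (T b).map (algebraMap R K) * (T (b⁻¹ : Rˣ)).map (algebraMap R K) = 1 := by
        rw [← Matrix.map_mul, hTmul, Units.mul_inv, hT1, Matrix.map_one _ (map_zero _) (map_one _)]
      calc Ξ = A.map (algebraMap R K) * Matrix.diagonal d * B.map (algebraMap R K) := hM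
        _ = A.map (algebraMap R K) * ((T (a⁻¹ : Rˣ)).map (algebraMap R K) *
              (T a).map (algebraMap R K)) * Matrix.diagonal d *
            ((T b).map (algebraMap R K) * (T (b⁻¹ : Rˣ)).map (algebraMap R K)) *
              B.map (algebraMap R K) := by
          rw [e1, e2]; simp
        _ = _ := by simp only [Matrix.mul_assoc]

theorem main (n : ℕ) (Ξ : Matrix (Fin n) (Fin n) K) :
    ∃ (A B : Matrix (Fin n) (Fin n) R) (d : Fin n → K), A.det = 1 ∧ B.det = 1 ∧
      Ξ = A.map (algebraMap R K) * Matrix.diagonal d * B.map (algebraMap R K) :=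
  normalize Ξ (Q_fin n Ξ)

end Groth.Agent.H66.ValDiag
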