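import Mathlib
import Groth.Agent.S14856

set_option autoImplicit false
set_option linter.style.haveILetI false
set_option linter.unusedSectionVars false

/-!
# Limit arguments for `p^u`-divisibility in Witt vectors over a `p`-torsion-free complete ring
-/

namespace Groth.Agent.H66.WittLim

open WittVector

universe u

variable (p : ℕ) [Fact p.Prime] (R : Type u) [CommRing R]

/-- reduction mod `p^e` followed by truncation to length `m` -/
noncomputable def T (e m : ℕ) :
    WittVector p R →+* TruncatedWittVector p m (R ⧸ Ideal.span {(p : R) ^ e}) :=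
  (WittVector.truncate m).comp (WittVector.map (Ideal.Quotient.mk (Ideal.span {(p : R) ^ e})))

variable {p R}

theorem T_coeff (e m : ℕ) (x : WittVector p R) (i : Fin m) :
    (T p R e m x).coeff i = Ideal.Quotient.mk (Ideal.span {(p : R) ^ e}) (x.coeff i) := by
  rw [T, RingHom.comp_apply, WittVector.coeff_truncate, WittVector.map_coeff]

theorem T_eq_zero_iff (e m : ℕ) (x : WittVector p R) :
    T p R e m x = 0 ↔ ∀ i < m, x.coeff i ∈ Ideal.span {(p : R) ^ e} := by
  constructor
  · intro h i hi
    have := congrArg (fun y => y.coeff ⟨i, hi⟩) h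
    simp only [T_coeff, TruncatedWittVector.coeff_zero] at this
    exact Ideal.Quotient.eq_zero_iff_mem.1 this
  · intro h
    apply TruncatedWittVector.ext
    intro i
    rw [T_coeff, TruncatedWittVector.coeff_zero]
    exact Ideal.Quotient.eq_zero_iff_mem.2 (h i i.2)

theorem T_eq_iff (e m : ℕ) (x y : WittVector p R) :
    T p R e m x = T p R e m y ↔ ∀ i < m, x.coeff i - y.coeff i ∈ Ideal.span {(p : R) ^ e} := by
  constructor
  · intro h i hi
    have := congrArg (fun y => y.coeff ⟨i, hi⟩) h
    simp only [T_coeff] at this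
    exact Ideal.Quotient.eq.1 this
  · intro h
    apply TruncatedWittVector.ext
    intro i
    rw [T_coeff, T_coeff]
    exact Ideal.Quotient.eq.2 (h i i.2)

section torsionfree

variable (hR : ∀ y : R, (p : R) * y = 0 → y = 0)
include hR

theorem cancel (u : ℕ) (y : R) (h : (p : R) ^ u * y = 0) : y = 0 := by
  induction u generalizing y with
  | zero => simpa using h
  | succ u ih =>
    rw [pow_succ, mul_assoc] at h
    exact hR y (ih _ h)

theorem dvd_cancel (u e : ℕ) (y : R) (h : (p : R) ^ (u + e) ∣ (p : R) ^ u * y) :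
    (p : R) ^ e ∣ y := by
  obtain ⟨c, hc⟩ := h
  refine ⟨c, ?_⟩
  have : (p : R) ^ u * (y - (p : R) ^ e * c) = 0 := by
    rw [mul_sub, hc, pow_add]; ring
  exact sub_eq_zero.1 (cancel hR u _ this)

/-- the first `m+1` coefficients of a difference are divisible by `p^s` if those of both terms
are -/
theorem coeff_dvd_sub (x y : WittVector p R) (m s : ℕ) (hs : 1 ≤ s)
    (hx : ∀ i ≤ m, (p : R) ^ s ∣ x.coeff i) (hy : ∀ i ≤ m, (p : R) ^ s ∣ y.coeff i) :
    ∀ i ≤ m, (p : R) ^ s ∣ (x - y).coeff i := by
  rw [Groth.Agent.S14856.result p R hR _ m s hs] at hx hy ⊢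
  intro n hn
  rw [map_sub]
  exact dvd_sub (hx n hn) (hy n hn)

/-- if the first `m+1` coefficients of `p^u d` are divisible by `p^(u+e)`, those of `d` are
divisible by `p^e`. -/
theorem coeff_dvd_of_pow_mul (d : WittVector p R) (m u e : ℕ) (he : 1 ≤ e)
    (h : ∀ i ≤ m, (p : R) ^ (u + e) ∣ ((p : WittVector p R) ^ u * d).coeff i) :
    ∀ i ≤ m, (p : R) ^ e ∣ d.coeff i := by
  rw [Groth.Agent.S14856.result p R hR _ m (u + e) (by omega)] at h
  rw [Groth.Agent.S14856.result p R hR _ m e he]
  intro n hn
  have h1 := h n hn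
  rw [map_mul, map_pow, map_natCast] at h1
  apply dvd_cancel hR u
  have : u + (n + e) = n + (u + e) := by omega
  rw [this]
  exact h1

end torsionfree

theorem mem_smul_top_iff (e : ℕ) (r : R) :
    r ∈ (Ideal.span {(p : R)} ^ e • ⊤ : Submodule R R) ↔ r ∈ Ideal.span {(p : R) ^ e} := by
  rw [smul_eq_mul, Ideal.mul_top, Ideal.span_singleton_pow]

theorem span_pow_le {e e' : ℕ} (h : e ≤ e') :
    Ideal.span {(p : R) ^ e'} ≤ Ideal.span {(p : R) ^ e} := by
  rw [Ideal.span_singleton_le_span_singleton]
  exact pow_dvd_pow _ h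

theorem eq_zero_of_forall_mem [IsHausdorff (Ideal.span {(p : R)}) R] (r : R)
    (h : ∀ e : ℕ, r ∈ Ideal.span {(p : R) ^ e}) : r = 0 := by
  apply IsHausdorff.haus (I := Ideal.span {(p : R)}) ‹_› r
  intro n
  rw [SModEq.sub_mem, sub_zero, mem_smul_top_iff]
  exact h n

section complete

variable (hR : ∀ y : R, (p : R) * y = 0 → y = 0) [IsAdicComplete (Ideal.span {(p : R)}) R]
include hR

/-- the Cauchy property of approximate solutions -/
theorem cauchy (a : WittVector p R) (m u : ℕ) (z : ℕ → WittVector p R)
    (hz : ∀ s : ℕ, ∀ i < m,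
      ((p : WittVector p R) ^ u * z s - a).coeff i ∈ Ideal.span {(p : R) ^ s})
    (e s s' : ℕ) (he : 1 ≤ e) (hs : s = u + e) (hss' : s ≤ s') :
    ∀ i < m, (z s').coeff i - (z s).coeff i ∈ Ideal.span {(p : R) ^ e} := by
  rcases m with _ | m'
  · intro i hi; exact absurd hi (Nat.not_lt_zero _)
  rw [← T_eq_iff, ← sub_eq_zero, ← map_sub, T_eq_zero_iff]
  have h1 : ∀ i ≤ m', (p : R) ^ s ∣ ((p : WittVector p R) ^ u * z s' - a).coeff i := by
    intro i hi
    exact Ideal.mem_span_singleton.1 (span_pow_le hss' (hz s' i (by omega)))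
  have h2 : ∀ i ≤ m', (p : R) ^ s ∣ ((p : WittVector p R) ^ u * z s - a).coeff i := by
    intro i hi
    exact Ideal.mem_span_singleton.1 (hz s i (by omega))
  have h3 := coeff_dvd_sub hR _ _ m' s (by omega) h1 h2
  have h4 : ((p : WittVector p R) ^ u * z s' - a) - ((p : WittVector p R) ^ u * z s - a)
      = (p : WittVector p R) ^ u * (z s' - z s) := by ring
  rw [h4] at h3
  have h5 := coeff_dvd_of_pow_mul hR (z s' - z s) m' u e he (hs ▸ h3)
  intro i hi
  exact Ideal.mem_span_singleton.2 (h5 i (by omega))

theorem main1 (a : WittVector p R) (m u : ℕ)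
    (h : ∀ s : ℕ, ∃ z : WittVector p R, ∀ i < m,
      ((p : WittVector p R) ^ u * z - a).coeff i ∈ Ideal.span {(p : R) ^ s}) :
    ∃ x : WittVector p R, ∀ i < m, ((p : WittVector p R) ^ u * x - a).coeff i = 0 := by
  choose z hz using h
  -- limits of the coefficients
  have hL : ∀ i : ℕ, ∃ L : R, i < m →
      ∀ e : ℕ, (z (e + u + 1)).coeff i - L ∈ Ideal.span {(p : R) ^ e} := by
    intro i
    by_cases hi : i < m
    · obtain ⟨L, hL⟩ := IsPrecomplete.prec (I := Ideal.span {(p : R)}) (M := R) inferInstance
        (f := fun e => (z (e + u + 1)).coeff i) (by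
          intro e e' hee'
          rw [SModEq.sub_mem, mem_smul_top_iff]
          have := cauchy hR a m u z hz (e + 1) (e + u + 1) (e' + u + 1) (by omega) (by omega)
            (by omega) i hi
          have h2 := span_pow_le (p := p) (R := R) (Nat.le_succ e) this
          rw [← neg_sub]
          exact neg_mem h2)
      refine ⟨L, fun _ e => ?_⟩
      have := hL e
      rwa [SModEq.sub_mem, mem_smul_top_iff] at this
    · exact ⟨0, fun h => absurd h hi⟩
  choose L hL using hL
  refine ⟨WittVector.mk p L, fun i hi => ?_⟩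
  apply eq_zero_of_forall_mem (p := p)
  intro e
  have hT : T p R e m (WittVector.mk p L) = T p R e m (z (e + u + 1)) := by
    rw [T_eq_iff]
    intro j hj
    rw [WittVector.coeff_mk, ← neg_sub]
    exact neg_mem (hL j hj e)
  have h0 : T p R e m ((p : WittVector p R) ^ u * WittVector.mk p L - a) = 0 := by
    rw [map_sub, map_mul, hT, ← map_mul, ← map_sub, T_eq_zero_iff]
    intro j hj
    exact span_pow_le (by omega) (hz (e + u + 1) j hj)
  exact (T_eq_zero_iff e m _).1 h0 i hi

theorem truncate_eq_zero_iff (r : ℕ) (x : WittVector p R) :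
    WittVector.truncate r x = 0 ↔ ∀ i < r, x.coeff i = 0 := by
  rw [← RingHom.mem_ker, WittVector.mem_ker_truncate]

omit hR [IsAdicComplete (Ideal.span {(p : R)}) R] in
theorem truncate_eq_iff (r : ℕ) (x y : WittVector p R) :
    WittVector.truncate r x = WittVector.truncate r y ↔ ∀ i < r, x.coeff i = y.coeff i := by
  constructor
  · intro h i hi
    have := congrArg (fun w => w.coeff ⟨i, hi⟩) h
    simpa [WittVector.coeff_truncate] using this
  · intro h
    apply TruncatedWittVector.ext
    intro i
    rw [WittVector.coeff_truncate, WittVector.coeff_truncate]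
    exact h i i.2

/-- `p^u` is injective on truncated Witt vectors of a torsion-free separated ring -/
theorem truncate_eq_zero_of_pow_mul (d : WittVector p R) (r u : ℕ)
    (h : WittVector.truncate r ((p : WittVector p R) ^ u * d) = 0) :
    WittVector.truncate r d = 0 := by
  rcases r with _ | r0
  · apply TruncatedWittVector.ext
    intro i; exact i.elim0
  rw [truncate_eq_zero_iff hR] at h ⊢
  intro i hi
  apply eq_zero_of_forall_mem (p := p)
  intro e
  rcases Nat.eq_zero_or_pos e with rfl | he
  · simp
  have h1 : ∀ j ≤ r0, (p : R) ^ (u + e) ∣ ((p : WittVector p R) ^ u * d).coeff j := by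
    intro j hj
    rw [h j (by omega)]
    exact dvd_zero _
  exact Ideal.mem_span_singleton.2 (coeff_dvd_of_pow_mul hR d r0 u e he h1 i (by omega))

theorem main2 (u : ℕ) :
    (⨅ r : ℕ, ⨅ s : ℕ,
        Ideal.span {(p : WittVector p R) ^ u} ⊔
          RingHom.ker (WittVector.truncate (p := p) (R := R) r) ⊔
          RingHom.ker (WittVector.map (p := p)
            (Ideal.Quotient.mk (Ideal.span {(p : R) ^ s})))) =
      Ideal.span {(p : WittVector p R) ^ u} := by
  apply le_antisymm
  · intro x hx
    simp only [Ideal.mem_iInf] at hx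
    -- Step A: solutions modulo each truncation
    have hA : ∀ r : ℕ, ∃ y : WittVector p R,
        ∀ i < r, ((p : WittVector p R) ^ u * y - x).coeff i = 0 := by
      intro r
      apply main1 hR x r u
      intro s
      obtain ⟨w, hw, j, hj, hwj⟩ := Submodule.mem_sup.1 (hx r s)
      obtain ⟨a', ha', i, hi, hai⟩ := Submodule.mem_sup.1 hw
      obtain ⟨z, hz⟩ := Ideal.mem_span_singleton'.1 ha'
      refine ⟨z, ?_⟩
      rw [← T_eq_zero_iff]
      have hx' : (p : WittVector p R) ^ u * z - x = -(i + j) := by
        rw [← hwj, ← hai, ← hz]; ring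
      rw [hx', map_neg, map_add, neg_eq_zero]
      have hTi : T p R s r i = 0 := by
        rw [T_eq_zero_iff]
        intro k hk
        rw [(WittVector.mem_ker_truncate r i).1 hi k hk]
        exact zero_mem _
      have hTj : T p R s r j = 0 := by
        rw [T, RingHom.comp_apply, (RingHom.mem_ker).1 hj, map_zero]
      rw [hTi, hTj, add_zero]
    choose y hy using hA
    -- Step B: compatibility
    have hB : ∀ r r' : ℕ, r ≤ r' → ∀ i < r, (y r').coeff i = (y r).coeff i := by
      intro r r' hrr'
      rw [← truncate_eq_iff, ← sub_eq_zero, ← map_sub]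
      apply truncate_eq_zero_of_pow_mul hR _ r u
      have : (p : WittVector p R) ^ u * (y r' - y r)
          = ((p : WittVector p R) ^ u * y r' - x) - ((p : WittVector p R) ^ u * y r - x) := by
        ring
      rw [this, map_sub, (truncate_eq_zero_iff hR r _).2 (hy r),
        (truncate_eq_zero_iff hR r _).2 (fun i hi => hy r' i (by omega)), sub_zero]
    -- Step C: glue
    have hC : (p : WittVector p R) ^ u * WittVector.mk p (fun k => (y (k + 1)).coeff k) = x := by
      rw [← sub_eq_zero]
      ext i
      rw [WittVector.zero_coeff]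
      have h1 : WittVector.truncate (i + 1)
          (WittVector.mk p (fun k => (y (k + 1)).coeff k)) = WittVector.truncate (i + 1) (y (i + 1)) := by
        rw [truncate_eq_iff]
        intro k hk
        rw [WittVector.coeff_mk]
        exact (hB (k + 1) (i + 1) (by omega) k (by omega)).symm
      have h2 : WittVector.truncate (i + 1) ((p : WittVector p R) ^ u *
          WittVector.mk p (fun k => (y (k + 1)).coeff k) - x) = 0 := by
        rw [map_sub, map_mul, h1, ← map_mul, ← map_sub]
        exact (truncate_eq_zero_iff hR (i + 1) _).2 (hy (i + 1))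
      exact (truncate_eq_zero_iff hR (i + 1) _).1 h2 i (by omega)
    rw [← hC]
    exact Ideal.mem_span_singleton'.2 ⟨_, mul_comm _ _⟩
  · exact le_iInf fun r => le_iInf fun s => le_sup_of_le_left le_sup_left

end complete

end Groth.Agent.H66.WittLim
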